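import Mathlib
import Cfsg.Agent.H943.E7V.Block
import Cfsg.Agent.H944.E7Two
import Cfsg.Agent.H952.F4.Scott_m3
import Cfsg.Agent.KFacts.En.Roots
import Cfsg.Agent.H129.StCover
import Cfsg.Agent.H129.PhiE
import Cfsg.Agent.S1054
import Cfsg.Agent.S1064
import Cfsg.Agent.S1079
import Cfsg.Agent.Lib.ListFast
import Cfsg.Agent.H129.TorusUntw
import Cfsg.Agent.H943.E7V.TorMain
import Cfsg.Agent.H65.E6Ext_m3
import Cfsg.Agent.H944.E6Tab
import Cfsg.Agent.Prune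
set_option linter.all false

section
prune_inst 0x7ffdbdff7ffcebffffff7ffffed7ffffffbbffffe6fffdcb7fe861ffabdf3f908de7fb958ff810fe1fb7cb1414fa7b53fbfffeffea6ffc7ffffdfff41ffbffdfedf6b50851dc88be0fbc0fff83f07f8e7f3fffffffffffffffffffffffffffbeffbfffffffff

-- part: R2/T1/Inf/Defs
section
set_option linter.all false

/-!
# S5771, S5929: common definitions (helper11)

* `Gh F` : the simply connected group of type `E₇` over `F` (the presented group);
* `V F` : its 56-dimensional module `D1 → F`; `LK F`, `L F` : the adjoint module `chevE7.Idx → F` of `chevE7.group F`,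
  of `Gh F`; `ad F : Gh F →* chevE7.group F` the surjection (kernel = centre, acting as `±1` on `V F`);
* `emb f : Gh F →* Gh K` for `f : F →+* K`;
* `Lift`, `Cover` : the two possibilities for the preimage of an alternating group;
* `Stab ρ H W` : `W` is stable under the preimage of `H`.
-/

set_option autoImplicit false

namespace Cfsg.Agent.R2.T1

open Cfsg Cfsg.Lie Module
open Cfsg.Agent.ChevalleyStructure.StTheta Cfsg.Agent.ChevalleyStructure.StEmbed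
open Cfsg.Agent.H943.E7V.Block (D1 rho)
open Cfsg.Agent.H952.F4 (ev es matRep MaxAlt)

section
variable (F : Type*) [Field F]

/-- the simply connected group of type `E₇` -/
abbrev Gh : Type _ := chevE7.SteinbergGroup F

/-- the 56-dimensional module -/
noncomputable def V : Representation F (Gh F) (D1 → F) :=
  ((Matrix.toLinAlgEquiv' : Matrix D1 D1 F ≃ₐ[F] ((D1 → F) →ₗ[F] (D1 → F))) : Matrix D1 D1 F →* _).comp (rho F)

/-- the adjoint module of the Chevalley group -/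
noncomputable def LK : Representation F ↥(chevE7.group F) (chevE7.Idx → F) := matRep (chevE7.group F)

/-- the surjection onto the Chevalley group -/
noncomputable def ad : Gh F →* ↥(chevE7.group F) := theta Cfsg.Agent.H944.E7Two.e7T.inList F

/-- the adjoint module -/
noncomputable def L : Representation F (Gh F) (chevE7.Idx → F) := MonoidHom.comp (LK F) (ad F)

end

variable {F : Type*} [Field F]

theorem V_apply (g : Gh F) (x : D1 → F) : V F g x = (rho F g).mulVec x := rfl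

theorem V_eq (g : Gh F) : V F g = Matrix.toLin' (rho F g) := rfl

theorem L_eq (g : Gh F) : L F g = LK F (ad F g) := rfl

set_option maxRecDepth 20000 in
theorem LK_apply (g : ↥(chevE7.group F)) (x : chevE7.Idx → F) :
    LK F g x = ((g : GL chevE7.Idx F) : Matrix chevE7.Idx chevE7.Idx F).mulVec x := rfl

/-- `ψ` is a lift of `φ` to the simply connected group -/
def Lift {A : Type*} [Group A] (φ : A →* ↥(chevE7.group F)) (ψ : A →* Gh F) : Prop := ∀ a, ad F (ψ a) = φ a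

/-- the preimage of the image of `φ` is a non-split central extension with centre of order 2: the element acting as
`-1` belongs to its commutator subgroup -/
def Cover {A : Type*} [Group A] (φ : A →* ↥(chevE7.group F)) : Prop :=
  ∃ z : Gh F, z ≠ 1 ∧ (∀ v, V F z v = -v) ∧ ad F z = 1 ∧
    z ∈ (⁅(φ.range.comap (ad F)), (φ.range.comap (ad F))⁆ : Subgroup (Gh F))

/-- `W` is stable under the preimage of `H` -/
def Stab {M : Type*} [AddCommGroup M] [Module F M] (ρ : Representation F (Gh F) M)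
    (H : Subgroup ↥(chevE7.group F)) (W : Submodule F M) : Prop :=
  ∀ g : Gh F, ad F g ∈ H → ∀ w ∈ W, ρ g w ∈ W

end Cfsg.Agent.R2.T1
end

-- part: R2/T1/Inf/Mat
section
prune_inst 0x24200800314000000000001280000004400001900023080179e005420c06f7218042a7007ef01e04834eb2a0580ac04000100159001000002000b6004002012094af7ae237741f043f0007c0f807180c00000000000000000000000000041004000000000
set_option linter.all false
open scoped Cfsg.Agent.FastGrp
private noncomputable def lq265f070a5b {T : Sort _} (f :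
    type_of% (@_root_.Prod.mk.{0, 0}) →
    type_of% (@_root_.List.cons.{0}) →
    type_of% (@_root_.List.nil.{0}) →
    ((List (Prod Nat (Prod Nat Int))) → (List (Prod Nat (Prod Nat Int)))) →
    type_of% (@_root_.List.cons.{0} (List (Prod Nat (Prod Nat Int)))) → T) : T :=
  f (@_root_.Prod.mk.{0, 0}) (@_root_.List.cons.{0}) (@_root_.List.nil.{0}) (fun x => x) (@_root_.List.cons.{0} (List (Prod Nat (Prod Nat Int))))

/-!
# The root elements on the 56-dimensional module of `E₇` (helper11)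

`mv r s` : the root element `x_r(1) - 1` maps the basis vector `s` to `c` times the basis vector `u`, `mv r s = some (u, c)`.
-/

set_option autoImplicit false
set_option maxRecDepth 100000

namespace Cfsg.Agent.R2.T1

open Cfsg Cfsg.Lie Module
open Cfsg.Agent.ChevalleyStructure.StTheta Cfsg.Agent.ChevalleyStructure.StEmbed Cfsg.Agent.ChevalleyStructure.StBasic
open Cfsg.Agent.ChevalleyStructure Cfsg.Agent.ChevalleyStructure.Elts Cfsg.Agent.ChevalleyStructure.RootVec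
  Cfsg.Agent.ChevalleyStructure.RootVecTab Cfsg.Agent.ChevalleyStructure.CoxeterGeomTypes
open Cfsg.Agent.KFacts.En.Roots Cfsg.Agent.H120.StSeven
open Cfsg.Agent.H943.E7V.Block

/-- the table of `s + r = u` with signs -/
def T56 : List (List (ℕ × ℕ × ℤ)) :=
  (beta% delta% lq265f070a5b fun a b c d e =>
 (let f:=(let f:=(let f:=(let f:=(let f:=(e ((b (a 120<|a 211 (-1))<|b (a 122<|
 a 212 1)<|b (a 125<|a 213 (-1))<|b (a 134<|a 218 1)<|b (a 140<|a 223 (-1))<|b (a 155<|a 225 1)<|b (a 168<|a 230 1)<|b (a 177<|a 233 (-1))<|b (a 187<|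
 a 234 (-1))<|b (a 196<|a 236 1)<|b (a 198<|a 237 1)<|b (a 199<|a 238 1)<|c) :type_of% (d _))<|e ((b (a 120<|a 215 (-1))<|b (a 122<|a 216 1)<|b (a 125<|a 217 (-1))<|
 b (a 129<|a 218 1)<|b (a 140<|a 224 (-1))<|b (a 151<|a 225 (-1))<|b (a 168<|a 231 1)<|b (a 173<|a 233 1)<|b (a 187<|a 235 (-1))<|b (a 190<|a 236
 (-1))<|b (a 192<|a 237 (-1))<|b (a 193<|a 238 (-1))<|c) :type_of% (d _))<|e ((b (a 120<|a 220 (-1))<|b (a 122<|a 221 1)<|b (a 125<|a 222 (-1))<|b (a 129<|a 223 1)<|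
 b (a 134<|a 224 (-1))<|b (a 146<|a 225 1)<|b (a 168<|a 232 1)<|b (a 173<|a 234 1)<|b (a 177<|a 235 1)<|b (a 180<|a 236 1)<|b (a 182<|a 237 1)<|
 b (a 183<|a 238 1)<|c) :type_of% (d _))<|e ((b (a 120<|a 227 (-1))<|b (a 122<|a 228 1)<|b (a 125<|a 229 (-1))<|b (a 129<|a 230 1)<|b (a 134<|a 231 (-1))<|b (a 140<|
 a 232 1)<|b (a 146<|a 233 1)<|b (a 151<|a 234 1)<|b (a 155<|a 235 1)<|b (a 158<|a 236 1)<|b (a 160<|a 237 1)<|b (a 161<|a 238 1)<|c) :type_of% (d _))<|c);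
 (e ((b (a 120<|a 201 (-1))<|b (a 122<|a 202 1)<|b (a 125<|a 203
 (-1))<|b (a 146<|a 218 1)<|b (a 151<|a 223 1)<|b (a 155<|a 224 1)<|b (a 173<|a 230 (-1))<|b (a 177<|a 231 (-1))<|b (a 187<|a 232 (-1))<|b (a 206<|
 a 236 (-1))<|b (a 208<|a 237 (-1))<|b (a 209<|a 238 (-1))<|c) :type_of% (d _))<|e ((b (a 122<|a 206 (-1))<|b (a 125<|a 208 1)<|b (a 129<|a 211 (-1))<|b (a 134<|a 215
 1)<|b (a 140<|a 220 (-1))<|b (a 161<|a 225 (-1))<|b (a 168<|a 227 1)<|b (a 183<|a 233 1)<|b (a 193<|a 234 1)<|b (a 199<|a 235 1)<|b (a 202<|a 236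
 1)<|b (a 203<|a 237 1)<|c) :type_of% (d _))<|e ((b (a 120<|a 206 (-1))<|b (a 125<|a 209 1)<|b (a 129<|a 212 (-1))<|b (a 134<|a 216 1)<|b (a 140<|a 221 (-1))<|b (a 160<|
 a 225 1)<|b (a 168<|a 228 1)<|b (a 182<|a 233 (-1))<|b (a 192<|a 234 (-1))<|b (a 198<|a 235 (-1))<|b (a 201<|a 236 (-1))<|b (a 203<|a 238 1)<|c) :type_of% (d _))<|
 e ((b (a 120<|a 208 (-1))<|b (a 122<|a 209 1)<|b (a 129<|a 213 (-1))<|b (a 134<|a 217 1)<|b (a 140<|a 222 (-1))<|b (a 158<|a 225 (-1))<|b (a 168<|a 229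
 1)<|b (a 180<|a 233 1)<|b (a 190<|a 234 1)<|b (a 196<|a 235 1)<|b (a 201<|a 237 (-1))<|b (a 202<|a 238 (-1))<|c) :type_of% (d _))<|f));
 (let f:=(e ((b (a 120<|a 192 (-1))<|b (a 122<|a 193 1)<|b (a 134<|a 203 (-1))<|b (a 146<|a 213 1)<|b (a 155<|
 a 222 (-1))<|b (a 158<|a 223 (-1))<|b (a 177<|a 229 1)<|b (a 180<|a 230 1)<|b (a 196<|a 232 (-1))<|b (a 206<|a 234 (-1))<|b (a 215<|a 237 (-1))<|
 b (a 216<|a 238 (-1))<|c) :type_of% (d _))<|e ((b (a 122<|a 196 (-1))<|b (a 125<|a 198 1)<|b (a 129<|a 201 (-1))<|b (a 146<|a 215 1)<|b (a 151<|a 220 1)<|b (a 161<|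
 a 224 (-1))<|b (a 173<|a 227 (-1))<|b (a 183<|a 231 1)<|b (a 193<|a 232 1)<|b (a 209<|a 235 (-1))<|b (a 212<|a 236 (-1))<|b (a 213<|a 237 (-1))<|c) :type_of% (d _))<|
 e ((b (a 120<|a 196 (-1))<|b (a 125<|a 199 1)<|b (a 129<|a 202 (-1))<|b (a 146<|a 216 1)<|b (a 151<|a 221 1)<|b (a 160<|a 224 1)<|b (a 173<|a 228
 (-1))<|b (a 182<|a 231 (-1))<|b (a 192<|a 232 (-1))<|b (a 208<|a 235 1)<|b (a 211<|a 236 1)<|b (a 213<|a 238 (-1))<|c) :type_of% (d _))<|e ((b (a 120<|a 198 (-1))<|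
 b (a 122<|a 199 1)<|b (a 129<|a 203 (-1))<|b (a 146<|a 217 1)<|b (a 151<|a 222 1)<|b (a 158<|a 224 (-1))<|b (a 173<|a 229 (-1))<|b (a 180<|a 231 1)<|
 b (a 190<|a 232 1)<|b (a 206<|a 235 (-1))<|b (a 211<|a 237 1)<|b (a 212<|a 238 1)<|c) :type_of% (d _))<|f);
 (e ((b (a 122<|a 187 (-1))<|b (a 129<|a 192 1)<|b (a 134<|a 198 (-1))<|b (a 146<|a 208 1)<|b (a 158<|a 220 1)<|b (a 161<|a 222 (-1))<|
 b (a 180<|a 227 (-1))<|b (a 183<|a 229 1)<|b (a 202<|a 232 1)<|b (a 212<|a 234 1)<|b (a 216<|a 235 1)<|b (a 218<|a 237 (-1))<|c) :type_of% (d _))<|e ((b (a 120<|a 187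
 (-1))<|b (a 129<|a 193 1)<|b (a 134<|a 199 (-1))<|b (a 146<|a 209 1)<|b (a 158<|a 221 1)<|b (a 160<|a 222 1)<|b (a 180<|a 228 (-1))<|b (a 182<|a 229
 (-1))<|b (a 201<|a 232 (-1))<|b (a 211<|a 234 (-1))<|b (a 215<|a 235 (-1))<|b (a 218<|a 238 (-1))<|c) :type_of% (d _))<|e ((b (a 122<|a 190 (-1))<|b (a 125<|a 192 1)<|
 b (a 134<|a 201 (-1))<|b (a 146<|a 211 1)<|b (a 155<|a 220 (-1))<|b (a 161<|a 223 (-1))<|b (a 177<|a 227 1)<|b (a 183<|a 230 1)<|b (a 199<|a 232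
 (-1))<|b (a 209<|a 234 (-1))<|b (a 216<|a 236 1)<|b (a 217<|a 237 1)<|c) :type_of% (d _))<|e ((b (a 120<|a 190 (-1))<|b (a 125<|a 193 1)<|b (a 134<|a 202 (-1))<|
 b (a 146<|a 212 1)<|b (a 155<|a 221 (-1))<|b (a 160<|a 223 1)<|b (a 177<|a 228 1)<|b (a 182<|a 230 (-1))<|b (a 198<|a 232 1)<|b (a 208<|a 234 1)<|
 b (a 215<|a 236 (-1))<|b (a 217<|a 238 1)<|c) :type_of% (d _))<|f)));
 (let f:=(let f:=(e ((b (a 122<|a 180 (-1))<|b (a 125<|
 a 182 1)<|b (a 140<|a 201 (-1))<|b (a 151<|a 211 (-1))<|b (a 155<|a 215 (-1))<|b (a 161<|a 218 (-1))<|b (a 187<|a 227 (-1))<|b (a 193<|a 230 (-1))<|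
 b (a 199<|a 231 (-1))<|b (a 209<|a 233 (-1))<|b (a 221<|a 236 (-1))<|b (a 222<|a 237 (-1))<|c) :type_of% (d _))<|e ((b (a 120<|a 180 (-1))<|b (a 125<|a 183 1)<|b (a 140<|
 a 202 (-1))<|b (a 151<|a 212 (-1))<|b (a 155<|a 216 (-1))<|b (a 160<|a 218 1)<|b (a 187<|a 228 (-1))<|b (a 192<|a 230 1)<|b (a 198<|a 231 1)<|
 b (a 208<|a 233 1)<|b (a 220<|a 236 1)<|b (a 222<|a 238 (-1))<|c) :type_of% (d _))<|e ((b (a 120<|a 182 (-1))<|b (a 122<|a 183 1)<|b (a 140<|a 203 (-1))<|b (a 151<|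
 a 213 (-1))<|b (a 155<|a 217 (-1))<|b (a 158<|a 218 (-1))<|b (a 187<|a 229 (-1))<|b (a 190<|a 230 (-1))<|b (a 196<|a 231 (-1))<|b (a 206<|a 233 (-1))<|
 b (a 220<|a 237 1)<|b (a 221<|a 238 1)<|c) :type_of% (d _))<|e ((b (a 125<|a 187 (-1))<|b (a 129<|a 190 1)<|b (a 134<|a 196 (-1))<|b (a 146<|a 206 1)<|b (a 160<|a 220
 (-1))<|b (a 161<|a 221 (-1))<|b (a 182<|a 227 1)<|b (a 183<|a 228 1)<|b (a 203<|a 232 (-1))<|b (a 213<|a 234 (-1))<|b (a 217<|a 235 (-1))<|b (a 218<|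
 a 236 (-1))<|c) :type_of% (d _))<|f);
 (e ((b (a 120<|a 173 (-1))<|b (a 134<|a 183 1)<|b (a 140<|a 193
 (-1))<|b (a 155<|a 209 1)<|b (a 158<|a 212 1)<|b (a 160<|a 213 1)<|b (a 196<|a 228 (-1))<|b (a 198<|a 229 (-1))<|b (a 201<|a 230 (-1))<|b (a 215<|
 a 233 1)<|b (a 220<|a 234 1)<|b (a 224<|a 238 (-1))<|c) :type_of% (d _))<|e ((b (a 125<|a 177 (-1))<|b (a 129<|a 180 1)<|b (a 140<|a 196 (-1))<|b (a 151<|a 206 (-1))<|
 b (a 160<|a 215 (-1))<|b (a 161<|a 216 (-1))<|b (a 192<|a 227 (-1))<|b (a 193<|a 228 (-1))<|b (a 203<|a 231 (-1))<|b (a 213<|a 233 (-1))<|b (a 222<|a 235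
 1)<|b (a 223<|a 236 1)<|c) :type_of% (d _))<|e ((b (a 122<|a 177 (-1))<|b (a 129<|a 182 1)<|b (a 140<|a 198 (-1))<|b (a 151<|a 208 (-1))<|b (a 158<|a 215 1)<|b (a 161<|
 a 217 (-1))<|b (a 190<|a 227 1)<|b (a 193<|a 229 (-1))<|b (a 202<|a 231 1)<|b (a 212<|a 233 1)<|b (a 221<|a 235 (-1))<|b (a 223<|a 237 1)<|c) :type_of% (d _))<|
 e ((b (a 120<|a 177 (-1))<|b (a 129<|a 183 1)<|b (a 140<|a 199 (-1))<|b (a 151<|a 209 (-1))<|b (a 158<|a 216 1)<|b (a 160<|a 217 1)<|b (a 190<|a 228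
 1)<|b (a 192<|a 229 1)<|b (a 201<|a 231 (-1))<|b (a 211<|a 233 (-1))<|b (a 220<|a 235 1)<|b (a 223<|a 238 1)<|c) :type_of% (d _))<|f));
 (let f:=(e ((b (a 120<|a 168 (-1))<|b (a 146<|a 183 1)<|b (a 151<|a 193 1)<|b (a 155<|a 199 1)<|b (a 158<|
 a 202 1)<|b (a 160<|a 203 1)<|b (a 206<|a 228 1)<|b (a 208<|a 229 1)<|b (a 211<|a 230 1)<|b (a 215<|a 231 1)<|b (a 220<|a 232 1)<|b (a 225<|
 a 238 1)<|c) :type_of% (d _))<|e ((b (a 129<|a 173 (-1))<|b (a 134<|a 177 1)<|b (a 140<|a 187 (-1))<|b (a 158<|a 206 (-1))<|b (a 160<|a 208 (-1))<|b (a 161<|a 209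
 (-1))<|b (a 201<|a 227 (-1))<|b (a 202<|a 228 (-1))<|b (a 203<|a 229 (-1))<|b (a 218<|a 233 (-1))<|b (a 223<|a 234 (-1))<|b (a 224<|a 235 (-1))<|c) :type_of% (d _))<|
 e ((b (a 125<|a 173 (-1))<|b (a 134<|a 180 1)<|b (a 140<|a 190 (-1))<|b (a 155<|a 206 1)<|b (a 160<|a 211 (-1))<|b (a 161<|a 212 (-1))<|b (a 198<|a 227
 1)<|b (a 199<|a 228 1)<|b (a 203<|a 230 (-1))<|b (a 217<|a 233 1)<|b (a 222<|a 234 1)<|b (a 224<|a 236 (-1))<|c) :type_of% (d _))<|e ((b (a 122<|a 173 (-1))<|b (a 134<|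
 a 182 1)<|b (a 140<|a 192 (-1))<|b (a 155<|a 208 1)<|b (a 158<|a 211 1)<|b (a 161<|a 213 (-1))<|b (a 196<|a 227 (-1))<|b (a 199<|a 229 1)<|b (a 202<|
 a 230 1)<|b (a 216<|a 233 (-1))<|b (a 221<|a 234 (-1))<|b (a 224<|a 237 (-1))<|c) :type_of% (d _))<|f);
 (e ((b (a 134<|a 168 (-1))<|b (a 146<|a 173 1)<|b (a 155<|a 187 (-1))<|b (a 158<|a 190 (-1))<|b (a 160<|a 192 (-1))<|b (a 161<|a 193
 (-1))<|b (a 215<|a 227 (-1))<|b (a 216<|a 228 (-1))<|b (a 217<|a 229 (-1))<|b (a 218<|a 230 (-1))<|b (a 224<|a 232 1)<|b (a 225<|a 234 1)<|c) :type_of% (d _))<|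
 e ((b (a 129<|a 168 (-1))<|b (a 146<|a 177 1)<|b (a 151<|a 187 1)<|b (a 158<|a 196 (-1))<|b (a 160<|a 198 (-1))<|b (a 161<|a 199 (-1))<|b (a 211<|a 227
 1)<|b (a 212<|a 228 1)<|b (a 213<|a 229 1)<|b (a 218<|a 231 (-1))<|b (a 223<|a 232 (-1))<|b (a 225<|a 235 1)<|c) :type_of% (d _))<|e ((b (a 125<|a 168 (-1))<|b (a 146<|
 a 180 1)<|b (a 151<|a 190 1)<|b (a 155<|a 196 1)<|b (a 160<|a 201 (-1))<|b (a 161<|a 202 (-1))<|b (a 208<|a 227 (-1))<|b (a 209<|a 228 (-1))<|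
 b (a 213<|a 230 1)<|b (a 217<|a 231 1)<|b (a 222<|a 232 1)<|b (a 225<|a 236 1)<|c) :type_of% (d _))<|e ((b (a 122<|a 168 (-1))<|b (a 146<|a 182 1)<|b (a 151<|a 192
 1)<|b (a 155<|a 198 1)<|b (a 158<|a 201 1)<|b (a 161<|a 203 (-1))<|b (a 206<|a 227 1)<|b (a 209<|a 229 (-1))<|b (a 212<|a 230 (-1))<|b (a 216<|a 231
 (-1))<|b (a 221<|a 232 (-1))<|b (a 225<|a 237 1)<|c) :type_of% (d _))<|f))));
 (let f:=(let f:=(let f:=(e ((b (a 122<|a 158 (-1))<|b (a 125<|a 160 1)<|b (a 168<|a 201 1)<|b (a 173<|a 211 1)<|b (a 177<|a 215 1)<|b (a 183<|a 218 1)<|b (a 187<|a 220 1)<|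
 b (a 193<|a 223 1)<|b (a 199<|a 224 1)<|b (a 209<|a 225 1)<|b (a 228<|a 236 (-1))<|b (a 229<|a 237 (-1))<|c) :type_of% (d _))<|e ((b (a 120<|a 158 (-1))<|b (a 125<|
 a 161 1)<|b (a 168<|a 202 1)<|b (a 173<|a 212 1)<|b (a 177<|a 216 1)<|b (a 182<|a 218 (-1))<|b (a 187<|a 221 1)<|b (a 192<|a 223 (-1))<|b (a 198<|
 a 224 (-1))<|b (a 208<|a 225 (-1))<|b (a 227<|a 236 1)<|b (a 229<|a 238 (-1))<|c) :type_of% (d _))<|e ((b (a 120<|a 160 (-1))<|b (a 122<|a 161 1)<|b (a 168<|a 203 1)<|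
 b (a 173<|a 213 1)<|b (a 177<|a 217 1)<|b (a 180<|a 218 1)<|b (a 187<|a 222 1)<|b (a 190<|a 223 1)<|b (a 196<|a 224 1)<|b (a 206<|a 225 1)<|
 b (a 227<|a 237 1)<|b (a 228<|a 238 1)<|c) :type_of% (d _))<|e ((b (a 140<|a 168 (-1))<|b (a 151<|a 173 (-1))<|b (a 155<|a 177 (-1))<|b (a 158<|a 180 (-1))<|b (a 160<|
 a 182 (-1))<|b (a 161<|a 183 (-1))<|b (a 220<|a 227 1)<|b (a 221<|a 228 1)<|b (a 222<|a 229 1)<|b (a 223<|a 230 1)<|b (a 224<|a 231 1)<|b (a 225<|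
 a 233 1)<|c) :type_of% (d _))<|f);
 (e ((b (a 120<|a 151 (-1))<|
 b (a 134<|a 161 1)<|b (a 168<|a 193 1)<|b (a 177<|a 209 (-1))<|b (a 180<|a 212 (-1))<|b (a 182<|a 213 (-1))<|b (a 196<|a 221 1)<|b (a 198<|a 222 1)<|
 b (a 201<|a 223 1)<|b (a 215<|a 225 (-1))<|b (a 227<|a 234 1)<|b (a 231<|a 238 (-1))<|c) :type_of% (d _))<|e ((b (a 125<|a 155 (-1))<|b (a 129<|a 158 1)<|b (a 168<|
 a 196 1)<|b (a 173<|a 206 1)<|b (a 182<|a 215 1)<|b (a 183<|a 216 1)<|b (a 192<|a 220 1)<|b (a 193<|a 221 1)<|b (a 203<|a 224 1)<|b (a 213<|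
 a 225 1)<|b (a 229<|a 235 1)<|b (a 230<|a 236 1)<|c) :type_of% (d _))<|e ((b (a 122<|a 155 (-1))<|b (a 129<|a 160 1)<|b (a 168<|a 198 1)<|b (a 173<|a 208 1)<|
 b (a 180<|a 215 (-1))<|b (a 183<|a 217 1)<|b (a 190<|a 220 (-1))<|b (a 193<|a 222 1)<|b (a 202<|a 224 (-1))<|b (a 212<|a 225 (-1))<|b (a 228<|a 235
 (-1))<|b (a 230<|a 237 1)<|c) :type_of% (d _))<|e ((b (a 120<|a 155 (-1))<|b (a 129<|a 161 1)<|b (a 168<|a 199 1)<|b (a 173<|a 209 1)<|b (a 180<|a 216 (-1))<|b (a 182<|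
 a 217 (-1))<|b (a 190<|a 221 (-1))<|b (a 192<|a 222 (-1))<|b (a 201<|a 224 1)<|b (a 211<|a 225 1)<|b (a 227<|a 235 1)<|b (a 230<|a 238 1)<|c) :type_of% (d _))<|
 f));
 (let f:=(e ((b (a 120<|a 146 (-1))<|b (a 140<|a 161 1)<|b (a 168<|
 a 183 1)<|b (a 187<|a 209 1)<|b (a 190<|a 212 1)<|b (a 192<|a 213 1)<|b (a 196<|a 216 1)<|b (a 198<|a 217 1)<|b (a 201<|a 218 1)<|b (a 220<|
 a 225 1)<|b (a 227<|a 233 1)<|b (a 232<|a 238 1)<|c) :type_of% (d _))<|e ((b (a 129<|a 151 (-1))<|b (a 134<|a 155 1)<|b (a 168<|a 187 1)<|b (a 180<|a 206 1)<|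
 b (a 182<|a 208 1)<|b (a 183<|a 209 1)<|b (a 201<|a 220 1)<|b (a 202<|a 221 1)<|b (a 203<|a 222 1)<|b (a 218<|a 225 1)<|b (a 230<|a 234 (-1))<|
 b (a 231<|a 235 (-1))<|c) :type_of% (d _))<|e ((b (a 125<|a 151 (-1))<|b (a 134<|a 158 1)<|b (a 168<|a 190 1)<|b (a 177<|a 206 (-1))<|b (a 182<|a 211 1)<|b (a 183<|
 a 212 1)<|b (a 198<|a 220 (-1))<|b (a 199<|a 221 (-1))<|b (a 203<|a 223 1)<|b (a 217<|a 225 (-1))<|b (a 229<|a 234 1)<|b (a 231<|a 236 (-1))<|c) :type_of% (d _))<|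
 e ((b (a 122<|a 151 (-1))<|b (a 134<|a 160 1)<|b (a 168<|a 192 1)<|b (a 177<|a 208 (-1))<|b (a 180<|a 211 (-1))<|b (a 183<|a 213 1)<|b (a 196<|a 220
 1)<|b (a 199<|a 222 (-1))<|b (a 202<|a 223 (-1))<|b (a 216<|a 225 1)<|b (a 228<|a 234 (-1))<|b (a 231<|a 237 (-1))<|c) :type_of% (d _))<|f);
 (e ((b (a 134<|a 146 (-1))<|b (a 140<|a 151 1)<|b (a 168<|a 173 1)<|b (a 196<|
 a 206 1)<|b (a 198<|a 208 1)<|b (a 199<|a 209 1)<|b (a 201<|a 211 1)<|b (a 202<|a 212 1)<|b (a 203<|a 213 1)<|b (a 224<|a 225 1)<|b (a 231<|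
 a 233 1)<|b (a 232<|a 234 1)<|c) :type_of% (d _))<|e ((b (a 129<|a 146 (-1))<|b (a 140<|a 155 1)<|b (a 168<|a 177 1)<|b (a 190<|a 206 (-1))<|b (a 192<|a 208 (-1))<|
 b (a 193<|a 209 (-1))<|b (a 201<|a 215 1)<|b (a 202<|a 216 1)<|b (a 203<|a 217 1)<|b (a 223<|a 225 (-1))<|b (a 230<|a 233 (-1))<|b (a 232<|a 235
 1)<|c) :type_of% (d _))<|e ((b (a 125<|a 146 (-1))<|b (a 140<|a 158 1)<|b (a 168<|a 180 1)<|b (a 187<|a 206 1)<|b (a 192<|a 211 (-1))<|b (a 193<|a 212 (-1))<|b (a 198<|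
 a 215 (-1))<|b (a 199<|a 216 (-1))<|b (a 203<|a 218 1)<|b (a 222<|a 225 1)<|b (a 229<|a 233 1)<|b (a 232<|a 236 1)<|c) :type_of% (d _))<|e ((b (a 122<|a 146 (-1))<|
 b (a 140<|a 160 1)<|b (a 168<|a 182 1)<|b (a 187<|a 208 1)<|b (a 190<|a 211 1)<|b (a 193<|a 213 (-1))<|b (a 196<|a 215 1)<|b (a 199<|a 217 (-1))<|
 b (a 202<|a 218 (-1))<|b (a 221<|a 225 (-1))<|b (a 228<|a 233 (-1))<|b (a 232<|a 237 1)<|c) :type_of% (d _))<|f)));
 (let f:=(let f:=(e ((b (a 129<|a 140 (-1))<|b (a 146<|a 155 1)<|b (a 173<|a 187 (-1))<|b (a 180<|a 196 1)<|b (a 182<|a 198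
 1)<|b (a 183<|a 199 1)<|b (a 211<|a 220 (-1))<|b (a 212<|a 221 (-1))<|b (a 213<|a 222 (-1))<|b (a 218<|a 224 1)<|b (a 230<|a 232 (-1))<|b (a 233<|
 a 235 1)<|c) :type_of% (d _))<|e ((b (a 125<|a 140 (-1))<|b (a 146<|a 158 1)<|b (a 173<|a 190 (-1))<|b (a 177<|a 196 (-1))<|b (a 182<|a 201 1)<|b (a 183<|a 202 1)<|
 b (a 208<|a 220 1)<|b (a 209<|a 221 1)<|b (a 213<|a 223 (-1))<|b (a 217<|a 224 (-1))<|b (a 229<|a 232 1)<|b (a 233<|a 236 1)<|c) :type_of% (d _))<|e ((b (a 122<|a 140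
 (-1))<|b (a 146<|a 160 1)<|b (a 173<|a 192 (-1))<|b (a 177<|a 198 (-1))<|b (a 180<|a 201 (-1))<|b (a 183<|a 203 1)<|b (a 206<|a 220 (-1))<|b (a 209<|
 a 222 1)<|b (a 212<|a 223 1)<|b (a 216<|a 224 1)<|b (a 228<|a 232 (-1))<|b (a 233<|a 237 1)<|c) :type_of% (d _))<|e ((b (a 120<|a 140 (-1))<|b (a 146<|a 161 1)<|
 b (a 173<|a 193 (-1))<|b (a 177<|a 199 (-1))<|b (a 180<|a 202 (-1))<|b (a 182<|a 203 (-1))<|b (a 206<|a 221 (-1))<|b (a 208<|a 222 (-1))<|b (a 211<|a 223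
 (-1))<|b (a 215<|a 224 (-1))<|b (a 227<|a 232 1)<|b (a 233<|a 238 1)<|c) :type_of% (d _))<|f);
 (e ((b (a 125<|a 134 (-1))<|b (a 151<|a 158 1)<|b (a 173<|a 180 1)<|b (a 187<|a 196 (-1))<|b (a 192<|a 201 1)<|b (a 193<|
 a 202 1)<|b (a 208<|a 215 (-1))<|b (a 209<|a 216 (-1))<|b (a 213<|a 218 1)<|b (a 222<|a 224 (-1))<|b (a 229<|a 231 (-1))<|b (a 234<|a 236 1)<|c) :type_of% (d _))<|
 e ((b (a 122<|a 134 (-1))<|b (a 151<|a 160 1)<|b (a 173<|a 182 1)<|b (a 187<|a 198 (-1))<|b (a 190<|a 201 (-1))<|b (a 193<|a 203 1)<|b (a 206<|a 215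
 1)<|b (a 209<|a 217 (-1))<|b (a 212<|a 218 (-1))<|b (a 221<|a 224 1)<|b (a 228<|a 231 1)<|b (a 234<|a 237 1)<|c) :type_of% (d _))<|e ((b (a 120<|a 134 (-1))<|b (a 151<|
 a 161 1)<|b (a 173<|a 183 1)<|b (a 187<|a 199 (-1))<|b (a 190<|a 202 (-1))<|b (a 192<|a 203 (-1))<|b (a 206<|a 216 1)<|b (a 208<|a 217 1)<|b (a 211<|
 a 218 1)<|b (a 220<|a 224 (-1))<|b (a 227<|a 231 (-1))<|b (a 234<|a 238 1)<|c) :type_of% (d _))<|e ((b (a 134<|a 140 (-1))<|b (a 146<|a 151 1)<|b (a 177<|a 187 1)<|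
 b (a 180<|a 190 1)<|b (a 182<|a 192 1)<|b (a 183<|a 193 1)<|b (a 215<|a 220 1)<|b (a 216<|a 221 1)<|b (a 217<|a 222 1)<|b (a 218<|a 223 1)<|
 b (a 231<|a 232 1)<|b (a 233<|a 234 1)<|c) :type_of% (d _))<|f));
 (e ((b (a 120<|a 122 (-1))<|b (a 160<|a 161
 1)<|b (a 182<|a 183 1)<|b (a 192<|a 193 1)<|b (a 198<|a 199 1)<|b (a 201<|a 202 1)<|b (a 208<|a 209 1)<|b (a 211<|a 212 1)<|b (a 215<|a 216
 1)<|b (a 220<|a 221 1)<|b (a 227<|a 228 1)<|b (a 237<|a 238 1)<|c) :type_of% (d _))<|e ((b (a 122<|a 125 (-1))<|b (a 158<|a 160 1)<|b (a 180<|a 182 1)<|b (a 190<|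
 a 192 1)<|b (a 196<|a 198 1)<|b (a 202<|a 203 1)<|b (a 206<|a 208 1)<|b (a 212<|a 213 1)<|b (a 216<|a 217 1)<|b (a 221<|a 222 1)<|b (a 228<|
 a 229 1)<|b (a 236<|a 237 1)<|c) :type_of% (d _))<|e ((b (a 120<|a 125 (-1))<|b (a 158<|a 161 1)<|b (a 180<|a 183 1)<|b (a 190<|a 193 1)<|b (a 196<|a 199 1)<|
 b (a 201<|a 203 (-1))<|b (a 206<|a 209 1)<|b (a 211<|a 213 (-1))<|b (a 215<|a 217 (-1))<|b (a 220<|a 222 (-1))<|b (a 227<|a 229 (-1))<|b (a 236<|a 238
 1)<|c) :type_of% (d _))<|e ((b (a 125<|a 129 (-1))<|b (a 155<|a 158 1)<|b (a 177<|a 180 1)<|b (a 187<|a 190 1)<|b (a 198<|a 201 1)<|b (a 199<|a 202 1)<|b (a 208<|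
 a 211 1)<|b (a 209<|a 212 1)<|b (a 217<|a 218 1)<|b (a 222<|a 223 1)<|b (a 229<|a 230 1)<|b (a 235<|a 236 1)<|c) :type_of% (d _))<|e ((b (a 122<|a 129 (-1))<|
 b (a 155<|a 160 1)<|b (a 177<|a 182 1)<|b (a 187<|a 192 1)<|b (a 196<|a 201 (-1))<|b (a 199<|a 203 1)<|b (a 206<|a 211 (-1))<|b (a 209<|a 213 1)<|
 b (a 216<|a 218 (-1))<|b (a 221<|a 223 (-1))<|b (a 228<|a 230 (-1))<|b (a 235<|a 237 1)<|c) :type_of% (d _))<|e ((b (a 120<|a 129 (-1))<|b (a 155<|a 161 1)<|b (a 177<|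
 a 183 1)<|b (a 187<|a 193 1)<|b (a 196<|a 202 (-1))<|b (a 198<|a 203 (-1))<|b (a 206<|a 212 (-1))<|b (a 208<|a 213 (-1))<|b (a 215<|a 218 1)<|
 b (a 220<|a 223 1)<|b (a 227<|a 230 1)<|b (a 235<|a 238 1)<|c) :type_of% (d _))<|e ((b (a 129<|a 134 (-1))<|b (a 151<|a 155 1)<|b (a 173<|a 177 1)<|b (a 190<|a 196
 1)<|b (a 192<|a 198 1)<|b (a 193<|a 199 1)<|b (a 211<|a 215 1)<|b (a 212<|a 216 1)<|b (a 213<|a 217 1)<|b (a 223<|a 224 1)<|b (a 230<|a 231
 1)<|b (a 234<|a 235 1)<|c) :type_of% (d _))<|f))));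
 (let f:=(let f:=(let f:=(let f:=(e ((b (a 129<|a 125 (-1))<|b (a 158<|a 155 1)<|
 b (a 180<|a 177 1)<|b (a 190<|a 187 1)<|b (a 201<|a 198 1)<|b (a 202<|a 199 1)<|b (a 211<|a 208 1)<|b (a 212<|a 209 1)<|b (a 218<|a 217 1)<|
 b (a 223<|a 222 1)<|b (a 230<|a 229 1)<|b (a 236<|a 235 1)<|c) :type_of% (d _))<|e ((b (a 125<|a 120 (-1))<|b (a 161<|a 158 1)<|b (a 183<|a 180 1)<|b (a 193<|a 190
 1)<|b (a 199<|a 196 1)<|b (a 203<|a 201 (-1))<|b (a 209<|a 206 1)<|b (a 213<|a 211 (-1))<|b (a 217<|a 215 (-1))<|b (a 222<|a 220 (-1))<|b (a 229<|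
 a 227 (-1))<|b (a 238<|a 236 1)<|c) :type_of% (d _))<|e ((b (a 125<|a 122 (-1))<|b (a 160<|a 158 1)<|b (a 182<|a 180 1)<|b (a 192<|a 190 1)<|b (a 198<|a 196 1)<|
 b (a 203<|a 202 1)<|b (a 208<|a 206 1)<|b (a 213<|a 212 1)<|b (a 217<|a 216 1)<|b (a 222<|a 221 1)<|b (a 229<|a 228 1)<|b (a 237<|a 236 1)<|c) :type_of% (d _))<|
 e ((b (a 122<|a 120 (-1))<|b (a 161<|a 160 1)<|b (a 183<|a 182 1)<|b (a 193<|a 192 1)<|b (a 199<|a 198 1)<|b (a 202<|a 201 1)<|b (a 209<|a 208 1)<|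
 b (a 212<|a 211 1)<|b (a 216<|a 215 1)<|b (a 221<|a 220 1)<|b (a 228<|a 227 1)<|b (a 238<|a 237 1)<|c) :type_of% (d _))<|f);
 (e ((b (a 134<|a 125 (-1))<|b (a 158<|a 151 1)<|b (a 180<|
 a 173 1)<|b (a 196<|a 187 (-1))<|b (a 201<|a 192 1)<|b (a 202<|a 193 1)<|b (a 215<|a 208 (-1))<|b (a 216<|a 209 (-1))<|b (a 218<|a 213 1)<|b (a 224<|
 a 222 (-1))<|b (a 231<|a 229 (-1))<|b (a 236<|a 234 1)<|c) :type_of% (d _))<|e ((b (a 134<|a 129 (-1))<|b (a 155<|a 151 1)<|b (a 177<|a 173 1)<|b (a 196<|a 190 1)<|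
 b (a 198<|a 192 1)<|b (a 199<|a 193 1)<|b (a 215<|a 211 1)<|b (a 216<|a 212 1)<|b (a 217<|a 213 1)<|b (a 224<|a 223 1)<|b (a 231<|a 230 1)<|
 b (a 235<|a 234 1)<|c) :type_of% (d _))<|e ((b (a 129<|a 120 (-1))<|b (a 161<|a 155 1)<|b (a 183<|a 177 1)<|b (a 193<|a 187 1)<|b (a 202<|a 196 (-1))<|b (a 203<|a 198
 (-1))<|b (a 212<|a 206 (-1))<|b (a 213<|a 208 (-1))<|b (a 218<|a 215 1)<|b (a 223<|a 220 1)<|b (a 230<|a 227 1)<|b (a 238<|a 235 1)<|c) :type_of% (d _))<|e ((b (a 129<|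
 a 122 (-1))<|b (a 160<|a 155 1)<|b (a 182<|a 177 1)<|b (a 192<|a 187 1)<|b (a 201<|a 196 (-1))<|b (a 203<|a 199 1)<|b (a 211<|a 206 (-1))<|b (a 213<|
 a 209 1)<|b (a 218<|a 216 (-1))<|b (a 223<|a 221 (-1))<|b (a 230<|a 228 (-1))<|b (a 237<|a 235 1)<|c) :type_of% (d _))<|f));
 (let f:=(e ((b (a 140<|a 129 (-1))<|b (a 155<|a 146 1)<|b (a 187<|a 173 (-1))<|
 b (a 196<|a 180 1)<|b (a 198<|a 182 1)<|b (a 199<|a 183 1)<|b (a 220<|a 211 (-1))<|b (a 221<|a 212 (-1))<|b (a 222<|a 213 (-1))<|b (a 224<|a 218 1)<|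
 b (a 232<|a 230 (-1))<|b (a 235<|a 233 1)<|c) :type_of% (d _))<|e ((b (a 140<|a 134 (-1))<|b (a 151<|a 146 1)<|b (a 187<|a 177 1)<|b (a 190<|a 180 1)<|b (a 192<|a 182
 1)<|b (a 193<|a 183 1)<|b (a 220<|a 215 1)<|b (a 221<|a 216 1)<|b (a 222<|a 217 1)<|b (a 223<|a 218 1)<|b (a 232<|a 231 1)<|b (a 234<|a 233
 1)<|c) :type_of% (d _))<|e ((b (a 134<|a 120 (-1))<|b (a 161<|a 151 1)<|b (a 183<|a 173 1)<|b (a 199<|a 187 (-1))<|b (a 202<|a 190 (-1))<|b (a 203<|a 192 (-1))<|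
 b (a 216<|a 206 1)<|b (a 217<|a 208 1)<|b (a 218<|a 211 1)<|b (a 224<|a 220 (-1))<|b (a 231<|a 227 (-1))<|b (a 238<|a 234 1)<|c) :type_of% (d _))<|e ((b (a 134<|a 122
 (-1))<|b (a 160<|a 151 1)<|b (a 182<|a 173 1)<|b (a 198<|a 187 (-1))<|b (a 201<|a 190 (-1))<|b (a 203<|a 193 1)<|b (a 215<|a 206 1)<|b (a 217<|a 209
 (-1))<|b (a 218<|a 212 (-1))<|b (a 224<|a 221 1)<|b (a 231<|a 228 1)<|b (a 237<|a 234 1)<|c) :type_of% (d _))<|f);
 (e ((b (a 146<|a 134 (-1))<|b (a 151<|a 140 1)<|b (a 173<|a 168 1)<|b (a 206<|a 196 1)<|b (a 208<|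
 a 198 1)<|b (a 209<|a 199 1)<|b (a 211<|a 201 1)<|b (a 212<|a 202 1)<|b (a 213<|a 203 1)<|b (a 225<|a 224 1)<|b (a 233<|a 231 1)<|b (a 234<|
 a 232 1)<|c) :type_of% (d _))<|e ((b (a 140<|a 120 (-1))<|b (a 161<|a 146 1)<|b (a 193<|a 173 (-1))<|b (a 199<|a 177 (-1))<|b (a 202<|a 180 (-1))<|b (a 203<|a 182
 (-1))<|b (a 221<|a 206 (-1))<|b (a 222<|a 208 (-1))<|b (a 223<|a 211 (-1))<|b (a 224<|a 215 (-1))<|b (a 232<|a 227 1)<|b (a 238<|a 233 1)<|c) :type_of% (d _))<|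
 e ((b (a 140<|a 122 (-1))<|b (a 160<|a 146 1)<|b (a 192<|a 173 (-1))<|b (a 198<|a 177 (-1))<|b (a 201<|a 180 (-1))<|b (a 203<|a 183 1)<|b (a 220<|a 206
 (-1))<|b (a 222<|a 209 1)<|b (a 223<|a 212 1)<|b (a 224<|a 216 1)<|b (a 232<|a 228 (-1))<|b (a 237<|a 233 1)<|c) :type_of% (d _))<|e ((b (a 140<|a 125 (-1))<|b (a 158<|
 a 146 1)<|b (a 190<|a 173 (-1))<|b (a 196<|a 177 (-1))<|b (a 201<|a 182 1)<|b (a 202<|a 183 1)<|b (a 220<|a 208 1)<|b (a 221<|a 209 1)<|b (a 223<|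
 a 213 (-1))<|b (a 224<|a 217 (-1))<|b (a 232<|a 229 1)<|b (a 236<|a 233 1)<|c) :type_of% (d _))<|f)));
 (let f:=(let f:=(e ((b (a 146<|a 120 (-1))<|b (a 161<|a 140 1)<|b (a 183<|a 168 1)<|b (a 209<|a 187 1)<|b (a 212<|a 190 1)<|
 b (a 213<|a 192 1)<|b (a 216<|a 196 1)<|b (a 217<|a 198 1)<|b (a 218<|a 201 1)<|b (a 225<|a 220 1)<|b (a 233<|a 227 1)<|b (a 238<|a 232 1)<|c) :type_of% (d _))<|
 e ((b (a 146<|a 122 (-1))<|b (a 160<|a 140 1)<|b (a 182<|a 168 1)<|b (a 208<|a 187 1)<|b (a 211<|a 190 1)<|b (a 213<|a 193 (-1))<|b (a 215<|a 196 1)<|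
 b (a 217<|a 199 (-1))<|b (a 218<|a 202 (-1))<|b (a 225<|a 221 (-1))<|b (a 233<|a 228 (-1))<|b (a 237<|a 232 1)<|c) :type_of% (d _))<|e ((b (a 146<|a 125 (-1))<|b (a 158<|
 a 140 1)<|b (a 180<|a 168 1)<|b (a 206<|a 187 1)<|b (a 211<|a 192 (-1))<|b (a 212<|a 193 (-1))<|b (a 215<|a 198 (-1))<|b (a 216<|a 199 (-1))<|
 b (a 218<|a 203 1)<|b (a 225<|a 222 1)<|b (a 233<|a 229 1)<|b (a 236<|a 232 1)<|c) :type_of% (d _))<|e ((b (a 146<|a 129 (-1))<|b (a 155<|a 140 1)<|b (a 177<|a 168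
 1)<|b (a 206<|a 190 (-1))<|b (a 208<|a 192 (-1))<|b (a 209<|a 193 (-1))<|b (a 215<|a 201 1)<|b (a 216<|a 202 1)<|b (a 217<|a 203 1)<|b (a 225<|a 223
 (-1))<|b (a 233<|a 230 (-1))<|b (a 235<|a 232 1)<|c) :type_of% (d _))<|f);
 (e ((b (a 151<|a 120 (-1))<|b (a 161<|a 134 1)<|b (a 193<|a 168 1)<|b (a 209<|a 177 (-1))<|b (a 212<|a 180 (-1))<|b (a 213<|a 182 (-1))<|
 b (a 221<|a 196 1)<|b (a 222<|a 198 1)<|b (a 223<|a 201 1)<|b (a 225<|a 215 (-1))<|b (a 234<|a 227 1)<|b (a 238<|a 231 (-1))<|c) :type_of% (d _))<|e ((b (a 151<|a 122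
 (-1))<|b (a 160<|a 134 1)<|b (a 192<|a 168 1)<|b (a 208<|a 177 (-1))<|b (a 211<|a 180 (-1))<|b (a 213<|a 183 1)<|b (a 220<|a 196 1)<|b (a 222<|a 199
 (-1))<|b (a 223<|a 202 (-1))<|b (a 225<|a 216 1)<|b (a 234<|a 228 (-1))<|b (a 237<|a 231 (-1))<|c) :type_of% (d _))<|e ((b (a 151<|a 125 (-1))<|b (a 158<|a 134 1)<|
 b (a 190<|a 168 1)<|b (a 206<|a 177 (-1))<|b (a 211<|a 182 1)<|b (a 212<|a 183 1)<|b (a 220<|a 198 (-1))<|b (a 221<|a 199 (-1))<|b (a 223<|a 203 1)<|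
 b (a 225<|a 217 (-1))<|b (a 234<|a 229 1)<|b (a 236<|a 231 (-1))<|c) :type_of% (d _))<|e ((b (a 151<|a 129 (-1))<|b (a 155<|a 134 1)<|b (a 187<|a 168 1)<|b (a 206<|
 a 180 1)<|b (a 208<|a 182 1)<|b (a 209<|a 183 1)<|b (a 220<|a 201 1)<|b (a 221<|a 202 1)<|b (a 222<|a 203 1)<|b (a 225<|a 218 1)<|b (a 234<|
 a 230 (-1))<|b (a 235<|a 231 (-1))<|c) :type_of% (d _))<|f));
 (let f:=(e ((b (a 158<|a 122 (-1))<|b (a 160<|a 125 1)<|b (a 201<|a 168 1)<|b (a 211<|a 173 1)<|b (a 215<|a 177 1)<|b (a 218<|a 183 1)<|b (a 220<|a 187 1)<|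
 b (a 223<|a 193 1)<|b (a 224<|a 199 1)<|b (a 225<|a 209 1)<|b (a 236<|a 228 (-1))<|b (a 237<|a 229 (-1))<|c) :type_of% (d _))<|e ((b (a 155<|a 120 (-1))<|b (a 161<|
 a 129 1)<|b (a 199<|a 168 1)<|b (a 209<|a 173 1)<|b (a 216<|a 180 (-1))<|b (a 217<|a 182 (-1))<|b (a 221<|a 190 (-1))<|b (a 222<|a 192 (-1))<|
 b (a 224<|a 201 1)<|b (a 225<|a 211 1)<|b (a 235<|a 227 1)<|b (a 238<|a 230 1)<|c) :type_of% (d _))<|e ((b (a 155<|a 122 (-1))<|b (a 160<|a 129 1)<|b (a 198<|a 168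
 1)<|b (a 208<|a 173 1)<|b (a 215<|a 180 (-1))<|b (a 217<|a 183 1)<|b (a 220<|a 190 (-1))<|b (a 222<|a 193 1)<|b (a 224<|a 202 (-1))<|b (a 225<|a 212
 (-1))<|b (a 235<|a 228 (-1))<|b (a 237<|a 230 1)<|c) :type_of% (d _))<|e ((b (a 155<|a 125 (-1))<|b (a 158<|a 129 1)<|b (a 196<|a 168 1)<|b (a 206<|a 173 1)<|b (a 215<|
 a 182 1)<|b (a 216<|a 183 1)<|b (a 220<|a 192 1)<|b (a 221<|a 193 1)<|b (a 224<|a 203 1)<|b (a 225<|a 213 1)<|b (a 235<|a 229 1)<|b (a 236<|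
 a 230 1)<|c) :type_of% (d _))<|f);
 (e ((b (a 168<|a 134 (-1))<|b (a 173<|
 a 146 1)<|b (a 187<|a 155 (-1))<|b (a 190<|a 158 (-1))<|b (a 192<|a 160 (-1))<|b (a 193<|a 161 (-1))<|b (a 227<|a 215 (-1))<|b (a 228<|a 216 (-1))<|
 b (a 229<|a 217 (-1))<|b (a 230<|a 218 (-1))<|b (a 232<|a 224 1)<|b (a 234<|a 225 1)<|c) :type_of% (d _))<|e ((b (a 168<|a 140 (-1))<|b (a 173<|a 151 (-1))<|b (a 177<|
 a 155 (-1))<|b (a 180<|a 158 (-1))<|b (a 182<|a 160 (-1))<|b (a 183<|a 161 (-1))<|b (a 227<|a 220 1)<|b (a 228<|a 221 1)<|b (a 229<|a 222 1)<|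
 b (a 230<|a 223 1)<|b (a 231<|a 224 1)<|b (a 233<|a 225 1)<|c) :type_of% (d _))<|e ((b (a 160<|a 120 (-1))<|b (a 161<|a 122 1)<|b (a 203<|a 168 1)<|b (a 213<|a 173
 1)<|b (a 217<|a 177 1)<|b (a 218<|a 180 1)<|b (a 222<|a 187 1)<|b (a 223<|a 190 1)<|b (a 224<|a 196 1)<|b (a 225<|a 206 1)<|b (a 237<|a 227
 1)<|b (a 238<|a 228 1)<|c) :type_of% (d _))<|e ((b (a 158<|a 120 (-1))<|b (a 161<|a 125 1)<|b (a 202<|a 168 1)<|b (a 212<|a 173 1)<|b (a 216<|a 177 1)<|b (a 218<|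
 a 182 (-1))<|b (a 221<|a 187 1)<|b (a 223<|a 192 (-1))<|b (a 224<|a 198 (-1))<|b (a 225<|a 208 (-1))<|b (a 236<|a 227 1)<|b (a 238<|a 229 (-1))<|c) :type_of% (d _))<|
 f))));
 (let f:=(let f:=(let f:=(e ((b (a 168<|a 120 (-1))<|b (a 183<|a 146 1)<|b (a 193<|
 a 151 1)<|b (a 199<|a 155 1)<|b (a 202<|a 158 1)<|b (a 203<|a 160 1)<|b (a 228<|a 206 1)<|b (a 229<|a 208 1)<|b (a 230<|a 211 1)<|b (a 231<|
 a 215 1)<|b (a 232<|a 220 1)<|b (a 238<|a 225 1)<|c) :type_of% (d _))<|e ((b (a 168<|a 122 (-1))<|b (a 182<|a 146 1)<|b (a 192<|a 151 1)<|b (a 198<|a 155 1)<|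
 b (a 201<|a 158 1)<|b (a 203<|a 161 (-1))<|b (a 227<|a 206 1)<|b (a 229<|a 209 (-1))<|b (a 230<|a 212 (-1))<|b (a 231<|a 216 (-1))<|b (a 232<|a 221
 (-1))<|b (a 237<|a 225 1)<|c) :type_of% (d _))<|e ((b (a 168<|a 125 (-1))<|b (a 180<|a 146 1)<|b (a 190<|a 151 1)<|b (a 196<|a 155 1)<|b (a 201<|a 160 (-1))<|b (a 202<|
 a 161 (-1))<|b (a 227<|a 208 (-1))<|b (a 228<|a 209 (-1))<|b (a 230<|a 213 1)<|b (a 231<|a 217 1)<|b (a 232<|a 222 1)<|b (a 236<|a 225 1)<|c) :type_of% (d _))<|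
 e ((b (a 168<|a 129 (-1))<|b (a 177<|a 146 1)<|b (a 187<|a 151 1)<|b (a 196<|a 158 (-1))<|b (a 198<|a 160 (-1))<|b (a 199<|a 161 (-1))<|b (a 227<|a 211
 1)<|b (a 228<|a 212 1)<|b (a 229<|a 213 1)<|b (a 231<|a 218 (-1))<|b (a 232<|a 223 (-1))<|b (a 235<|a 225 1)<|c) :type_of% (d _))<|f);
 (e ((b (a 173<|a 120 (-1))<|b (a 183<|a 134 1)<|b (a 193<|a 140 (-1))<|b (a 209<|a 155 1)<|
 b (a 212<|a 158 1)<|b (a 213<|a 160 1)<|b (a 228<|a 196 (-1))<|b (a 229<|a 198 (-1))<|b (a 230<|a 201 (-1))<|b (a 233<|a 215 1)<|b (a 234<|a 220 1)<|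
 b (a 238<|a 224 (-1))<|c) :type_of% (d _))<|e ((b (a 173<|a 122 (-1))<|b (a 182<|a 134 1)<|b (a 192<|a 140 (-1))<|b (a 208<|a 155 1)<|b (a 211<|a 158 1)<|b (a 213<|
 a 161 (-1))<|b (a 227<|a 196 (-1))<|b (a 229<|a 199 1)<|b (a 230<|a 202 1)<|b (a 233<|a 216 (-1))<|b (a 234<|a 221 (-1))<|b (a 237<|a 224 (-1))<|c) :type_of% (d _))<|
 e ((b (a 173<|a 125 (-1))<|b (a 180<|a 134 1)<|b (a 190<|a 140 (-1))<|b (a 206<|a 155 1)<|b (a 211<|a 160 (-1))<|b (a 212<|a 161 (-1))<|b (a 227<|a 198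
 1)<|b (a 228<|a 199 1)<|b (a 230<|a 203 (-1))<|b (a 233<|a 217 1)<|b (a 234<|a 222 1)<|b (a 236<|a 224 (-1))<|c) :type_of% (d _))<|e ((b (a 173<|a 129 (-1))<|b (a 177<|
 a 134 1)<|b (a 187<|a 140 (-1))<|b (a 206<|a 158 (-1))<|b (a 208<|a 160 (-1))<|b (a 209<|a 161 (-1))<|b (a 227<|a 201 (-1))<|b (a 228<|a 202 (-1))<|
 b (a 229<|a 203 (-1))<|b (a 233<|a 218 (-1))<|b (a 234<|a 223 (-1))<|b (a 235<|a 224 (-1))<|c) :type_of% (d _))<|f));
 (let f:=(e ((b (a 180<|a 122 (-1))<|b (a 182<|a 125 1)<|b (a 201<|a 140 (-1))<|b (a 211<|a 151 (-1))<|b (a 215<|a 155 (-1))<|b (a 218<|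
 a 161 (-1))<|b (a 227<|a 187 (-1))<|b (a 230<|a 193 (-1))<|b (a 231<|a 199 (-1))<|b (a 233<|a 209 (-1))<|b (a 236<|a 221 (-1))<|b (a 237<|a 222 (-1))<|c) :type_of% (d _))<|
 e ((b (a 177<|a 120 (-1))<|b (a 183<|a 129 1)<|b (a 199<|a 140 (-1))<|b (a 209<|a 151 (-1))<|b (a 216<|a 158 1)<|b (a 217<|a 160 1)<|b (a 228<|a 190
 1)<|b (a 229<|a 192 1)<|b (a 231<|a 201 (-1))<|b (a 233<|a 211 (-1))<|b (a 235<|a 220 1)<|b (a 238<|a 223 1)<|c) :type_of% (d _))<|e ((b (a 177<|a 122 (-1))<|b (a 182<|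
 a 129 1)<|b (a 198<|a 140 (-1))<|b (a 208<|a 151 (-1))<|b (a 215<|a 158 1)<|b (a 217<|a 161 (-1))<|b (a 227<|a 190 1)<|b (a 229<|a 193 (-1))<|
 b (a 231<|a 202 1)<|b (a 233<|a 212 1)<|b (a 235<|a 221 (-1))<|b (a 237<|a 223 1)<|c) :type_of% (d _))<|e ((b (a 177<|a 125 (-1))<|b (a 180<|a 129 1)<|b (a 196<|a 140
 (-1))<|b (a 206<|a 151 (-1))<|b (a 215<|a 160 (-1))<|b (a 216<|a 161 (-1))<|b (a 227<|a 192 (-1))<|b (a 228<|a 193 (-1))<|b (a 231<|a 203 (-1))<|b (a 233<|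
 a 213 (-1))<|b (a 235<|a 222 1)<|b (a 236<|a 223 1)<|c) :type_of% (d _))<|f);
 (e ((b (a 187<|a 122 (-1))<|b (a 192<|a 129 1)<|b (a 198<|a 134 (-1))<|b (a 208<|a 146 1)<|b (a 220<|a 158 1)<|b (a 222<|a 161 (-1))<|b (a 227<|a 180
 (-1))<|b (a 229<|a 183 1)<|b (a 232<|a 202 1)<|b (a 234<|a 212 1)<|b (a 235<|a 216 1)<|b (a 237<|a 218 (-1))<|c) :type_of% (d _))<|e ((b (a 187<|a 125 (-1))<|b (a 190<|
 a 129 1)<|b (a 196<|a 134 (-1))<|b (a 206<|a 146 1)<|b (a 220<|a 160 (-1))<|b (a 221<|a 161 (-1))<|b (a 227<|a 182 1)<|b (a 228<|a 183 1)<|b (a 232<|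
 a 203 (-1))<|b (a 234<|a 213 (-1))<|b (a 235<|a 217 (-1))<|b (a 236<|a 218 (-1))<|c) :type_of% (d _))<|e ((b (a 182<|a 120 (-1))<|b (a 183<|a 122 1)<|b (a 203<|a 140
 (-1))<|b (a 213<|a 151 (-1))<|b (a 217<|a 155 (-1))<|b (a 218<|a 158 (-1))<|b (a 229<|a 187 (-1))<|b (a 230<|a 190 (-1))<|b (a 231<|a 196 (-1))<|b (a 233<|
 a 206 (-1))<|b (a 237<|a 220 1)<|b (a 238<|a 221 1)<|c) :type_of% (d _))<|e ((b (a 180<|a 120 (-1))<|b (a 183<|a 125 1)<|b (a 202<|a 140 (-1))<|b (a 212<|a 151 (-1))<|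
 b (a 216<|a 155 (-1))<|b (a 218<|a 160 1)<|b (a 228<|a 187 (-1))<|b (a 230<|a 192 1)<|b (a 231<|a 198 1)<|b (a 233<|a 208 1)<|b (a 236<|a 220 1)<|
 b (a 238<|a 222 (-1))<|c) :type_of% (d _))<|f)));
 (let f:=(let f:=(e ((b (a 192<|a 120 (-1))<|
 b (a 193<|a 122 1)<|b (a 203<|a 134 (-1))<|b (a 213<|a 146 1)<|b (a 222<|a 155 (-1))<|b (a 223<|a 158 (-1))<|b (a 229<|a 177 1)<|b (a 230<|a 180 1)<|
 b (a 232<|a 196 (-1))<|b (a 234<|a 206 (-1))<|b (a 237<|a 215 (-1))<|b (a 238<|a 216 (-1))<|c) :type_of% (d _))<|e ((b (a 190<|a 120 (-1))<|b (a 193<|a 125 1)<|b (a 202<|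
 a 134 (-1))<|b (a 212<|a 146 1)<|b (a 221<|a 155 (-1))<|b (a 223<|a 160 1)<|b (a 228<|a 177 1)<|b (a 230<|a 182 (-1))<|b (a 232<|a 198 1)<|b (a 234<|
 a 208 1)<|b (a 236<|a 215 (-1))<|b (a 238<|a 217 1)<|c) :type_of% (d _))<|e ((b (a 190<|a 122 (-1))<|b (a 192<|a 125 1)<|b (a 201<|a 134 (-1))<|b (a 211<|a 146 1)<|
 b (a 220<|a 155 (-1))<|b (a 223<|a 161 (-1))<|b (a 227<|a 177 1)<|b (a 230<|a 183 1)<|b (a 232<|a 199 (-1))<|b (a 234<|a 209 (-1))<|b (a 236<|a 216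
 1)<|b (a 237<|a 217 1)<|c) :type_of% (d _))<|e ((b (a 187<|a 120 (-1))<|b (a 193<|a 129 1)<|b (a 199<|a 134 (-1))<|b (a 209<|a 146 1)<|b (a 221<|a 158 1)<|b (a 222<|
 a 160 1)<|b (a 228<|a 180 (-1))<|b (a 229<|a 182 (-1))<|b (a 232<|a 201 (-1))<|b (a 234<|a 211 (-1))<|b (a 235<|a 215 (-1))<|b (a 238<|a 218 (-1))<|c) :type_of% (d _))<|
 f);
 (e ((b (a 201<|a 120 (-1))<|b (a 202<|a 122 1)<|b (a 203<|a 125
 (-1))<|b (a 218<|a 146 1)<|b (a 223<|a 151 1)<|b (a 224<|a 155 1)<|b (a 230<|a 173 (-1))<|b (a 231<|a 177 (-1))<|b (a 232<|a 187 (-1))<|b (a 236<|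
 a 206 (-1))<|b (a 237<|a 208 (-1))<|b (a 238<|a 209 (-1))<|c) :type_of% (d _))<|e ((b (a 198<|a 120 (-1))<|b (a 199<|a 122 1)<|b (a 203<|a 129 (-1))<|b (a 217<|a 146
 1)<|b (a 222<|a 151 1)<|b (a 224<|a 158 (-1))<|b (a 229<|a 173 (-1))<|b (a 231<|a 180 1)<|b (a 232<|a 190 1)<|b (a 235<|a 206 (-1))<|b (a 237<|a 211
 1)<|b (a 238<|a 212 1)<|c) :type_of% (d _))<|e ((b (a 196<|a 120 (-1))<|b (a 199<|a 125 1)<|b (a 202<|a 129 (-1))<|b (a 216<|a 146 1)<|b (a 221<|a 151 1)<|b (a 224<|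
 a 160 1)<|b (a 228<|a 173 (-1))<|b (a 231<|a 182 (-1))<|b (a 232<|a 192 (-1))<|b (a 235<|a 208 1)<|b (a 236<|a 211 1)<|b (a 238<|a 213 (-1))<|c) :type_of% (d _))<|
 e ((b (a 196<|a 122 (-1))<|b (a 198<|a 125 1)<|b (a 201<|a 129 (-1))<|b (a 215<|a 146 1)<|b (a 220<|a 151 1)<|b (a 224<|a 161 (-1))<|b (a 227<|a 173
 (-1))<|b (a 231<|a 183 1)<|b (a 232<|a 193 1)<|b (a 235<|a 209 (-1))<|b (a 236<|a 212 (-1))<|b (a 237<|a 213 (-1))<|c) :type_of% (d _))<|f));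
 (b ((b (a 227<|a 120 (-1))<|b (a 228<|a 122 1)<|b (a 229<|a 125 (-1))<|b (a 230<|a 129 1)<|b (a 231<|a 134 (-1))<|b (a 232<|a 140 1)<|b (a 233<|a 146
 1)<|b (a 234<|a 151 1)<|b (a 235<|a 155 1)<|b (a 236<|a 158 1)<|b (a 237<|a 160 1)<|b (a 238<|a 161 1)<|c) :type_of% (d _))<|b ((b (a 220<|a 120 (-1))<|b (a 221<|
 a 122 1)<|b (a 222<|a 125 (-1))<|b (a 223<|a 129 1)<|b (a 224<|a 134 (-1))<|b (a 225<|a 146 1)<|b (a 232<|a 168 1)<|b (a 234<|a 173 1)<|b (a 235<|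
 a 177 1)<|b (a 236<|a 180 1)<|b (a 237<|a 182 1)<|b (a 238<|a 183 1)<|c) :type_of% (d _))<|b ((b (a 215<|a 120 (-1))<|b (a 216<|a 122 1)<|b (a 217<|a 125 (-1))<|
 b (a 218<|a 129 1)<|b (a 224<|a 140 (-1))<|b (a 225<|a 151 (-1))<|b (a 231<|a 168 1)<|b (a 233<|a 173 1)<|b (a 235<|a 187 (-1))<|b (a 236<|a 190
 (-1))<|b (a 237<|a 192 (-1))<|b (a 238<|a 193 (-1))<|c) :type_of% (d _))<|b ((b (a 211<|a 120 (-1))<|b (a 212<|a 122 1)<|b (a 213<|a 125 (-1))<|b (a 218<|a 134 1)<|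
 b (a 223<|a 140 (-1))<|b (a 225<|a 155 1)<|b (a 230<|a 168 1)<|b (a 233<|a 177 (-1))<|b (a 234<|a 187 (-1))<|b (a 236<|a 196 1)<|b (a 237<|a 198 1)<|
 b (a 238<|a 199 1)<|c) :type_of% (d _))<|b ((b (a 208<|a 120 (-1))<|b (a 209<|a 122 1)<|b (a 213<|a 129 (-1))<|b (a 217<|a 134 1)<|b (a 222<|a 140 (-1))<|b (a 225<|
 a 158 (-1))<|b (a 229<|a 168 1)<|b (a 233<|a 180 1)<|b (a 234<|a 190 1)<|b (a 235<|a 196 1)<|b (a 237<|a 201 (-1))<|b (a 238<|a 202 (-1))<|c) :type_of% (d _))<|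
 b ((b (a 206<|a 120 (-1))<|b (a 209<|a 125 1)<|b (a 212<|a 129 (-1))<|b (a 216<|a 134 1)<|b (a 221<|a 140 (-1))<|b (a 225<|a 160 1)<|b (a 228<|a 168
 1)<|b (a 233<|a 182 (-1))<|b (a 234<|a 192 (-1))<|b (a 235<|a 198 (-1))<|b (a 236<|a 201 (-1))<|b (a 238<|a 203 1)<|c) :type_of% (d _))<|b ((b (a 206<|a 122 (-1))<|
 b (a 208<|a 125 1)<|b (a 211<|a 129 (-1))<|b (a 215<|a 134 1)<|b (a 220<|a 140 (-1))<|b (a 225<|a 161 (-1))<|b (a 227<|a 168 1)<|b (a 233<|a 183 1)<|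
 b (a 234<|a 193 1)<|b (a 235<|a 199 1)<|b (a 236<|a 202 1)<|b (a 237<|a 203 1)<|c) :type_of% (d _))<|f))))))

/-- the entries of the table at `r`, `s` -/
def F56 (r s : ℕ) : List (ℕ × ℤ) := ((T56.getD r []).filter fun x => Nat.beq x.1 s).map fun x => x.2

/-- the check of the row `r` -/
def chkRow (r : ℕ) : Bool :=
  (((chevE8.chain.getD (ι78 r) #[]).toList.filter fun e => decide (rt chevE8 e.1 7 = 1)).map fun e => (e.1, e.2.toList)) ==
    (T56.getD r []).map fun x => (x.1, [(x.2.1, x.2.2)])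

private theorem _root_.Cfsg.Agent.KOa915d05.e0.{ku, kv} {α : Type kv} {M : List α → Sort ku} (φ : ∀ l, M l) {z : M List.nil} {s : ∀ a l, M l → M (List.cons a l)} (h0 : φ List.nil = z) (hs : ∀ a l, φ (List.cons a l) = s a l (φ l)) (l : List α) : φ l = @List.rec α M z s l := List.rec h0 (fun a l ih => (hs a l).trans (congrArg (s a l) ih)) l
private noncomputable def _root_.Cfsg.Agent.KOa915d05.k1.{ku0} : type_of% @List.all.{ku0} := @(fun x0 x1 x2 => @List.rec.{(ku0+1), ku0} @x0 @(fun x3 => (@x0 → @Bool) → @Bool) @(fun x3 => @Bool.true) @(fun x3 x4 x5 x6 => @Bool.rec.{1} @(fun x7 => @Bool) @Bool.false (@x5 @x6) (@x6 @x3)) @x1 @x2)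
private theorem _root_.Cfsg.Agent.KOa915d05.e1.{ku0} : @List.all.{ku0} = @_root_.Cfsg.Agent.KOa915d05.k1.{ku0} := by delta _root_.Cfsg.Agent.KOa915d05.k1; funext a0 a1 a2; refine (congrFun (_root_.Cfsg.Agent.KOa915d05.e0 (fun a1 a2 => @List.all.{ku0} a0 a1 a2) ?_ (fun c0 c1 => ?_) a1) a2 :) <;> (rfl')
private theorem _root_.Cfsg.Agent.KOa915d05.e2.{ku} {M : Nat → Sort ku} (φ : ∀ n, M n) {z : M Nat.zero} {s : ∀ n, M n → M (Nat.succ n)} (h0 : φ Nat.zero = z) (hs : ∀ n, φ (Nat.succ n) = s n (φ n)) (n : Nat) : φ n = @Nat.rec M z s n := Nat.rec h0 (fun n ih => (hs n).trans (congrArg (s n) ih)) n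
private noncomputable def _root_.Cfsg.Agent.KOa915d05.k3 : type_of% @List.range.loop := @(fun x0 x1 => @Nat.rec.{1} @(fun x2 => (@List.{0} ℕ) → @List.{0} ℕ) @(fun x2 => @x2) @(fun x2 x3 x4 => @x3 (@x2 :: @x4)) @x0 @x1)
private theorem _root_.Cfsg.Agent.KOa915d05.e3 : @List.range.loop = @_root_.Cfsg.Agent.KOa915d05.k3 := by delta _root_.Cfsg.Agent.KOa915d05.k3; funext a0 a1; refine (congrFun (_root_.Cfsg.Agent.KOa915d05.e2 (fun a0 a1 => @List.range.loop a0 a1) ?_ (fun c0 => ?_) a0) a1 :) <;> (rfl')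
private noncomputable def _root_.Cfsg.Agent.KOa915d05.k4 : type_of% @List.range := @(fun x0 => @Cfsg.Agent.KOa915d05.k3 @x0 [])
private theorem _root_.Cfsg.Agent.KOa915d05.e4 : @List.range = @_root_.Cfsg.Agent.KOa915d05.k4 := by delta _root_.Cfsg.Agent.KOa915d05.k4; rewrite [← Cfsg.Agent.KOa915d05.e3]; rfl'
private noncomputable def _root_.Cfsg.Agent.KOa915d05.oEq.{ku} (α : Sort ku) (a b : Nat) (f t : α) : α := @Decidable.rec (a = b) (fun _ => α) (fun _ => f) (fun _ => t) (Nat.decEq a b)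
private noncomputable def _root_.Cfsg.Agent.KOa915d05.k5.{ku} (α : Sort ku) (a b : Nat) (f t : α) : α := @Bool.rec (fun _ => α) f t (Nat.beq a b)
private theorem _root_.Cfsg.Agent.KOa915d05.e5.{ku} : @_root_.Cfsg.Agent.KOa915d05.oEq.{ku} = @_root_.Cfsg.Agent.KOa915d05.k5.{ku} := funext fun α => funext fun a => funext fun b => funext fun f => funext fun t => by delta _root_.Cfsg.Agent.KOa915d05.oEq _root_.Cfsg.Agent.KOa915d05.k5; cases h : Nat.beq a b <;> cases Nat.decEq a b <;> rename_i g <;> first | rfl | exact absurd g (Nat.ne_of_beq_eq_false h) | exact absurd (Nat.eq_of_beq_eq_true h) g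
private noncomputable def _root_.Cfsg.Agent.KOa915d05.k7.{ku0} : type_of% @List.beq.{ku0} := @(fun x0 x1 x2 x3 => @List.rec.{(ku0+1), ku0} @x0 @(fun x4 => (@List.{ku0} @x0) → @Bool) @(fun x4 => @List.rec.{1, ku0} @x0 @(fun x5 => @Bool) @Bool.true @(fun x5 x6 x7 => @Bool.false) @x4) @(fun x4 x5 x6 x7 => @List.rec.{1, ku0} @x0 @(fun x8 => @Bool) @Bool.false @(fun x8 x9 x10 => @Bool.rec.{1} @(fun x11 => @Bool) @Bool.false (@x6 @x9) (@BEq.beq.{ku0} _ @x1 @x4 @x8)) @x7) @x2 @x3)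
private theorem _root_.Cfsg.Agent.KOa915d05.e7.{ku0} : @List.beq.{ku0} = @_root_.Cfsg.Agent.KOa915d05.k7.{ku0} := by delta _root_.Cfsg.Agent.KOa915d05.k7; funext a0 a1 a2 a3; refine (congrFun (_root_.Cfsg.Agent.KOa915d05.e0 (fun a2 a3 => @List.beq.{ku0} a0 a1 a2 a3) ?_ (fun c0 c1 => ?_) a2) a3 :) <;> [(funext b0; (cases b0 with | @nil  => (rfl') | @cons b0_0 b0_1 => (rfl'))); (funext b0; (cases b0 with | @nil  => (rfl') | @cons b0_0 b0_1 => (rfl')))]
private noncomputable def _root_.Cfsg.Agent.KOa915d05.k8 : type_of% @Nat.decEq := @(fun x0 x1 => @Bool.rec.{1} @(fun x2 => (@Eq.{1} _ (@Nat.beq @x0 @x1) @x2) → @Decidable (@Eq.{1} _ @x0 @x1)) @(fun x2 => @Decidable.isFalse _ (@Nat.ne_of_beq_eq_false _ _ @x2)) @(fun x2 => @Decidable.isTrue _ (@Nat.eq_of_beq_eq_true _ _ @x2)) (@Nat.beq @x0 @x1) (@Eq.refl.{1} _ (@Nat.beq @x0 @x1)))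
private theorem _root_.Cfsg.Agent.KOa915d05.e8 : @Nat.decEq = @_root_.Cfsg.Agent.KOa915d05.k8 := by delta _root_.Cfsg.Agent.KOa915d05.k8; rfl'
private noncomputable def _root_.Cfsg.Agent.KOa915d05.k9 : type_of% @Int.decEq := @(fun x0 x1 => @Int.rec.{1} @(fun x2 => @Decidable (@Eq.{1} _ @x2 @x1)) @(fun x2 => @Int.rec.{1} @(fun x3 => @Decidable (@Eq.{1} _ (@Int.ofNat @x2) @x3)) @(fun x3 => @Decidable.rec.{1} _ @(fun x4 => @Decidable (@Eq.{1} _ (@Int.ofNat @x2) (@Int.ofNat @x3))) @(fun x4 => @Decidable.isFalse _ (@Int.decEq._proof_2 @x2 @x3 @x4)) @(fun x4 => @Decidable.isTrue _ (@Int.decEq._proof_1 @x2 @x3 @x4)) (@Cfsg.Agent.KOa915d05.k8 @x2 @x3)) @(fun x3 => @Decidable.isFalse _ (@Int.decEq._proof_3 @x2 @x3)) @x1) @(fun x2 => @Int.rec.{1} @(fun x3 => @Decidable (@Eq.{1} _ (@Int.negSucc @x2) @x3)) @(fun x3 => @Decidable.isFalse _ (@Int.decEq._proof_4 @x2 @x3)) @(fun x3 => @Decidable.rec.{1} _ @(fun x4 =>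 @Decidable (@Eq.{1} _ (@Int.negSucc @x2) (@Int.negSucc @x3))) @(fun x4 => @Decidable.isFalse _ (@Int.decEq._proof_6 @x2 @x3 @x4)) @(fun x4 => @Decidable.isTrue _ (@Int.decEq._proof_5 @x2 @x3 @x4)) (@Cfsg.Agent.KOa915d05.k8 @x2 @x3)) @x1) @x0)
private theorem _root_.Cfsg.Agent.KOa915d05.e9 : @Int.decEq = @_root_.Cfsg.Agent.KOa915d05.k9 := by delta _root_.Cfsg.Agent.KOa915d05.k9; rewrite [← Cfsg.Agent.KOa915d05.e8]; rfl'
private noncomputable def _root_.Cfsg.Agent.KOa915d05.k10.{ku0, ku1} : type_of% @List.map.{ku0, ku1} := @(fun x0 x1 x2 x3 => @List.rec.{(ku1+1), ku0} @x0 @(fun x4 => @List.{ku1} @x1) [] @(fun x4 x5 x6 => (@x2 @x4) :: @x6) @x3)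
private theorem _root_.Cfsg.Agent.KOa915d05.e10.{ku0, ku1} : @List.map.{ku0, ku1} = @_root_.Cfsg.Agent.KOa915d05.k10.{ku0, ku1} := by delta _root_.Cfsg.Agent.KOa915d05.k10; funext a0 a1 a2 a3; refine (_root_.Cfsg.Agent.KOa915d05.e0 (fun a3 => @List.map.{ku0, ku1} a0 a1 a2 a3) ?_ (fun c0 c1 => ?_) a3 :) <;> (rfl')
private noncomputable def _root_.Cfsg.Agent.KOa915d05.k11.{ku0} : type_of% @List.filter.{ku0} := @(fun x0 x1 x2 => @List.rec.{(ku0+1), ku0} @x0 @(fun x3 => @List.{ku0} @x0) [] @(fun x3 x4 x5 => @Bool.rec.{(ku0+1)} @(fun x6 => @List.{ku0} @x0) @x5 (@x3 :: @x5) (@x1 @x3)) @x2)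
private theorem _root_.Cfsg.Agent.KOa915d05.e11.{ku0} : @List.filter.{ku0} = @_root_.Cfsg.Agent.KOa915d05.k11.{ku0} := by delta _root_.Cfsg.Agent.KOa915d05.k11; funext a0 a1 a2; refine (_root_.Cfsg.Agent.KOa915d05.e0 (fun a2 => @List.filter.{ku0} a0 a1 a2) ?_ (fun c0 c1 => ?_) a2 :) <;> (rfl')
private noncomputable def _root_.Cfsg.Agent.KOa915d05.k12 : type_of% @Int.add := @(fun x0 x1 => @Int.rec.{1} @(fun x2 => ℤ) @(fun x2 => @Int.rec.{1} @(fun x3 => ℤ) @(fun x3 => @Int.ofNat (@Nat.add @x2 @x3)) @(fun x3 => @Nat.rec.{1} @(fun x4 => ℤ) (@Int.ofNat (@Nat.sub @x2 (@Nat.succ @x3))) @(fun x4 x5 => @Int.negSucc @x4) (@Nat.sub (@Nat.succ @x3) @x2)) @x1) @(fun x2 => @Int.rec.{1} @(fun x3 => ℤ) @(fun x3 => @Nat.rec.{1} @(fun x4 => ℤ) (@Int.ofNat (@Nat.sub @x3 (@Nat.succ @x2))) @(fun x4 x5 => @Int.negSucc @x4) (@Nat.sub (@Nat.succ @x2) @x3)) @(fun x3 => @Int.negSucc (@Nat.succ (@Nat.add @x2 @x3))) @x1) @x0)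
private theorem _root_.Cfsg.Agent.KOa915d05.e12 : @Int.add = @_root_.Cfsg.Agent.KOa915d05.k12 := by delta _root_.Cfsg.Agent.KOa915d05.k12; rfl'
private noncomputable def _root_.Cfsg.Agent.KOa915d05.k13 : (by first | exact type_of% @Cfsg.Agent.ChevalleyStructure.RootVecTab.dig | exact Unit : Sort _) := by first | (refine @Subtype.val _ (fun g => @Cfsg.Agent.ChevalleyStructure.RootVecTab.dig = @g) (@Subtype.mk _ _ (@(fun x0 x1 => @Nat.mod (@Nat.shiftRight @x0 (@Nat.mul (nat_lit 6) @x1)) (nat_lit 64))) ?_); rfl') | exact @Cfsg.Agent.ChevalleyStructure.RootVecTab.dig | exact ()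
private theorem _root_.Cfsg.Agent.KOa915d05.e13 : (by first | exact @Cfsg.Agent.ChevalleyStructure.RootVecTab.dig = @_root_.Cfsg.Agent.KOa915d05.k13 | exact True : Prop) := by first | (delta _root_.Cfsg.Agent.KOa915d05.k13; exact @Subtype.property _ (fun g => @Cfsg.Agent.ChevalleyStructure.RootVecTab.dig = @g) _) | rfl | trivial
private noncomputable def _root_.Cfsg.Agent.KOa915d05.k14 : (by first | exact type_of% @Cfsg.Agent.ChevalleyStructure.RootVecTab.packTab | exact Unit : Sort _) := by first | (refine @Subtype.val _ (fun g => @Cfsg.Agent.ChevalleyStructure.RootVecTab.packTab = @g) (@Subtype.mk _ _ (@(fun x0 => @Cfsg.Agent.KOa915d05.k5.{1} ℕ (@Cfsg.Lie.ChevalleyDatum.nroots @x0) (nat_lit 12) (@Cfsg.Agent.KOa915d05.k5.{1} ℕ (@Cfsg.Lie.ChevalleyDatum.nroots @x0) (nat_lit 8) (@Cfsg.Agent.KOa915d05.k5.{1} ℕ (@Cfsg.Lie.ChevalleyDatum.nroots @x0) (nat_lit 24) (@Cfsg.Agent.KOa915d05.k5.{1} ℕ (@Cfsg.Lie.ChevalleyDatum.nroots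 @x0) (nat_lit 48) (@Cfsg.Agent.KOa915d05.k5.{1} ℕ (@Cfsg.Lie.ChevalleyDatum.nroots @x0) (nat_lit 72) (@Cfsg.Agent.KOa915d05.k5.{1} ℕ (@Cfsg.Lie.ChevalleyDatum.nroots @x0) (nat_lit 126) @Cfsg.Agent.ChevalleyStructure.RootVecTab.packE8 @Cfsg.Agent.ChevalleyStructure.RootVecTab.packE7) @Cfsg.Agent.ChevalleyStructure.RootVecTab.packE6) @Cfsg.Agent.ChevalleyStructure.RootVecTab.packF4) @Cfsg.Agent.ChevalleyStructure.RootVecTab.packD4) @Cfsg.Agent.ChevalleyStructure.RootVecTab.packB2) @Cfsg.Agent.ChevalleyStructure.RootVecTab.packG2)) ?_); rewrite [← Cfsg.Agent.KOa915d05.e5.{1}]; (try delta Cfsg.Agent.ChevalleyStructure.RootVecTab.packTab); (try generalize @Cfsg.Agent.ChevalleyStructure.RootVecTab.packE8 = g0); (try generalize @Cfsg.Agent.ChevalleyStructure.RootVecTab.packE7 = g1); (try generalize @Cfsg.Agent.ChevalleyStructure.RootVecTab.packE6 = g2); (try generalize @Cfsg.Agent.ChevalleyStructure.RootVecTab.packF4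 = g3); (try generalize @Cfsg.Agent.ChevalleyStructure.RootVecTab.packD4 = g4); (try generalize @Cfsg.Agent.ChevalleyStructure.RootVecTab.packB2 = g5); (try generalize @Cfsg.Agent.ChevalleyStructure.RootVecTab.packG2 = g6); rfl') | exact @Cfsg.Agent.ChevalleyStructure.RootVecTab.packTab | exact ()
private theorem _root_.Cfsg.Agent.KOa915d05.e14 : (by first | exact @Cfsg.Agent.ChevalleyStructure.RootVecTab.packTab = @_root_.Cfsg.Agent.KOa915d05.k14 | exact True : Prop) := by first | (delta _root_.Cfsg.Agent.KOa915d05.k14; exact @Subtype.property _ (fun g => @Cfsg.Agent.ChevalleyStructure.RootVecTab.packTab = @g) _) | rfl | trivial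
private noncomputable def _root_.Cfsg.Agent.KOa915d05.k15 : (by first | exact type_of% @Cfsg.Agent.ChevalleyStructure.RootVecTab.code | exact Unit : Sort _) := by first | (refine @Subtype.val _ (fun g => @Cfsg.Agent.ChevalleyStructure.RootVecTab.code = @g) (@Subtype.mk _ _ (@(fun x0 x1 => @Nat.mod (@Nat.shiftRight (@Cfsg.Agent.KOa915d05.k14 @x0) (@Nat.mul (@Nat.mul (nat_lit 6) (@Cfsg.Lie.ChevalleyDatum.rank @x0)) @x1)) (@Nat.pow (nat_lit 2) (@Nat.mul (nat_lit 6) (@Cfsg.Lie.ChevalleyDatum.rank @x0))))) ?_); rewrite [← Cfsg.Agent.KOa915d05.e14]; (try delta Cfsg.Agent.ChevalleyStructure.RootVecTab.code); (try generalize @Cfsg.Agent.ChevalleyStructure.RootVecTab.packTab = g0); rfl') | exact @Cfsg.Agent.ChevalleyStructure.RootVecTab.code | exact ()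
private theorem _root_.Cfsg.Agent.KOa915d05.e15 : (by first | exact @Cfsg.Agent.ChevalleyStructure.RootVecTab.code = @_root_.Cfsg.Agent.KOa915d05.k15 | exact True : Prop) := by first | (delta _root_.Cfsg.Agent.KOa915d05.k15; exact @Subtype.property _ (fun g => @Cfsg.Agent.ChevalleyStructure.RootVecTab.code = @g) _) | rfl | trivial
private noncomputable def _root_.Cfsg.Agent.KOa915d05.k16 : type_of% @instDecidableAnd := @(fun x0 x1 x2 x3 => @Decidable.rec.{1} _ @(fun x4 => @Decidable (@And @x0 @x1)) @(fun x4 => @Decidable.isFalse _ (@instDecidableAnd._proof_2 _ _ @x4)) @(fun x4 => @Decidable.rec.{1} _ @(fun x5 => @Decidable (@And @x0 @x1)) @(fun x5 => @Decidable.isFalse _ (@instDecidableAnd._proof_1 _ _ @x5)) @(fun x5 => @Decidable.isTrue _ (@And.intro _ _ @x4 @x5)) @x3) @x2)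
private theorem _root_.Cfsg.Agent.KOa915d05.e16 : @instDecidableAnd = @_root_.Cfsg.Agent.KOa915d05.k16 := by delta _root_.Cfsg.Agent.KOa915d05.k16; rfl'
private noncomputable def _root_.Cfsg.Agent.KOa915d05.k17 : type_of% @Bool.decEq := @(fun x0 x1 => @Bool.rec.{1} @(fun x2 => @Decidable (@Eq.{1} _ @x2 @x1)) (@Bool.rec.{1} @(fun x2 => @Decidable (@Eq.{1} _ @Bool.false @x2)) (@Decidable.isTrue _ (@rfl.{1} _ _)) (@Decidable.isFalse _ @(fun x2 => @Bool.noConfusion.{0} _ _ _ @x2)) @x1) (@Bool.rec.{1} @(fun x2 => @Decidable (@Eq.{1} _ @Bool.true @x2)) (@Decidable.isFalse _ @(fun x2 => @Bool.noConfusion.{0} _ _ _ @x2)) (@Decidable.isTrue _ (@rfl.{1} _ _)) @x1) @x0)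
private theorem _root_.Cfsg.Agent.KOa915d05.e17 : @Bool.decEq = @_root_.Cfsg.Agent.KOa915d05.k17 := by delta _root_.Cfsg.Agent.KOa915d05.k17; rfl'
private noncomputable def _root_.Cfsg.Agent.KOa915d05.k18 : type_of% @Nat.decLe := @(fun x0 x1 => @Decidable.rec.{1} _ @(fun x2 => @Decidable (@LE.le.{0} _ _ @x0 @x1)) @(fun x2 => @Decidable.isFalse _ (@Nat.not_le_of_not_ble_eq_true _ _ @x2)) @(fun x2 => @Decidable.isTrue _ (@Nat.le_of_ble_eq_true _ _ @x2)) (@Cfsg.Agent.KOa915d05.k17 (@Nat.ble @x0 @x1) @Bool.true))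
private theorem _root_.Cfsg.Agent.KOa915d05.e18 : @Nat.decLe = @_root_.Cfsg.Agent.KOa915d05.k18 := by delta _root_.Cfsg.Agent.KOa915d05.k18; rewrite [← Cfsg.Agent.KOa915d05.e17]; rfl'
private noncomputable def _root_.Cfsg.Agent.KOa915d05.k19 : (by first | exact type_of% @Cfsg.Agent.ChevalleyStructure.RootVec.rt | exact Unit : Sort _) := by first | (refine @Subtype.val _ (fun g => @Cfsg.Agent.ChevalleyStructure.RootVec.rt = @g) (@Subtype.mk _ _ (@(fun x0 x1 x2 => @Decidable.rec.{1} _ @(fun x3 => ℤ) @(fun x3 => @Int.ofNat (nat_lit 0)) @(fun x3 => @Cfsg.Agent.KOa915d05.k12 (@Int.ofNat (@Cfsg.Agent.KOa915d05.k13 (@Cfsg.Agent.KOa915d05.k15 @x0 @x1) (@Nat.sub (@Nat.sub (@Cfsg.Lie.ChevalleyDatum.rank @x0) (nat_lit 1)) @x2))) (@Nat.rec.{1} @(fun x4 => ℤ) (@Int.ofNat (nat_lit 0)) @(fun x4 x5 => @Int.negSucc @x4) (nat_lit 8))) (@Cfsg.Agent.KOa915d05.k16 _ _ (@Cfsg.Agent.KOa915d05.k18 (@Nat.succ @x1) (@Cfsg.Lie.ChevalleyDatum.nroots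 @x0)) (@Cfsg.Agent.KOa915d05.k18 (@Nat.succ @x2) (@Cfsg.Lie.ChevalleyDatum.rank @x0))))) ?_); rewrite [← Cfsg.Agent.KOa915d05.e18, ← Cfsg.Agent.KOa915d05.e16, ← Cfsg.Agent.KOa915d05.e15, ← Cfsg.Agent.KOa915d05.e13, ← Cfsg.Agent.KOa915d05.e12]; (try delta Cfsg.Agent.ChevalleyStructure.RootVec.rt); (try generalize @Cfsg.Agent.ChevalleyStructure.RootVecTab.dig = g0); (try generalize @Cfsg.Agent.ChevalleyStructure.RootVecTab.code = g1); rfl') | exact @Cfsg.Agent.ChevalleyStructure.RootVec.rt | exact ()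
private theorem _root_.Cfsg.Agent.KOa915d05.e19 : (by first | exact @Cfsg.Agent.ChevalleyStructure.RootVec.rt = @_root_.Cfsg.Agent.KOa915d05.k19 | exact True : Prop) := by first | (delta _root_.Cfsg.Agent.KOa915d05.k19; exact @Subtype.property _ (fun g => @Cfsg.Agent.ChevalleyStructure.RootVec.rt = @g) _) | rfl | trivial
private noncomputable def _root_.Cfsg.Agent.KOa915d05.k25 : (by first | exact type_of% @Cfsg.Agent.R2.T1.chkRow | exact Unit : Sort _) := by first | (refine @Subtype.val _ (fun g => @Cfsg.Agent.R2.T1.chkRow = @g) (@Subtype.mk _ _ (@(fun x0 => @Cfsg.Agent.KOa915d05.k7.{0} _ (@BEq.mk.{0} _ @(fun x1 x2 => @Prod.rec.{1, 0, 0} ℕ (@List.{0} (ℕ × ℤ)) @(fun x3 => @Bool) @(fun x3 x4 => @Prod.rec.{1, 0, 0} ℕ (@List.{0} (ℕ × ℤ)) @(fun x5 => @Bool) @(fun x5 x6 => @Bool.rec.{1} @(fun x7 => @Bool) @Bool.false (@Cfsg.Agent.KOa915d05.k7.{0} _ (@BEq.mk.{0} _ @(fun x7 x8 => @Prod.rec.{1, 0, 0} ℕ ℤ @(fun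 x9 => @Bool) @(fun x9 x10 => @Prod.rec.{1, 0, 0} ℕ ℤ @(fun x11 => @Bool) @(fun x11 x12 => @Bool.rec.{1} @(fun x13 => @Bool) @Bool.false (@Decidable.rec.{1} _ @(fun x13 => @Bool) @(fun x13 => @Bool.false) @(fun x13 => @Bool.true) (@Cfsg.Agent.KOa915d05.k9 @x10 @x12)) (@Cfsg.Agent.KOa915d05.k5.{1} @Bool @x9 @x11 @Bool.false @Bool.true)) @x8) @x7)) @x4 @x6) (@Cfsg.Agent.KOa915d05.k5.{1} @Bool @x3 @x5 @Bool.false @Bool.true)) @x2) @x1)) (@Cfsg.Agent.KOa915d05.k10.{0, 0} _ _ @(fun x1 => (@Prod.fst.{0, 0} _ _ @x1, @Array.toList.{0} _ (@Prod.snd.{0, 0} _ _ @x1))) (@Cfsg.Agent.KOa915d05.k11.{0} _ @(fun x1 => @Decidable.rec.{1} _ @(fun x2 => @Bool) @(fun x2 => @Bool.false) @(fun x2 => @Bool.true) (@Cfsg.Agent.KOa915d05.k9 (@Cfsg.Agent.KOa915d05.k19 @Cfsg.Lie.chevE8 (@Prod.fst.{0, 0} _ _ @x1) (nat_lit 7)) (@Int.ofNat (nat_lit 1)))) (@Array.toList.{0} _ (@Decidable.rec.{1} _ @(fun x1 => @Array.{0} (ℕ × (@Array.{0}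 (ℕ × ℤ)))) @(fun x1 => @Array.mk.{0} _ []) @(fun x1 => @List.get.{0} _ (@Array.toList.{0} _ (@Cfsg.Lie.ChevalleyDatum.chain @Cfsg.Lie.chevE8)) (@Fin.mk _ (@Option.rec.{1, 0} ℕ @(fun x2 => ℕ) (nat_lit 0) @(fun x2 => @x2) (@List.get?Internal.{0} _ @Cfsg.Agent.ChevalleyStructure.StEmbed.l78 @x0)) @x1)) (@Cfsg.Agent.KOa915d05.k18 (@Nat.succ (@Option.rec.{1, 0} ℕ @(fun x1 => ℕ) (nat_lit 0) @(fun x1 => @x1) (@List.get?Internal.{0} _ @Cfsg.Agent.ChevalleyStructure.StEmbed.l78 @x0))) (@List.length.{0} _ (@Array.toList.{0} _ (@Cfsg.Lie.ChevalleyDatum.chain @Cfsg.Lie.chevE8)))))))) (@Cfsg.Agent.KOa915d05.k10.{0, 0} _ _ @(fun x1 => (@Prod.fst.{0, 0} _ _ @x1, ((@Prod.fst.{0, 0} _ _ (@Prod.snd.{0, 0} _ _ @x1), @Prod.snd.{0, 0} _ _ (@Prod.snd.{0, 0} _ _ @x1))) :: [])) (@Option.rec.{1, 0} (@List.{0} (ℕ × (ℕ × ℤ))) @(fun x1 => @List.{0} (ℕ × (ℕ × ℤ))) [] @(fun x1 => @x1) (@List.get?Internal.{0} _ @Cfsg.Agent.R2.T1.T56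 @x0))))) ?_); rewrite [← Cfsg.Agent.KOa915d05.e18, ← Cfsg.Agent.KOa915d05.e19, ← Cfsg.Agent.KOa915d05.e11.{0}, ← Cfsg.Agent.KOa915d05.e10.{0, 0}, ← Cfsg.Agent.KOa915d05.e5.{1}, ← Cfsg.Agent.KOa915d05.e9, ← Cfsg.Agent.KOa915d05.e7.{0}]; (try delta Cfsg.Agent.R2.T1.chkRow Cfsg.Agent.ChevalleyStructure.StEmbed.ι78); (try generalize @Cfsg.Agent.ChevalleyStructure.RootVec.rt = g0); (try generalize @Cfsg.Lie.chevE8 = g1); (try generalize @Cfsg.Agent.ChevalleyStructure.StEmbed.l78 = g2); (try generalize @Cfsg.Agent.R2.T1.T56 = g3); rfl') | exact @Cfsg.Agent.R2.T1.chkRow | exact ()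
private theorem _root_.Cfsg.Agent.KOa915d05.e25 : (by first | exact @Cfsg.Agent.R2.T1.chkRow = @_root_.Cfsg.Agent.KOa915d05.k25 | exact True : Prop) := by first | (delta _root_.Cfsg.Agent.KOa915d05.k25; exact @Subtype.property _ (fun g => @Cfsg.Agent.R2.T1.chkRow = @g) _) | rfl | trivial

theorem chkRow_a : (List.range 32).all chkRow = true := by (first | (rewrite [Cfsg.Agent.KOa915d05.e1.{0}, Cfsg.Agent.KOa915d05.e4, Cfsg.Agent.KOa915d05.e25]; decide +kernel) | decide +kernel)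
private noncomputable def _root_.Cfsg.Agent.KOa915d05.k26 : type_of% @List.range' := @(fun x0 x1 x2 => @Nat.rec.{1} @(fun x3 => ℕ → ℕ → @List.{0} ℕ) @(fun x3 x4 => []) @(fun x3 x4 x5 x6 => @x5 :: (@x4 (@Nat.add @x5 @x6) @x6)) @x1 @x0 @x2)
private theorem _root_.Cfsg.Agent.KOa915d05.e26 : @List.range' = @_root_.Cfsg.Agent.KOa915d05.k26 := by delta _root_.Cfsg.Agent.KOa915d05.k26; funext a0 a1 a2; refine (congrFun (congrFun (_root_.Cfsg.Agent.KOa915d05.e2 (fun a1 a0 a2 => @List.range' a0 a1 a2) ?_ (fun c0 => ?_) a1) a0) a2 :) <;> (rfl')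

theorem chkRow_b : (List.range' 32 32).all chkRow = true := by (first | (rewrite [Cfsg.Agent.KOa915d05.e1.{0}, Cfsg.Agent.KOa915d05.e26, Cfsg.Agent.KOa915d05.e25]; decide +kernel) | decide +kernel)
theorem chkRow_c : (List.range' 64 32).all chkRow = true := by (first | (rewrite [Cfsg.Agent.KOa915d05.e1.{0}, Cfsg.Agent.KOa915d05.e26, Cfsg.Agent.KOa915d05.e25]; decide +kernel) | decide +kernel)
theorem chkRow_d : (List.range' 96 30).all chkRow = true := by (first | (rewrite [Cfsg.Agent.KOa915d05.e1.{0}, Cfsg.Agent.KOa915d05.e26, Cfsg.Agent.KOa915d05.e25]; decide +kernel) | decide +kernel)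

theorem chkRow_all {r : ℕ} (hr : r < 126) : chkRow r = true := by
  by_cases h1 : r < 32
  · exact List.all_eq_true.1 chkRow_a r (List.mem_range.2 h1)
  by_cases h2 : r < 64
  · exact List.all_eq_true.1 chkRow_b r (List.mem_range'_1.2 ⟨by omega, by omega⟩)
  by_cases h3 : r < 96
  · exact List.all_eq_true.1 chkRow_c r (List.mem_range'_1.2 ⟨by omega, by omega⟩)
  · exact List.all_eq_true.1 chkRow_d r (List.mem_range'_1.2 ⟨by omega, by omega⟩)

theorem chainCoeff_eq {r : ℕ} (hr : r < 126) {s : ℕ} (hs : rt chevE8 s 7 = 1) (u : ℕ) :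
    chevE8.chainCoeff (ι78 r) s u = ((F56 r s).filter fun q => Nat.beq q.1 u).map fun q => (1, q.2) := by
  have h := chkRow_all hr
  unfold chkRow at h
  rw [beq_iff_eq] at h
  unfold ChevalleyDatum.chainCoeff
  set Lc := (chevE8.chain.getD (ι78 r) #[]).toList with hLc
  have h1 : (Lc.filter fun e => decide (e.1 = s)) =
      (Lc.filter fun e => decide (rt chevE8 e.1 7 = 1)).filter fun e => decide (e.1 = s) := by
    rw [List.filter_filter]
    refine List.filter_congr fun e _ => ?_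
    by_cases h2 : e.1 = s
    · simp [h2, hs]
    · simp [h2]
  rw [h1]
  set Ld := Lc.filter fun e => decide (rt chevE8 e.1 7 = 1) with hLd
  have h2 : ∀ (A : List (ℕ × Array (ℕ × ℤ))) (B : List (ℕ × ℕ × ℤ)),
      (A.map fun e => (e.1, e.2.toList)) = (B.map fun x => (x.1, [(x.2.1, x.2.2)])) →
      ((A.filter fun e => decide (e.1 = s)).flatMap fun e =>
        ((e.2.toList.zipIdx).filter (fun q => q.1.1 = u)).map fun q => (q.2 + 1, q.1.2)) =
      ((((B.filter fun x => Nat.beq x.1 s).map fun x => x.2)).filter fun q => Nat.beq q.1 u).map fun q => (1, q.2) := by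
    intro A
    induction A with
    | nil =>
      intro B hB
      cases B with
      | nil => rfl
      | cons b B => simp at hB
    | cons a A ih =>
      intro B hB
      cases B with
      | nil => simp at hB
      | cons b B =>
        rw [List.map_cons, List.map_cons, List.cons.injEq, Prod.mk.injEq] at hB
        obtain ⟨⟨h3, h4⟩, h5⟩ := hB
        have h6 := ih B h5
        by_cases hs' : b.1 = s
        · have e1 : decide (a.1 = s) = true := by simp [h3, hs']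
          have e2 : Nat.beq b.1 s = true := by simp [hs']
          rw [List.filter_cons_of_pos (by simpa using e1), List.filter_cons_of_pos (by simpa using e2), List.flatMap_cons,
            h6, h4, List.map_cons]
          by_cases hu : b.2.1 = u
          · have e3 : Nat.beq b.2.1 u = true := by simp [hu]
            rw [List.filter_cons_of_pos (by simpa using e3), List.map_cons]
            simp [hu]
          · have e3 : ¬ Nat.beq b.2.1 u = true := by simp [hu]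
            rw [List.filter_cons_of_neg (by simpa using e3)]
            simp [hu]
        · have e1 : ¬ decide (a.1 = s) = true := by simp [h3, hs']
          have e2 : ¬ Nat.beq b.1 s = true := by simp [hs']
          rw [List.filter_cons_of_neg (by simpa using e1), List.filter_cons_of_neg (by simpa using e2), h6]
  exact h2 Ld _ h

/-- the image of the basis vector `s` -/
def mv (r s : ℕ) : Option (ℕ × ℤ) := (F56 r s).head?

/-- the check of the action of the root `r` -/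
def chkMv (r : ℕ) : Bool := (List.range 240).all fun s => bif decide (rt chevE8 s 7 = 1) then
    (match F56 r s with
      | [] => true
      | [(u, c)] => (c * c == 1) && decide (u < 240) && decide (rt chevE8 u 7 = 1) && (F56 r u == []) &&
          (F56 (125 - r) u == [(s, c)])
      | _ => false) else true

private noncomputable def _root_.Cfsg.Agent.KOa915d05.k24.{ku0} : type_of% @List.get?Internal.{ku0} := @(fun x0 x1 x2 => @List.rec.{(ku0+1), ku0} @x0 @(fun x3 => ℕ → @Option.{ku0} @x0) @(fun x3 => @Option.none.{ku0} _) @(fun x3 x4 x5 x6 => @Nat.rec.{(ku0+1)} @(fun x7 => @Option.{ku0} @x0) (@Option.some.{ku0} _ @x3) @(fun x7 x8 => @x5 @x7) @x6) @x1 @x2)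
private theorem _root_.Cfsg.Agent.KOa915d05.e24.{ku0} : @List.get?Internal.{ku0} = @_root_.Cfsg.Agent.KOa915d05.k24.{ku0} := by delta _root_.Cfsg.Agent.KOa915d05.k24; funext a0 a1 a2; refine (congrFun (_root_.Cfsg.Agent.KOa915d05.e0 (fun a1 a2 => @List.get?Internal.{ku0} a0 a1 a2) ?_ (fun c0 c1 => ?_) a1) a2 :) <;> [(funext b0; (rfl')); (funext b0; (cases b0 with | @zero  => (rfl') | @succ b0_0 => (rfl')))]
private noncomputable def _root_.Cfsg.Agent.KOa915d05.oLe.{ku} (α : Sort ku) (a b : Nat) (f t : α) : α := @Decidable.rec (@LE.le Nat instLENat a b) (fun _ => α) (fun _ => f) (fun _ => t) (Nat.decLe a b)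
private noncomputable def _root_.Cfsg.Agent.KOa915d05.k27.{ku} (α : Sort ku) (a b : Nat) (f t : α) : α := @Bool.rec (fun _ => α) f t (Nat.ble a b)
private theorem _root_.Cfsg.Agent.KOa915d05.e27.{ku} : @_root_.Cfsg.Agent.KOa915d05.oLe.{ku} = @_root_.Cfsg.Agent.KOa915d05.k27.{ku} := funext fun α => funext fun a => funext fun b => funext fun f => funext fun t => by delta _root_.Cfsg.Agent.KOa915d05.oLe _root_.Cfsg.Agent.KOa915d05.k27; cases h : Nat.ble a b <;> cases Nat.decLe a b <;> rename_i g <;> first | rfl | exact absurd (h.symm.trans (Nat.ble_eq_true_of_le g)) Bool.false_ne_true | exact absurd (Nat.le_of_ble_eq_true h) g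
private noncomputable def _root_.Cfsg.Agent.KOa915d05.k28 : (by first | exact type_of% @Cfsg.Agent.R2.T1.F56 | exact Unit : Sort _) := by first | (refine @Subtype.val _ (fun g => @Cfsg.Agent.R2.T1.F56 = @g) (@Subtype.mk _ _ (@(fun x0 x1 => @Cfsg.Agent.KOa915d05.k10.{0, 0} _ _ @(fun x2 => @Prod.snd.{0, 0} _ _ @x2) (@Cfsg.Agent.KOa915d05.k11.{0} _ @(fun x2 => @Nat.beq (@Prod.fst.{0, 0} _ _ @x2) @x1) (@Option.rec.{1, 0} (@List.{0} (ℕ × (ℕ × ℤ))) @(fun x2 => @List.{0} (ℕ × (ℕ × ℤ))) [] @(fun x2 => @x2) (@Cfsg.Agent.KOa915d05.k24.{0} _ @Cfsg.Agent.R2.T1.T56 @x0))))) ?_); rewrite [← Cfsg.Agent.KOa915d05.e24.{0}, ← Cfsg.Agent.KOa915d05.e11.{0}, ← Cfsg.Agent.KOa915d05.e10.{0, 0}]; (try delta Cfsg.Agent.R2.T1.F56); (try generalize @Cfsg.Agent.R2.T1.T56 = g0); rfl') | exact @Cfsg.Agent.R2.T1.F56 | exact ()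
private theorem _root_.Cfsg.Agent.KOa915d05.e28 : (by first | exact @Cfsg.Agent.R2.T1.F56 = @_root_.Cfsg.Agent.KOa915d05.k28 | exact True : Prop) := by first | (delta _root_.Cfsg.Agent.KOa915d05.k28; exact @Subtype.property _ (fun g => @Cfsg.Agent.R2.T1.F56 = @g) _) | rfl | trivial
private noncomputable def _root_.Cfsg.Agent.KOa915d05.k30 : (by first | exact type_of% @Cfsg.Agent.R2.T1.chkMv | exact Unit : Sort _) := by first | (refine @Subtype.val _ (fun g => @Cfsg.Agent.R2.T1.chkMv = @g) (@Subtype.mk _ _ (@(fun (x0 : @Nat) => @Cfsg.Agent.KOa915d05.k1.{0} @Nat (@Cfsg.Agent.KOa915d05.k3 (nat_lit 240) (@List.nil.{0} @Nat)) @(fun (x1 : @Nat) => @Bool.rec.{1} @(fun (x2 : @Bool) => @Bool) @Bool.true (@List.rec.{1, 0} (@Prod.{0, 0} @Nat @Int) @(fun (x2 : @List.{0} (@Prod.{0, 0} @Nat @Int)) => @Bool) @Bool.true @(fun (x2 : @Prod.{0, 0} @Nat @Int) (x3 : @List.{0} (@Prod.{0, 0} @Nat @Int)) (x4 : @Bool) => @Prod.rec.{1,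 0, 0} @Nat @Int @(fun (x5 : @Prod.{0, 0} @Nat @Int) => @Bool) @(fun (x5 : @Nat) (x6 : @Int) => @List.rec.{1, 0} (@Prod.{0, 0} @Nat @Int) @(fun (x7 : @List.{0} (@Prod.{0, 0} @Nat @Int)) => (((@Nat.hasNotBit (nat_lit 1) (@List.ctorIdx.{0} (@Prod.{0, 0} @Nat @Int) @x7)) → @Bool) → @Bool)) @(fun (x7 : ((@Nat.hasNotBit (nat_lit 1) (@List.ctorIdx.{0} (@Prod.{0, 0} @Nat @Int) (@List.nil.{0} (@Prod.{0, 0} @Nat @Int)))) → @Bool)) => @Bool.rec.{1} @(fun (x8 : @Bool) => @Bool) @Bool.false (@Cfsg.Agent.KOa915d05.k7.{0} (@Prod.{0, 0} @Nat @Int) (@BEq.mk.{0} (@Prod.{0, 0} @Nat @Int) @(fun (x8 : @Prod.{0, 0} @Nat @Int) (x9 : @Prod.{0, 0} @Nat @Int) => @Prod.rec.{1, 0, 0} @Nat @Int @(fun (x10 : @Prod.{0, 0} @Nat @Int) => @Bool) @(fun (x10 : @Nat) (x11 : @Int) => @Prod.rec.{1, 0, 0} @Nat @Int @(fun (x12 : @Prod.{0, 0} @Nat @Int) => @Bool) @(fun (x12 : @Nat) (x13 : @Int) => @Bool.rec.{1} @(fun (x14 : @Bool) => @Bool)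 @Bool.false (@Decidable.rec.{1} (@Eq.{1} @Int @x11 @x13) @(fun (x14 : @Decidable (@Eq.{1} @Int @x11 @x13)) => @Bool) @(fun (x14 : @Not (@Eq.{1} @Int @x11 @x13)) => @Bool.false) @(fun (x14 : @Eq.{1} @Int @x11 @x13) => @Bool.true) (@Cfsg.Agent.KOa915d05.k9 @x11 @x13)) (@Cfsg.Agent.KOa915d05.k5.{1} @Bool @x10 @x12 @Bool.false @Bool.true)) @x9) @x8)) (@Cfsg.Agent.KOa915d05.k28 (@Nat.sub (nat_lit 125) @x0) @x5) (@List.cons.{0} (@Prod.{0, 0} @Nat @Int) (@Prod.mk.{0, 0} @Nat @Int @x1 @x6) (@List.nil.{0} (@Prod.{0, 0} @Nat @Int)))) (@Bool.rec.{1} @(fun (x8 : @Bool) => @Bool) @Bool.false (@Cfsg.Agent.KOa915d05.k7.{0} (@Prod.{0, 0} @Nat @Int) (@BEq.mk.{0} (@Prod.{0, 0} @Nat @Int) @(fun (x8 : @Prod.{0, 0} @Nat @Int) (x9 : @Prod.{0, 0} @Nat @Int) => @Prod.rec.{1, 0, 0} @Nat @Int @(fun (x10 : @Prod.{0, 0} @Nat @Int) => @Bool) @(fun (x10 : @Nat) (x11 : @Int) => @Prod.rec.{1, 0, 0} @Nat @Int @(fun (x12 : @Prod.{0,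 0} @Nat @Int) => @Bool) @(fun (x12 : @Nat) (x13 : @Int) => @Bool.rec.{1} @(fun (x14 : @Bool) => @Bool) @Bool.false (@Decidable.rec.{1} (@Eq.{1} @Int @x11 @x13) @(fun (x14 : @Decidable (@Eq.{1} @Int @x11 @x13)) => @Bool) @(fun (x14 : @Not (@Eq.{1} @Int @x11 @x13)) => @Bool.false) @(fun (x14 : @Eq.{1} @Int @x11 @x13) => @Bool.true) (@Cfsg.Agent.KOa915d05.k9 @x11 @x13)) (@Cfsg.Agent.KOa915d05.k5.{1} @Bool @x10 @x12 @Bool.false @Bool.true)) @x9) @x8)) (@Cfsg.Agent.KOa915d05.k28 @x0 @x5) (@List.nil.{0} (@Prod.{0, 0} @Nat @Int))) (@Bool.rec.{1} @(fun (x8 : @Bool) => @Bool) @Bool.false (@Decidable.rec.{1} (@Eq.{1} @Int (@Cfsg.Agent.KOa915d05.k19 @Cfsg.Lie.chevE8 @x5 (@OfNat.ofNat.{0} @Nat (nat_lit 7) (@instOfNatNat (nat_lit 7)))) (@OfNat.ofNat.{0} @Int (nat_lit 1) (@instOfNat (nat_lit 1)))) @(fun (x8 : @Decidable (@Eq.{1} @Int (@Cfsg.Agent.KOa915d05.k19 @Cfsg.Lie.chevE8 @x5 (@OfNat.ofNat.{0} @Nat (nat_lit 7)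 (@instOfNatNat (nat_lit 7)))) (@OfNat.ofNat.{0} @Int (nat_lit 1) (@instOfNat (nat_lit 1))))) => @Bool) @(fun (x8 : @Not (@Eq.{1} @Int (@Cfsg.Agent.KOa915d05.k19 @Cfsg.Lie.chevE8 @x5 (@OfNat.ofNat.{0} @Nat (nat_lit 7) (@instOfNatNat (nat_lit 7)))) (@OfNat.ofNat.{0} @Int (nat_lit 1) (@instOfNat (nat_lit 1))))) => @Bool.false) @(fun (x8 : @Eq.{1} @Int (@Cfsg.Agent.KOa915d05.k19 @Cfsg.Lie.chevE8 @x5 (@OfNat.ofNat.{0} @Nat (nat_lit 7) (@instOfNatNat (nat_lit 7)))) (@OfNat.ofNat.{0} @Int (nat_lit 1) (@instOfNat (nat_lit 1)))) => @Bool.true) (@Cfsg.Agent.KOa915d05.k9 (@Cfsg.Agent.KOa915d05.k19 @Cfsg.Lie.chevE8 @x5 (nat_lit 7)) (@Int.ofNat (nat_lit 1)))) (@Bool.rec.{1} @(fun (x8 : @Bool) => @Bool) @Bool.false (@Cfsg.Agent.KOa915d05.k27.{1} @Bool (@Nat.succ @x5) (nat_lit 240) @Bool.false @Bool.true) (@Decidable.rec.{1} (@Eq.{1} @Int (@HMul.hMul.{0, 0, 0} @Int @Int @Int (@instHMul.{0} @Int @Int.instMul) @x6 @x6)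 (@OfNat.ofNat.{0} @Int (nat_lit 1) (@instOfNat (nat_lit 1)))) @(fun (x8 : @Decidable (@Eq.{1} @Int (@HMul.hMul.{0, 0, 0} @Int @Int @Int (@instHMul.{0} @Int @Int.instMul) @x6 @x6) (@OfNat.ofNat.{0} @Int (nat_lit 1) (@instOfNat (nat_lit 1))))) => @Bool) @(fun (x8 : @Not (@Eq.{1} @Int (@HMul.hMul.{0, 0, 0} @Int @Int @Int (@instHMul.{0} @Int @Int.instMul) @x6 @x6) (@OfNat.ofNat.{0} @Int (nat_lit 1) (@instOfNat (nat_lit 1))))) => @Bool.false) @(fun (x8 : @Eq.{1} @Int (@HMul.hMul.{0, 0, 0} @Int @Int @Int (@instHMul.{0} @Int @Int.instMul) @x6 @x6) (@OfNat.ofNat.{0} @Int (nat_lit 1) (@instOfNat (nat_lit 1)))) => @Bool.true) (@Cfsg.Agent.KOa915d05.k9 (@Int.mul @x6 @x6) (@Int.ofNat (nat_lit 1)))))))) @(fun (x7 : @Prod.{0, 0} @Nat @Int) (x8 : @List.{0} (@Prod.{0, 0} @Nat @Int)) (x9 : (((@Nat.hasNotBit (nat_lit 1) (@List.ctorIdx.{0} (@Prod.{0, 0} @Nat @Int) @x8)) → @Bool) → @Bool)) (x10 : ((@Nat.hasNotBit (nat_lit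 1) (@List.ctorIdx.{0} (@Prod.{0, 0} @Nat @Int) (@List.cons.{0} (@Prod.{0, 0} @Nat @Int) @x7 @x8))) → @Bool)) => @x10 (@Nat.ne_of_beq_eq_false (@Nat.land (@OfNat.ofNat.{0} @Nat (nat_lit 1) (@instOfNatNat (nat_lit 1))) (@Nat.shiftRight (nat_lit 1) (nat_lit 1))) (@OfNat.ofNat.{0} @Nat (nat_lit 1) (@instOfNatNat (nat_lit 1))) (@Eq.refl.{1} @Bool @Bool.false))) @x3 @(fun (x7 : @Nat.hasNotBit (nat_lit 1) (@List.ctorIdx.{0} (@Prod.{0, 0} @Nat @Int) @x3)) => @Bool.false)) @x2) (@Cfsg.Agent.KOa915d05.k28 @x0 @x1)) (@Decidable.rec.{1} (@Eq.{1} @Int (@Cfsg.Agent.KOa915d05.k19 @Cfsg.Lie.chevE8 @x1 (@OfNat.ofNat.{0} @Nat (nat_lit 7) (@instOfNatNat (nat_lit 7)))) (@OfNat.ofNat.{0} @Int (nat_lit 1) (@instOfNat (nat_lit 1)))) @(fun (x2 : @Decidable (@Eq.{1} @Int (@Cfsg.Agent.KOa915d05.k19 @Cfsg.Lie.chevE8 @x1 (@OfNat.ofNat.{0} @Nat (nat_lit 7) (@instOfNatNat (nat_lit 7)))) (@OfNat.ofNat.{0} @Int (nat_lit 1) (@instOfNat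 (nat_lit 1))))) => @Bool) @(fun (x2 : @Not (@Eq.{1} @Int (@Cfsg.Agent.KOa915d05.k19 @Cfsg.Lie.chevE8 @x1 (@OfNat.ofNat.{0} @Nat (nat_lit 7) (@instOfNatNat (nat_lit 7)))) (@OfNat.ofNat.{0} @Int (nat_lit 1) (@instOfNat (nat_lit 1))))) => @Bool.false) @(fun (x2 : @Eq.{1} @Int (@Cfsg.Agent.KOa915d05.k19 @Cfsg.Lie.chevE8 @x1 (@OfNat.ofNat.{0} @Nat (nat_lit 7) (@instOfNatNat (nat_lit 7)))) (@OfNat.ofNat.{0} @Int (nat_lit 1) (@instOfNat (nat_lit 1)))) => @Bool.true) (@Cfsg.Agent.KOa915d05.k9 (@Cfsg.Agent.KOa915d05.k19 @Cfsg.Lie.chevE8 @x1 (nat_lit 7)) (@Int.ofNat (nat_lit 1))))))) ?_); rewrite [← Cfsg.Agent.KOa915d05.e27.{1}, ← Cfsg.Agent.KOa915d05.e19, ← Cfsg.Agent.KOa915d05.e28, ← Cfsg.Agent.KOa915d05.e5.{1}, ← Cfsg.Agent.KOa915d05.e9, ← Cfsg.Agent.KOa915d05.e7.{0}, ← Cfsg.Agent.KOa915d05.e3, ← Cfsg.Agent.KOa915d05.e1.{0}]; (try delta Cfsg.Agent.R2.T1.chkMv); (try generalize @Cfsg.Agent.R2.T1.F56 = g0); (try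 generalize @Cfsg.Agent.ChevalleyStructure.RootVec.rt = g1); (try generalize @Cfsg.Lie.chevE8 = g2); rfl') | exact @Cfsg.Agent.R2.T1.chkMv | exact ()
private theorem _root_.Cfsg.Agent.KOa915d05.e30 : (by first | exact @Cfsg.Agent.R2.T1.chkMv = @_root_.Cfsg.Agent.KOa915d05.k30 | exact True : Prop) := by first | (delta _root_.Cfsg.Agent.KOa915d05.k30; exact @Subtype.property _ (fun g => @Cfsg.Agent.R2.T1.chkMv = @g) _) | rfl | trivial

theorem chkMv_a : (List.range 32).all chkMv = true := by (first | (rewrite [Cfsg.Agent.KOa915d05.e1.{0}, Cfsg.Agent.KOa915d05.e4, Cfsg.Agent.KOa915d05.e30]; decide +kernel) | decide +kernel)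
theorem chkMv_b : (List.range' 32 32).all chkMv = true := by (first | (rewrite [Cfsg.Agent.KOa915d05.e1.{0}, Cfsg.Agent.KOa915d05.e26, Cfsg.Agent.KOa915d05.e30]; decide +kernel) | decide +kernel)
theorem chkMv_c : (List.range' 64 32).all chkMv = true := by (first | (rewrite [Cfsg.Agent.KOa915d05.e1.{0}, Cfsg.Agent.KOa915d05.e26, Cfsg.Agent.KOa915d05.e30]; decide +kernel) | decide +kernel)
theorem chkMv_d : (List.range' 96 30).all chkMv = true := by (first | (rewrite [Cfsg.Agent.KOa915d05.e1.{0}, Cfsg.Agent.KOa915d05.e26, Cfsg.Agent.KOa915d05.e30]; decide +kernel) | decide +kernel)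

theorem chkMv_all {r : ℕ} (hr : r < 126) : chkMv r = true := by
  by_cases h1 : r < 32
  · exact List.all_eq_true.1 chkMv_a r (List.mem_range.2 h1)
  by_cases h2 : r < 64
  · exact List.all_eq_true.1 chkMv_b r (List.mem_range'_1.2 ⟨by omega, by omega⟩)
  by_cases h3 : r < 96
  · exact List.all_eq_true.1 chkMv_c r (List.mem_range'_1.2 ⟨by omega, by omega⟩)
  · exact List.all_eq_true.1 chkMv_d r (List.mem_range'_1.2 ⟨by omega, by omega⟩)

theorem F56_cases {r : ℕ} (hr : r < 126) {s : ℕ} (hs : s < 240) (h7 : rt chevE8 s 7 = 1) :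
    (F56 r s = [] ∧ mv r s = none) ∨ ∃ u c, F56 r s = [(u, c)] ∧ mv r s = some (u, c) ∧ c * c = 1 ∧ u < 240 ∧
      rt chevE8 u 7 = 1 ∧ F56 r u = [] ∧ F56 (125 - r) u = [(s, c)] := by
  have h := List.all_eq_true.1 (chkMv_all hr) s (List.mem_range.2 hs)
  have h6 : decide (rt chevE8 s 7 = 1) = true := decide_eq_true h7
  rw [h6, cond_true] at h
  unfold mv
  rcases hF : F56 r s with _ | ⟨⟨u, c⟩, l⟩
  · exact Or.inl ⟨rfl, rfl⟩
  · right
    rw [hF] at h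
    cases l with
    | cons a l => simp at h
    | nil =>
      simp only [Bool.and_eq_true, beq_iff_eq, decide_eq_true_eq] at h
      obtain ⟨⟨⟨⟨h1, h2⟩, h3⟩, h4⟩, h5⟩ := h
      exact ⟨u, c, rfl, rfl, h1, h2, h3, h4, h5⟩

end Cfsg.Agent.R2.T1
end

-- part: R2/T1/Inf/Cen
section
prune_inst 0x1040000000000002000000000000000000000000000000000000802000002000000000040200000000000000000000000000000000000000000000000000000001000100000000000000000000000000000000000000000000000000000000000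
set_option linter.all false
open scoped Cfsg.Agent.FastGrp

-- part: R2/T1/Inf/Act
section
/-!
# The action of the root elements on the 56-dimensional module (helper11)

* `xs r t` : the root element of `Gh F`; `nz r a b` : the matrix of `x_r(1) - 1`;
* `rho_xs`, `V_xs` : `x_r(t)` acts as `1 + t * nz r`;
* `irred` : the module is irreducible;
* `emb f : Gh F →* Gh K`, `rho_emb`.
-/

set_option autoImplicit false
set_option maxRecDepth 100000

namespace Cfsg.Agent.R2.T1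

open Cfsg Cfsg.Lie Module
open Cfsg.Agent.ChevalleyStructure.StTheta Cfsg.Agent.ChevalleyStructure.StEmbed Cfsg.Agent.ChevalleyStructure.StBasic
open Cfsg.Agent.ChevalleyStructure Cfsg.Agent.ChevalleyStructure.Elts Cfsg.Agent.ChevalleyStructure.RootVec
  Cfsg.Agent.ChevalleyStructure.RootVecTab Cfsg.Agent.ChevalleyStructure.CoxeterGeomTypes
open Cfsg.Agent.KFacts.En.Roots Cfsg.Agent.H120.StSeven
open Cfsg.Agent.H943.E7V.Block

universe u v

section
variable {F : Type u} [Field F]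

/-- the index of the root -/
abbrev nn (a : D1) : ℕ := a.1.1

theorem nn_lt (a : D1) : nn a < 240 := a.1.2

theorem rt_nn (a : D1) : rt chevE8 (nn a) 7 = 1 := a.2

theorem nn_inj {a b : D1} (h : nn a = nn b) : a = b := Subtype.ext (Fin.ext h)

/-- the entries of `x_r(1) - 1` -/
def nz (r : ℕ) (a b : D1) : ℤ :=
  match mv r (nn b) with
  | some (u, c) => if nn a = u then c else 0
  | none => 0

/-- the root element -/
def xs (F : Type u) [Field F] (r : ℕ) (t : F) : Gh F := chevE7.stGen F r t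

theorem iota_lt {r : ℕ} (hr : r < 126) : ι78 r < chevE8.nroots := emb78.lt r hr

theorem col_ne {r : ℕ} (hr : r < 126) (b : D1) : nn b ≠ ι78 r ∧
    nn b ≠ chevE8.negIdx.getD (ι78 r) 0 := by
  have h0 := grade_iota r hr
  refine ⟨fun h => ?_, fun h => ?_⟩
  · have h1 := rt_nn b
    rw [h, h0] at h1
    exact absurd h1 (by norm_num)
  · have h1 := rt_nn b
    have h3 := rt_neg checked_E8 (iota_lt hr) 7
    rw [h0] at h3
    change rt chevE8 (chevE8.negIdx.getD (ι78 r) 0) 7 = _ at h3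
    rw [← h, h1] at h3
    exact absurd h3 (by norm_num)

theorem x_entry {D : ChevalleyDatum} {r : ℕ} (hr : r < D.nroots) {s u : Fin D.nroots}
    (h1 : (s : ℕ) ≠ r) (h2 : (s : ℕ) ≠ D.negIdx.getD r 0) (t : F) :
    D.x F r t (Sum.inr u) (Sum.inr s) = (if u = s then 1 else 0) +
      ((D.chainCoeff r s u).map fun km => ((km.2 : ℤ) : F) * t ^ km.1).sum := by
  unfold ChevalleyDatum.x
  rw [dif_pos hr]
  unfold ChevalleyDatum.xMat
  rw [Matrix.of_apply]
  have h3 : s ≠ ⟨r, hr⟩ := fun h => h1 (congrArg Fin.val h)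
  simp only [if_neg h3, if_neg h2]

theorem rho_xs {r : ℕ} (hr : r < 126) (t : F) (a b : D1) :
    rho F (xs F r t) a b = (if a = b then 1 else 0) + t * ((nz r a b : ℤ) : F) := by
  have h2 : ((Cfsg.Agent.H120.StSeven.alpha F (chevE7.stGen F r t) : ↥(chevE8.group F)) :
      GL chevE8.Idx F) = xG ty_E8.ty.inList (ι78 r) t := by
    show ((theta ty_E8.ty.inList F (hom emb78 F (chevE7.stGen F r t)) :
      ↥(chevE8.group F)) : GL chevE8.Idx F) = _
    rw [hom_stGen emb78 hr, coe_theta, thetaGL_stGen]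
  obtain ⟨n1, n2⟩ := col_ne hr b
  have h3 : rho F (xs F r t) a b = chevE8.x F (ι78 r) t (Sum.inr a.1) (Sum.inr b.1) := by
    unfold xs
    rw [rho_apply, h2]
    rfl
  rw [h3, x_entry (iota_lt hr) n1 n2, chainCoeff_eq hr b.2]
  congr 1
  · simp only [Subtype.ext_iff]
  · unfold nz
    rcases F56_cases hr b.1.2 b.2 with ⟨h, h'⟩ | ⟨u, c, h, h', -⟩
    · rw [h, h']; simp
    · rw [h, h']
      by_cases hu : nn a = u
      · have e : Nat.beq u (nn a) = true := by simp [hu]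
        rw [List.filter_cons_of_pos (by simpa using e)]
        simp [hu, mul_comm]
      · have e : ¬ Nat.beq u (nn a) = true := by
          simpa using fun h => hu h.symm
        rw [List.filter_cons_of_neg (by simpa using e)]
        simp [hu]

/-- the matrix of `x_r(1) - 1` -/
def NM (F : Type u) [Field F] (r : ℕ) : Matrix D1 D1 F := Matrix.of fun a b => ((nz r a b : ℤ) : F)

theorem rho_xs' {r : ℕ} (hr : r < 126) (t : F) : rho F (xs F r t) = 1 + t • NM F r := by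
  ext a b
  rw [rho_xs hr, Matrix.add_apply, Matrix.one_apply, Matrix.smul_apply, smul_eq_mul]
  rfl

theorem V_xs {r : ℕ} (hr : r < 126) (t : F) (w : D1 → F) : V F (xs F r t) w = w + t • (NM F r).mulVec w := by
  rw [V_apply, rho_xs' hr, Matrix.add_mulVec, Matrix.one_mulVec, Matrix.smul_mulVec]

/-- the target of the basis vector -/
theorem mv_spec {r : ℕ} (hr : r < 126) (b : D1) :
    mv r (nn b) = none ∨ ∃ (a : D1) (c : ℤ), mv r (nn b) = some (nn a, c) ∧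
      c * c = 1 ∧ mv r (nn a) = none ∧ mv (125 - r) (nn a) = some (nn b, c) := by
  rcases F56_cases hr b.1.2 b.2 with ⟨-, h'⟩ | ⟨u, c, -, h', h1, h2, h3, h4, h5⟩
  · exact Or.inl h'
  · refine Or.inr ⟨⟨⟨u, h2⟩, h3⟩, c, h', h1, ?_, ?_⟩
    · unfold mv; rw [h4]; rfl
    · unfold mv; rw [h5]; rfl

theorem nz_none {r : ℕ} {b : D1} (h : mv r (nn b) = none) (a : D1) : nz r a b = 0 := by
  unfold nz; rw [h]

theorem nz_some {r : ℕ} {b a' : D1} {c : ℤ} (h : mv r (nn b) = some (nn a', c)) (a : D1) :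
    nz r a b = if a = a' then c else 0 := by
  unfold nz; rw [h]
  simp only [Subtype.ext_iff, Fin.ext_iff]

theorem nz_ne {r : ℕ} {a b : D1} (h : nz r a b ≠ 0) : ∃ c, mv r (nn b) = some (nn a, c) ∧
    nz r a b = c := by
  unfold nz at h ⊢
  rcases hm : mv r (nn b) with _ | ⟨u, c⟩
  · rw [hm] at h; exact absurd rfl h
  · rw [hm] at h
    dsimp only at h ⊢
    by_cases hu : nn a = u
    · subst hu
      exact ⟨c, rfl, if_pos rfl⟩
    · rw [if_neg hu] at h; exact absurd rfl h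

theorem sub_sub_r {r : ℕ} (hr : r < 126) : 125 - (125 - r) = r := by omega

/-- the row of `a` has only one entry -/
theorem nz_row {r : ℕ} (hr : r < 126) {a b : D1} {c : ℤ} (h : mv r (nn b) = some (nn a, c))
    (b' : D1) : nz r a b' = if b' = b then c else 0 := by
  by_cases hb : b' = b
  · rw [if_pos hb, hb, nz_some h, if_pos rfl]
  · rw [if_neg hb]
    by_contra hne
    obtain ⟨c', h1, -⟩ := nz_ne hne
    rcases mv_spec hr b with h2 | ⟨a2, c2, h2, -, -, h3⟩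
    · rw [h2] at h; exact absurd h (by simp)
    rw [h, Option.some.injEq, Prod.mk.injEq] at h2
    have e2 : a = a2 := Subtype.ext (Fin.ext h2.1)
    rcases mv_spec hr b' with h4 | ⟨a4, c4, h4, -, -, h5⟩
    · rw [h4] at h1; exact absurd h1 (by simp)
    rw [h1, Option.some.injEq, Prod.mk.injEq] at h4
    have e4 : a = a4 := Subtype.ext (Fin.ext h4.1)
    rw [← e4] at h5
    rw [← e2, h5, Option.some.injEq, Prod.mk.injEq] at h3
    exact hb (Subtype.ext (Fin.ext h3.1))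

theorem NM_mulVec {r : ℕ} (hr : r < 126) {a b : D1} {c : ℤ}
    (h : mv r (nn b) = some (nn a, c)) (w : D1 → F) :
    (NM F r).mulVec w a = (c : F) * w b := by
  rw [Matrix.mulVec, dotProduct, Finset.sum_eq_single b]
  · show ((nz r a b : ℤ) : F) * _ = _
    rw [nz_row hr h, if_pos rfl]
  · intro b' _ hb
    show ((nz r a b' : ℤ) : F) * _ = _
    rw [nz_row hr h, if_neg hb, Int.cast_zero, zero_mul]
  · intro h; exact absurd (Finset.mem_univ _) h

theorem NM_mulVec_ne {r : ℕ} {a : D1} {w : D1 → F} (h : (NM F r).mulVec w a ≠ 0) :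
    ∃ (b : D1) (c : ℤ), mv r (nn b) = some (nn a, c) ∧ w b ≠ 0 := by
  rw [Matrix.mulVec, dotProduct] at h
  obtain ⟨b, -, hb⟩ := Finset.exists_ne_zero_of_sum_ne_zero h
  have h1 : nz r a b ≠ 0 := by
    intro h0
    apply hb
    show ((nz r a b : ℤ) : F) * _ = _
    rw [h0, Int.cast_zero, zero_mul]
  obtain ⟨c, h2, -⟩ := nz_ne h1
  exact ⟨b, c, h2, right_ne_zero_of_mul hb⟩

/-! ### irreducibility -/

/-- raising and lowering by simple roots -/
def chkUp : Bool := (List.range 240).all fun s => bif decide (rt chevE8 s 7 = 1) then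
    (Nat.beq s 238 || (List.range 7).any fun i => !(F56 (chevE7.simple i) s == [])) &&
    (Nat.beq s 120 || (List.range 7).any fun i => !(F56 (125 - chevE7.simple i) s == [])) else true

private noncomputable def _root_.Cfsg.Agent.LsF.f68709f_0 : {f // @Cfsg.Agent.ChevalleyStructure.RootVecTab.dig = f} := ⟨_, by first | (delta Cfsg.Agent.ChevalleyStructure.RootVecTab.dig; rewrite [Cfsg.Agent.LsF.nmul_pat]; exact rfl) | exact rfl⟩
private noncomputable def _root_.Cfsg.Agent.LsF.f68709f_1 : {f // @Cfsg.Agent.ChevalleyStructure.RootVecTab.packTab = f} := ⟨_, by first | (delta Cfsg.Agent.ChevalleyStructure.RootVecTab.packTab; rewrite [Cfsg.Agent.LsF.instDecEq_eq, Cfsg.Agent.LsF.ite_eq]; exact rfl) | exact rfl⟩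
private noncomputable def _root_.Cfsg.Agent.LsF.f68709f_2 : {f // @Cfsg.Agent.ChevalleyStructure.RootVecTab.code = f} := ⟨_, by first | (delta Cfsg.Agent.ChevalleyStructure.RootVecTab.code; rewrite [Cfsg.Agent.LsF.f68709f_1.2, Cfsg.Agent.LsF.nmul_pat, Cfsg.Agent.LsF.npow_pat]; exact rfl) | exact rfl⟩
private noncomputable def _root_.Cfsg.Agent.LsF.f68709f_3 : {f // @Cfsg.Agent.ChevalleyStructure.RootVec.rt = f} := ⟨_, by first | (delta Cfsg.Agent.ChevalleyStructure.RootVec.rt; rewrite [Cfsg.Agent.LsF.f68709f_0.2, Cfsg.Agent.LsF.f68709f_2.2, Cfsg.Agent.LsF.nsub_pat, Cfsg.Agent.LsF.isub_pat, Cfsg.Agent.LsF.icast_pat, Cfsg.Agent.LsF.decLt_eq, Cfsg.Agent.LsF.dAnd_eq, Cfsg.Agent.LsF.ite_eq]; exact rfl) | exact rfl⟩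
private noncomputable def _root_.Cfsg.Agent.LsF.f68709f_4 : {f // @Cfsg.Agent.R2.T1.F56 = f} := ⟨_, by first | (delta Cfsg.Agent.R2.T1.F56; rewrite [Cfsg.Agent.LsF.map_eq, Cfsg.Agent.LsF.filter_eq, Cfsg.Agent.LsF.getD_eq]; exact rfl) | exact rfl⟩
private noncomputable def _root_.Cfsg.Agent.LsF.f68709f_5 : {f // @Cfsg.Lie.ChevalleyDatum.simple = f} := ⟨_, by first | (delta Cfsg.Lie.ChevalleyDatum.simple; rewrite [Cfsg.Agent.LsF.agetD_eq]; exact rfl) | exact rfl⟩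
private noncomputable def _root_.Cfsg.Agent.LsF.f68709f_6 : {f // @Cfsg.Agent.R2.T1.chkUp = f} := ⟨_, by first | (delta Cfsg.Agent.R2.T1.chkUp; rewrite [Cfsg.Agent.LsF.f68709f_3.2, Cfsg.Agent.LsF.f68709f_4.2, Cfsg.Agent.LsF.f68709f_5.2, Cfsg.Agent.LsF.nsub_pat, Cfsg.Agent.LsF.instNBEq_pat, Cfsg.Agent.LsF.instIBEq_pat, Cfsg.Agent.LsF.and_eq, Cfsg.Agent.LsF.or_eq, Cfsg.Agent.LsF.not_eq, Cfsg.Agent.LsF.cond_eq, Cfsg.Agent.LsF.all_eq, Cfsg.Agent.LsF.any_eq, Cfsg.Agent.LsF.range_eq, Cfsg.Agent.LsF.instBEq_eq, Cfsg.Agent.LsF.instIDecEq_eq, Cfsg.Agent.LsF.instPBEq_eq, Cfsg.Agent.LsF.decide_eq]; exact rfl) | exact rfl⟩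
theorem chkUp_true : chkUp = true := by ((try (rewrite [Cfsg.Agent.LsF.f68709f_6.2])); decide +kernel)

/-- the simple roots raise the index -/
def chkMono : Bool := (List.range 7).all fun i => (T56.getD (chevE7.simple i) []).all fun x => Nat.blt x.1 x.2.1

theorem chkMono_true : chkMono = true := by decide +kernel

theorem simple_lt7 : ∀ i < 7, chevE7.simple i < 126 := by decide +kernel

theorem mono {i : ℕ} (hi : i < 7) {s u : ℕ} {c : ℤ} (h : mv (chevE7.simple i) s = some (u, c)) : s < u := by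
  have h1 := List.all_eq_true.1 chkMono_true i (List.mem_range.2 hi)
  rw [List.all_eq_true] at h1
  unfold mv at h
  have h2 := List.mem_of_mem_head? h
  unfold F56 at h2
  rw [List.mem_map] at h2
  obtain ⟨x, hx, hx'⟩ := h2
  rw [List.mem_filter] at hx
  have h3 := h1 x hx.1
  rw [Nat.blt_eq] at h3
  have h4 : x.1 = s := Nat.eq_of_beq_eq_true hx.2
  rw [← h4]
  have h5 : x.2.1 = u := by rw [hx']
  rwa [h5] at h3

theorem up {b : D1} (hb : nn b ≠ 238) : ∃ i < 7, ∃ (a : D1) (c : ℤ),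
    mv (chevE7.simple i) (nn b) = some (nn a, c) ∧ c * c = 1 := by
  have h := List.all_eq_true.1 chkUp_true b.1 (List.mem_range.2 b.1.2)
  have h6 : decide (rt chevE8 b.1 7 = 1) = true := decide_eq_true b.2
  rw [h6, cond_true, Bool.and_eq_true, Bool.or_eq_true] at h
  rcases h.1 with h1 | h1
  · exact absurd (Nat.eq_of_beq_eq_true h1) hb
  · rw [List.any_eq_true] at h1
    obtain ⟨i, hi, h2⟩ := h1
    have hi' := List.mem_range.1 hi
    refine ⟨i, hi', ?_⟩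
    rcases F56_cases (simple_lt7 i hi') b.1.2 b.2 with ⟨h3, -⟩ | ⟨u, c, h3, h4, h5, h7, h8, -⟩
    · rw [h3] at h2; simp at h2
    · exact ⟨⟨⟨u, h7⟩, h8⟩, c, h4, h5⟩

theorem down {b : D1} (hb : nn b ≠ 120) : ∃ i < 7, ∃ (a : D1) (c : ℤ),
    mv (chevE7.simple i) (nn a) = some (nn b, c) ∧ c * c = 1 := by
  have h := List.all_eq_true.1 chkUp_true b.1 (List.mem_range.2 b.1.2)
  have h6 : decide (rt chevE8 b.1 7 = 1) = true := decide_eq_true b.2
  rw [h6, cond_true, Bool.and_eq_true, Bool.or_eq_true, Bool.or_eq_true] at h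
  rcases h.2 with h1 | h1
  · exact absurd (Nat.eq_of_beq_eq_true h1) hb
  · rw [List.any_eq_true] at h1
    obtain ⟨i, hi, h2⟩ := h1
    have hi' := List.mem_range.1 hi
    have h9 := simple_lt7 i hi'
    refine ⟨i, hi', ?_⟩
    rcases mv_spec (r := 125 - chevE7.simple i) (by omega) b with h3 | ⟨a, c, h3, h4, h5, h7⟩
    · rcases F56_cases (r := 125 - chevE7.simple i) (by omega) b.1.2 b.2 with ⟨h8, -⟩ | ⟨u, c, -, h8, -⟩
      · rw [h8] at h2; simp at h2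
      · rw [h3] at h8; exact absurd h8 (by simp)
    · rw [sub_sub_r h9] at h7
      exact ⟨a, c, h7, h4⟩

theorem cast_ne {c : ℤ} (h : c * c = 1) : ((c : ℤ) : F) ≠ 0 := by
  intro h0
  have h1 : ((c : ℤ) : F) * ((c : ℤ) : F) = 1 := by rw [← Int.cast_mul, h, Int.cast_one]
  rw [h0, zero_mul] at h1
  exact zero_ne_one h1

/-- the basis vector -/
def bs (F : Type u) [Field F] (a : D1) : D1 → F := Pi.single a 1

section irr

variable {W : Submodule F (D1 → F)} (hW : ∀ g : Gh F, ∀ w ∈ W, V F g w ∈ W)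

include hW

theorem NM_stable {r : ℕ} (hr : r < 126) {w : D1 → F} (hw : w ∈ W) : (NM F r).mulVec w ∈ W := by
  have h1 := hW (xs F r 1) w hw
  rw [V_xs hr, one_smul] at h1
  have h2 := sub_mem h1 hw
  rwa [add_sub_cancel_left] at h2

/-- the highest weight vector -/
def topv : D1 := ⟨⟨238, by decide +kernel⟩, by decide +kernel⟩

theorem top_mem : ∀ (k : ℕ) (w : D1 → F), w ∈ W → w ≠ 0 →
    (∀ a : D1, w a ≠ 0 → 240 ≤ nn a + k) → bs F topv ∈ W := by
  intro k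
  induction k with
  | zero =>
    intro w _ hw0 h
    exfalso
    apply hw0
    funext a
    by_contra hne
    have := h a hne
    have h2 := nn_lt a
    omega
  | succ k ih =>
    intro w hw hw0 h
    by_cases hall : ∀ a : D1, w a ≠ 0 → nn a = 238
    · obtain ⟨a, ha⟩ : ∃ a, w a ≠ 0 := by
        by_contra hcon
        push Not at hcon
        exact hw0 (funext hcon)
      have h1 : w = w topv • bs F topv := by
        funext b
        by_cases hb : b = topv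
        · rw [hb, Pi.smul_apply, bs, Pi.single_eq_same, smul_eq_mul, mul_one]
        · rw [Pi.smul_apply, bs, Pi.single_eq_of_ne hb, smul_zero]
          by_contra hne
          exact hb (Subtype.ext (Fin.ext (hall b hne)))
      have h2 : a = topv := Subtype.ext (Fin.ext (hall a ha))
      rw [h2] at ha
      have h3 := W.smul_mem (w topv)⁻¹ hw
      rw [h1, smul_smul] at h3
      have h4 : (w topv)⁻¹ * w topv = 1 := inv_mul_cancel₀ ha
      rw [Pi.smul_apply, bs, Pi.single_eq_same, smul_eq_mul, mul_one] at h3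
      rwa [h4, one_smul] at h3
    · push Not at hall
      obtain ⟨b, hb, hb'⟩ := hall
      obtain ⟨i, hi, a, c, hm, hc⟩ := up hb'
      have hlt := simple_lt7 i hi
      refine ih ((NM F (chevE7.simple i)).mulVec w) (NM_stable hW hlt hw) ?_ ?_
      · intro h0
        have h1 := congrFun h0 a
        rw [NM_mulVec hlt hm] at h1
        exact (mul_ne_zero (cast_ne hc) hb) h1
      · intro a' ha'
        obtain ⟨b', c', h1, h2⟩ := NM_mulVec_ne ha'
        have h3 := h b' h2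
        have h4 := mono hi h1
        omega

theorem all_mem (ht : bs F topv ∈ W) : ∀ (k : ℕ) (a : D1), 238 ≤ nn a + k → bs F a ∈ W := by
  intro k
  induction k with
  | zero =>
    intro a ha
    have h1 : nn a = 238 := by
      have h3 : nn a ≠ 239 := by
        intro h
        have h4 := rt_nn a
        rw [h] at h4
        exact absurd h4 (by decide +kernel)
      have h2 := nn_lt a
      omega
    have h2 : a = topv := Subtype.ext (Fin.ext h1)
    rw [h2]; exact ht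
  | succ k ih =>
    intro a ha
    by_cases h238 : nn a = 238
    · have h2 : a = topv := Subtype.ext (Fin.ext h238)
      rw [h2]; exact ht
    obtain ⟨i, hi, b, c, hm, hc⟩ := up h238
    have hlt := simple_lt7 i hi
    have h1 := mono hi hm
    have h2 := ih b (by omega)
    rcases mv_spec hlt a with h3 | ⟨b', c', h3, h4, h5, h6⟩
    · rw [h3] at hm; exact absurd hm (by simp)
    rw [hm, Option.some.injEq, Prod.mk.injEq] at h3
    have e : b = b' := Subtype.ext (Fin.ext h3.1)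
    rw [← e] at h6
    have h7 := NM_stable hW (r := 125 - chevE7.simple i) (by omega) h2
    have h8 : (NM F (125 - chevE7.simple i)).mulVec (bs F b) = ((c' : ℤ) : F) • bs F a := by
      funext x
      rw [bs, Matrix.mulVec_single_one, Matrix.col_apply]
      show ((nz (125 - chevE7.simple i) x b : ℤ) : F) = _
      rw [nz_some h6, Pi.smul_apply, bs]
      by_cases hx : x = a
      · rw [if_pos hx, hx, Pi.single_eq_same, smul_eq_mul, mul_one]
      · rw [if_neg hx, Pi.single_eq_of_ne hx, smul_zero, Int.cast_zero]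
    rw [h8] at h7
    have h9 := W.smul_mem (((c' : ℤ) : F)⁻¹) h7
    rwa [smul_smul, inv_mul_cancel₀ (cast_ne h4), one_smul] at h9

/-- **the module is irreducible** -/
theorem irred (h0 : W ≠ ⊥) : W = ⊤ := by
  obtain ⟨w, hw, hw0⟩ := Submodule.exists_mem_ne_zero_of_ne_bot h0
  have h1 := top_mem hW 240 w hw hw0 (fun a _ => by omega)
  have h2 : ∀ a : D1, bs F a ∈ W := fun a => all_mem hW h1 238 a (by omega)
  rw [eq_top_iff]
  intro v _
  have h3 : v = ∑ a, v a • bs F a := by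
    funext b
    rw [Finset.sum_apply, Finset.sum_eq_single b]
    · rw [Pi.smul_apply, bs, Pi.single_eq_same, smul_eq_mul, mul_one]
    · intro a _ ha
      rw [Pi.smul_apply, bs, Pi.single_eq_of_ne (Ne.symm ha), smul_zero]
    · intro h; exact absurd (Finset.mem_univ _) h
  rw [h3]
  exact Submodule.sum_mem _ fun a _ => W.smul_mem _ (h2 a)

end irr

end

end Cfsg.Agent.R2.T1
end

-- part: R2/T1/Inf/Emb
section
/-!
# Functoriality, the torus and the centre of the simply connected group of type `E₇` (helper11)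

* `emb f : Gh F →* Gh K`, `rho_emb`, `V_emb`;
* `Phi K : (Fin 7 → Kˣ) →* Gh K`, `rho_Phi`;
* `faithful`, `mem_center_iff`, `ad_eq_one_iff`, `exists_neg`, `neg_unique`.
-/

set_option autoImplicit false
set_option maxRecDepth 100000

namespace Cfsg.Agent.R2.T1

open Cfsg Cfsg.Lie Module
open Cfsg.Agent.ChevalleyStructure.StTheta Cfsg.Agent.ChevalleyStructure.StEmbed Cfsg.Agent.ChevalleyStructure.StBasic
open Cfsg.Agent.ChevalleyStructure Cfsg.Agent.ChevalleyStructure.Elts Cfsg.Agent.ChevalleyStructure.RootVec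
  Cfsg.Agent.ChevalleyStructure.RootVecTab Cfsg.Agent.ChevalleyStructure.CoxeterGeomTypes
open Cfsg.Agent.KFacts.En.Roots Cfsg.Agent.H120.StSeven
open Cfsg.Agent.H943.E7V.Block Cfsg.Agent.H129.StCover
open Cfsg.Agent.GpExc.Field (glMap coe_glMap glMap_xG)

universe u v w

section
variable {F : Type u} {K : Type v} [Field F] [Field K] (f : F →+* K)

/-- the homomorphism given by a homomorphism of fields -/
noncomputable def emb : Gh F →* Gh K := stMap chevE7 f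

theorem emb_xs (r : ℕ) (t : F) : emb f (xs F r t) = xs K r (f t) := stMap_stGen _ _ _ _

theorem rho_emb (x : Gh F) : rho K (emb f x) = (rho F x).map f := by
  have h : (glMap chevE8 f).comp ((chevE8.group F).subtype.comp (Cfsg.Agent.H120.StSeven.alpha F)) =
      ((chevE8.group K).subtype.comp (Cfsg.Agent.H120.StSeven.alpha K)).comp (stMap chevE7 f) := by
    apply hom_ext
    intro r hr t
    show glMap chevE8 f ((theta ty_E8.ty.inList F (hom emb78 F (chevE7.stGen F r t)) : ↥(chevE8.group F)) :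
      GL chevE8.Idx F) = ((theta ty_E8.ty.inList K (hom emb78 K (stMap chevE7 f (chevE7.stGen F r t))) :
      ↥(chevE8.group K)) : GL chevE8.Idx K)
    rw [stMap_stGen, hom_stGen emb78 hr, hom_stGen emb78 hr, coe_theta, coe_theta, thetaGL_stGen, thetaGL_stGen, glMap_xG]
  have h1 := DFunLike.congr_fun h x
  have h2 : (((Cfsg.Agent.H120.StSeven.alpha K (stMap chevE7 f x) : ↥(chevE8.group K)) : GL chevE8.Idx K) : Matrix chevE8.Idx chevE8.Idx K) =
      (((Cfsg.Agent.H120.StSeven.alpha F x : ↥(chevE8.group F)) : GL chevE8.Idx F) : Matrix chevE8.Idx chevE8.Idx F).map f := by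
    rw [← coe_glMap]
    exact congrArg Units.val h1.symm
  unfold emb
  rw [rho_apply, h2, blk_map]
  rfl

theorem emb_comp {L : Type w} [Field L] (g : K →+* L) (x : Gh F) : emb g (emb f x) = emb (g.comp f) x :=
  stMap_comp f g x

theorem emb_id (x : Gh F) : emb (RingHom.id F) x = x := by
  have h : emb (RingHom.id F) = MonoidHom.id (Gh F) := by
    apply hom_ext
    intro r _ t
    show emb (RingHom.id F) (xs F r t) = _
    rw [emb_xs]
    rfl
  rw [h]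
  rfl

theorem ad_emb (x : Gh F) : ad K (emb f x) =
    Cfsg.Agent.GpExc.Field.emb Cfsg.Agent.H944.E7Two.e7T.inList f (ad F x) := theta_stMap f _ x

end

/-! ### generation -/

section
variable {F : Type u} [Field F]

theorem mem_of_gens {S : Subgroup (Gh F)} (h : ∀ r < 126, ∀ t : F, xs F r t ∈ S) (g : Gh F) : g ∈ S :=
  St.Rels.mem_of_gens S (fun r hr t => h r hr t) g

end

/-! ### the torus -/

section Torus

variable {K : Type u} [Field K]

theorem blk_diagonal (d : chevE8.Idx → K) : blk (Matrix.diagonal d) = Matrix.diagonal fun s : D1 => d (pt s) := by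
  ext a b
  show Matrix.diagonal d (pt a) (pt b) = Matrix.diagonal (fun s : D1 => d (pt s)) a b
  rw [Matrix.diagonal_apply, Matrix.diagonal_apply]
  simp only [pt_inj.eq_iff]

theorem rho_sth {i : ℕ} (hi : i < 7) (x : Kˣ) : rho K (sth chevE7 (chevE7.simple i) (x : K)) =
    Matrix.diagonal fun s : D1 => ((x ^ chevE8.cartan i (nn s) : Kˣ) : K) := by
  have h0 : chevE7.simple i < chevE7.nroots := Cfsg.Agent.ChevalleyStructure.RootVec.simple_lt checked_E7 hi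
  have h1 : (((Cfsg.Agent.H120.StSeven.alpha K (sth chevE7 (chevE7.simple i) (x : K)) : ↥(chevE8.group K)) : GL chevE8.Idx K) :
      Matrix chevE8.Idx chevE8.Idx K) = chevE8.hMat K (chevE8.simple i) (x : K) := by
    show (((theta ty_E8.ty.inList K (hom emb78 K (sth chevE7 (chevE7.simple i) (x : K))) : ↥(chevE8.group K)) :
      GL chevE8.Idx K) : Matrix chevE8.Idx chevE8.Idx K) = _
    rw [hom_sth emb78 h0, simple78 i hi,
      theta_sth (theta ty_E8.ty.inList K) (fun r t _ => StTheta.theta_stGen ty_E8.ty.inList r t)]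
  rw [rho_apply, h1, Cfsg.Agent.S1033.result (F := K) chevE8 ty_E8.ty.inList i (show i < 8 by omega) (x : K) x.ne_zero,
    blk_diagonal]
  congr 1
  funext s
  rw [Sum.elim_inr, Units.val_zpow_eq_zpow_val]

/-- the value of the weight `s` at an element of the torus -/
def wt (s : D1) (a : Fin chevE7.rank → Kˣ) : Kˣ := ∏ i : Fin chevE7.rank, a i ^ chevE8.cartan i (nn s)

/-- the diagonal matrices -/
def dgl (K : Type u) [Field K] : (Fin chevE7.rank → Kˣ) →* Matrix D1 D1 K where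
  toFun a := Matrix.diagonal fun s : D1 => ((wt s a : Kˣ) : K)
  map_one' := by
    rw [← Matrix.diagonal_one]
    congr 1
    funext s
    simp [wt]
  map_mul' a b := by
    rw [Matrix.diagonal_mul_diagonal]
    congr 1
    funext s
    unfold wt
    rw [← Units.val_mul, ← Finset.prod_mul_distrib]
    congr 1
    refine Finset.prod_congr rfl fun i _ => ?_
    rw [Pi.mul_apply, mul_zpow]

theorem dgl_single (j : Fin chevE7.rank) (x : Kˣ) :
    dgl K (Pi.mulSingle j x) = Matrix.diagonal fun s : D1 => ((x ^ chevE8.cartan j (nn s) : Kˣ) : K) := by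
  show Matrix.diagonal _ = _
  congr 1
  funext s
  unfold wt
  rw [Finset.prod_eq_single j]
  · rw [Pi.mulSingle_eq_same]
  · intro i _ hij
    rw [Pi.mulSingle_eq_of_ne hij, one_zpow]
  · intro h
    exact absurd (Finset.mem_univ j) h

variable (K) in
/-- the torus -/
noncomputable def Phi : (Fin chevE7.rank → Kˣ) →* Gh K := (Cfsg.Agent.H129.PhiE.isPhi_E7 K).choose

theorem isPhi : IsPhi (Phi K) := (Cfsg.Agent.H129.PhiE.isPhi_E7 K).choose_spec

theorem rho_Phi (a : Fin chevE7.rank → Kˣ) : rho K (Phi K a) = Matrix.diagonal fun s : D1 => ((wt s a : Kˣ) : K) := by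
  have h : (rho K).comp (Phi K) = dgl K := by
    apply MonoidHom.pi_ext
    intro j x
    rw [MonoidHom.comp_apply, isPhi.single, rho_sth j.2, dgl_single]
  exact DFunLike.congr_fun h a

/-- seven weights forming a basis of the weight lattice -/
def bw : List ℕ := [120, 122, 125, 129, 134, 151, 168]

/-- the inverse matrix -/
def bi : List (List ℤ) := [[0, 0, 0, 0, -1, -1, 0], [0, 0, 0, 0, -1, -1, -1], [-1, -1, -1, -1, 0, 1, 1], [-1, -1, -1, -1, 0, 0, 0],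
  [-1, -1, -1, 0, 0, 0, 0], [-1, -1, 0, 0, 0, 0, 0], [-1, 0, 0, 0, 0, 0, 0]]

theorem bw_mem : ∀ k < 7, bw.getD k 0 < 240 ∧ rt chevE8 (bw.getD k 0) 7 = 1 := by decide +kernel

/-- the basis weights -/
def bd (k : Fin 7) : D1 := ⟨⟨bw.getD k 0, (bw_mem k k.2).1⟩, (bw_mem k k.2).2⟩

private noncomputable def _root_.Cfsg.Agent.LsF.f68709f_7 : {f // @Cfsg.Lie.ChevalleyDatum.cartan = f} := ⟨_, by first | (delta Cfsg.Lie.ChevalleyDatum.cartan; rewrite [Cfsg.Agent.LsF.agetD_eq]; exact rfl) | exact rfl⟩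
theorem bi_bw : ∀ i < 7, ∀ j < 7, ((List.range 7).map fun k => (bi.getD i []).getD k 0 * chevE8.cartan j (bw.getD k 0)).sum =
    if i = j then 1 else 0 := by (refine of_decide_eq_true ?_; (try (rewrite [Cfsg.Agent.LsF.f68709f_7.2, Cfsg.Agent.LsF.imul_pat, Cfsg.Agent.LsF.instDecEq_eq, Cfsg.Agent.LsF.map_eq, Cfsg.Agent.LsF.range_eq, Cfsg.Agent.LsF.sum_eq, Cfsg.Agent.LsF.getD_eq, Cfsg.Agent.LsF.instIAdd_eq, Cfsg.Agent.LsF.instIDecEq_eq, Cfsg.Agent.LsF.dBallLT_eq, Cfsg.Agent.LsF.ite_eq, Cfsg.Agent.LsF.decide_eq])); decide +kernel)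

/-- an element of the torus is determined by the values of the weights -/
theorem torus_eq (a : Fin chevE7.rank → Kˣ) (i : Fin 7) : a i = ∏ k : Fin 7, wt (bd k) a ^ (bi.getD i []).getD k 0 := by
  have h1 : ∀ k : Fin 7, wt (bd k) a ^ (bi.getD i []).getD k 0 =
      ∏ j : Fin 7, a j ^ ((bi.getD i []).getD k 0 * chevE8.cartan j (bw.getD k 0)) := by
    intro k
    unfold wt
    show (∏ j : Fin 7, a j ^ chevE8.cartan j (nn (bd k))) ^ (bi.getD i []).getD k 0 = _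
    rw [← Finset.prod_zpow]
    refine Finset.prod_congr rfl fun j _ => ?_
    rw [← zpow_mul, mul_comm]
    rfl
  rw [Finset.prod_congr rfl fun k _ => h1 k, Finset.prod_comm]
  have h2 : ∀ j : Fin 7, ∏ k : Fin 7, a j ^ ((bi.getD i []).getD k 0 * chevE8.cartan j (bw.getD k 0)) =
      a j ^ (if (i : ℕ) = j then (1 : ℤ) else 0) := by
    intro j
    rw [← bi_bw i i.2 j j.2, Cfsg.Agent.H129.StCover.prod_zpow_sum]
    congr 1
  rw [Finset.prod_congr rfl fun j _ => h2 j, Finset.prod_eq_single (i : Fin 7)]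
  · rw [if_pos rfl, zpow_one]
  · intro j _ hj
    rw [if_neg (fun h => hj (Fin.ext h.symm)), zpow_zero]
  · intro h; exact absurd (Finset.mem_univ _) h

end Torus

end Cfsg.Agent.R2.T1
end

-- part: R2/T1/Inf/Cen
section
/-!
# The centre of the simply connected group of type `E₇` (helper11)

* `faithful : V F g = 1 → g = 1`;
* `mem_center_iff`, `ad_eq_one_iff : ad F z = 1 ↔ V F z = 1 ∨ V F z = -1`;
* `exists_neg : (2 : F) ≠ 0 → ∃ z, V F z = -1 ∧ ad F z = 1`, `ad_surjective`.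
-/

set_option autoImplicit false
set_option maxRecDepth 100000

namespace Cfsg.Agent.R2.T1

open Cfsg Cfsg.Lie Module
open Cfsg.Agent.ChevalleyStructure.StTheta Cfsg.Agent.ChevalleyStructure.StEmbed Cfsg.Agent.ChevalleyStructure.StBasic
open Cfsg.Agent.ChevalleyStructure Cfsg.Agent.ChevalleyStructure.Elts Cfsg.Agent.ChevalleyStructure.RootVec
  Cfsg.Agent.ChevalleyStructure.RootVecTab Cfsg.Agent.ChevalleyStructure.CoxeterGeomTypes
open Cfsg.Agent.KFacts.En.Roots Cfsg.Agent.H120.StSeven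
open Cfsg.Agent.H943.E7V.Block Cfsg.Agent.H129.StCover

universe u

theorem mem_chainCoeff {D : ChevalleyDatum} (h : Checked D) {r s u : ℕ} {x : ℕ × ℤ} (hx : x ∈ D.chainCoeff r s u)
    (i : ℕ) : rt D u i = rt D s i + (x.1 : ℤ) * rt D r i := by
  unfold ChevalleyDatum.chainCoeff at hx
  rw [List.mem_flatMap] at hx
  obtain ⟨e, he, hx⟩ := hx
  rw [List.mem_filter, decide_eq_true_iff] at he
  rw [List.mem_map] at hx
  obtain ⟨q, hq, hqx⟩ := hx
  rw [List.mem_filter, decide_eq_true_iff] at hq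
  obtain ⟨hq1, hq2⟩ := hq
  have h1 : e.2.toList[q.2]? = some q.1 := List.mem_zipIdx_iff_getElem?.1 hq1
  obtain ⟨-, h2⟩ := row_entry h (e := e) he.1 h1
  rw [← hq2, ← he.2, ← hqx]
  exact h2 i

theorem mv_rt {r : ℕ} (hr : r < 126) {a b : D1} {c : ℤ} (h : mv r (nn b) = some (nn a, c)) (i : ℕ) :
    rt chevE8 (nn a) i = rt chevE8 (nn b) i + rt chevE8 (ι78 r) i := by
  have h1 : (1, c) ∈ chevE8.chainCoeff (ι78 r) (nn b) (nn a) := by
    rw [chainCoeff_eq hr (rt_nn b)]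
    rcases F56_cases hr b.1.2 b.2 with ⟨-, h2⟩ | ⟨u, c', h2, h3, -⟩
    · rw [h2] at h; exact absurd h (by simp)
    · rw [h3, Option.some.injEq, Prod.mk.injEq] at h
      rw [h2, h.1, h.2]
      simp
  have h2 := mem_chainCoeff checked_E8 h1 i
  rw [h2]; simp

private noncomputable def _root_.Cfsg.Agent.LsF.f68709f_8 : {f // @Cfsg.Agent.ChevalleyStructure.StEmbed.ι78 = f} := ⟨_, by first | (delta Cfsg.Agent.ChevalleyStructure.StEmbed.ι78; rewrite [Cfsg.Agent.LsF.getD_eq]; exact rfl) | exact rfl⟩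
theorem rt_iota : ∀ r < 126, ∀ j < 7, rt chevE8 (ι78 r) j = rt chevE7 r j := by (refine of_decide_eq_true ?_; (try (rewrite [Cfsg.Agent.LsF.f68709f_3.2, Cfsg.Agent.LsF.f68709f_8.2, Cfsg.Agent.LsF.instIDecEq_eq, Cfsg.Agent.LsF.dBallLT_eq, Cfsg.Agent.LsF.decide_eq])); decide +kernel)

theorem cart_simple : ∀ i < 7, ∀ j < 7, chevE8.cartan i (chevE8.simple j) = chevE7.cartan i (chevE7.simple j) := by
  (refine of_decide_eq_true ?_; (try (rewrite [Cfsg.Agent.LsF.f68709f_7.2, Cfsg.Agent.LsF.f68709f_5.2, Cfsg.Agent.LsF.instIDecEq_eq, Cfsg.Agent.LsF.dBallLT_eq, Cfsg.Agent.LsF.decide_eq])); decide +kernel)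

theorem cart_iota {r : ℕ} (hr : r < 126) {i : ℕ} (hi : i < 7) : chevE8.cartan i (ι78 r) = chevE7.cartan i r := by
  rw [cartan_eq_sum checked_E8 (show i < 8 by omega) (iota_lt hr), cartan_eq_sum checked_E7 (show i < 7 from hi) hr]
  show ∑ j ∈ Finset.range (7 + 1), _ = ∑ j ∈ Finset.range 7, _
  rw [Finset.sum_range_succ, grade_iota r hr, zero_mul, add_zero]
  refine Finset.sum_congr rfl fun j hj => ?_
  have hj' := Finset.mem_range.1 hj
  rw [rt_iota r hr j hj', cart_simple i hi j hj']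

theorem cart_add {r : ℕ} (hr : r < 126) {a b : D1} {c : ℤ} (h : mv r (nn b) = some (nn a, c)) {i : ℕ} (hi : i < 7) :
    chevE8.cartan i (nn a) = chevE8.cartan i (nn b) + chevE7.cartan i r := by
  rw [← cart_iota hr hi, cartan_eq_sum checked_E8 (show i < 8 by omega) (iota_lt hr),
    cartan_eq_sum checked_E8 (show i < 8 by omega) a.1.2, cartan_eq_sum checked_E8 (show i < 8 by omega) b.1.2,
    ← Finset.sum_add_distrib]
  refine Finset.sum_congr rfl fun j _ => ?_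
  have h1 := mv_rt hr h j
  change rt chevE8 (nn a) j * _ = rt chevE8 (nn b) j * _ + _
  rw [h1]
  ring

theorem cart_bot : ∀ i < 7, chevE8.cartan i 120 = - chevE8.cartan i 238 := by (refine of_decide_eq_true ?_; (try (rewrite [Cfsg.Agent.LsF.f68709f_7.2, Cfsg.Agent.LsF.ineg_pat, Cfsg.Agent.LsF.instIDecEq_eq, Cfsg.Agent.LsF.dBallLT_eq, Cfsg.Agent.LsF.decide_eq])); decide +kernel)

section
variable {K : Type u} [Field K]

/-- the value of the root `r` at an element of the torus -/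
def rtv (r : ℕ) (a : Fin chevE7.rank → Kˣ) : Kˣ := ∏ i : Fin chevE7.rank, a i ^ chevE7.cartan i r

theorem wt_add {r : ℕ} (hr : r < 126) {a b : D1} {c : ℤ} (h : mv r (nn b) = some (nn a, c)) (x : Fin chevE7.rank → Kˣ) :
    wt a x = wt b x * rtv r x := by
  unfold wt rtv
  rw [← Finset.prod_mul_distrib]
  refine Finset.prod_congr rfl fun i _ => ?_
  rw [cart_add hr h i.2, zpow_add]

/-- all the weights are equal if the roots are trivial -/
theorem wt_eq {x : Fin chevE7.rank → Kˣ} (hx : ∀ i < 7, rtv (chevE7.simple i) x = 1) :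
    ∀ (k : ℕ) (a : D1), 238 ≤ nn a + k → wt a x = wt topv x := by
  intro k
  induction k with
  | zero =>
    intro a ha
    have h1 : nn a = 238 := by
      have h3 : nn a ≠ 239 := by
        intro h
        have h4 := rt_nn a
        rw [h] at h4
        exact absurd h4 (by decide +kernel)
      have h2 := nn_lt a
      omega
    have h2 : a = topv := nn_inj h1
    rw [h2]
  | succ k ih =>
    intro a ha
    by_cases h238 : nn a = 238
    · have h2 : a = topv := nn_inj h238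
      rw [h2]
    obtain ⟨i, hi, b, c, hm, hc⟩ := up h238
    have hlt := simple_lt7 i hi
    have h1 := mono hi hm
    have h2 := ih b (by omega)
    rw [wt_add hlt hm, hx i hi, mul_one] at h2
    exact h2

/-- the lowest weight -/
def botv : D1 := ⟨⟨120, by decide +kernel⟩, by decide +kernel⟩

theorem wt_bot (x : Fin chevE7.rank → Kˣ) : wt botv x = (wt topv x)⁻¹ := by
  unfold wt
  rw [← Finset.prod_inv_distrib]
  refine Finset.prod_congr rfl fun i _ => ?_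
  rw [← zpow_neg]
  congr 1
  exact cart_bot i i.2

theorem rho_Phi_center' {x : Fin chevE7.rank → Kˣ} (hx : ∀ i < 7, rtv (chevE7.simple i) x = 1) :
    wt topv x * wt topv x = 1 ∧ rho K (Phi K x) = Matrix.diagonal fun _ => ((wt topv x : Kˣ) : K) := by
  refine ⟨?_, ?_⟩
  · have h1 := wt_eq hx 238 botv (by omega)
    rw [wt_bot] at h1
    nth_rewrite 1 [← h1]
    rw [inv_mul_cancel]
  · rw [rho_Phi]
    congr 1
    funext s
    rw [wt_eq hx 238 s (by omega)]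

theorem rho_Phi_center {x : Fin chevE7.rank → Kˣ} (hx : ∀ s < chevE7.nroots, rtv s x = 1) :
    ∃ c : Kˣ, c * c = 1 ∧ rho K (Phi K x) = Matrix.diagonal fun _ => (c : K) :=
  ⟨wt topv x, rho_Phi_center' fun i hi => hx _ (simple_lt7 i hi)⟩

theorem rho_center {z : Gh K} (hz : z ∈ Subgroup.center (Gh K)) :
    ∃ c : Kˣ, c * c = 1 ∧ rho K z = Matrix.diagonal fun _ => (c : K) := by
  obtain ⟨x, rfl⟩ := isPhi.center_le hz
  exact rho_Phi_center (isPhi.mem_iff x |>.1 hz)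

theorem ker_ad : (ad K).ker = Subgroup.center (Gh K) := ker_theta _

theorem ad_surjective : Function.Surjective (ad K) := theta_surjective _

theorem simpleE7 : IsSimpleGroup ↥(chevE7.group K) := (Cfsg.Agent.S1054.result chevE7 (by simp)).1

/-- root elements are not scalar -/
theorem rho_xs_ne {c : K} : rho K (xs K (chevE7.simple 0) 1) ≠ Matrix.diagonal fun _ => c := by
  intro h
  obtain ⟨b, hb⟩ : ∃ b : D1, mv (chevE7.simple 0) (nn b) ≠ none :=
    ⟨⟨⟨140, by decide +kernel⟩, by decide +kernel⟩, by decide +kernel⟩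
  have hlt := simple_lt7 0 (by omega)
  rcases mv_spec hlt b with h1 | ⟨a, c', h1, h2, h3, h4⟩
  · exact hb h1
  have h5 := rho_xs (F := K) hlt 1 a b
  rw [h, nz_some h1, if_pos rfl, one_mul] at h5
  have hab : a ≠ b := by
    rintro rfl
    rw [h3] at h1
    exact absurd h1 (by simp)
  rw [Matrix.diagonal_apply_ne _ hab, if_neg hab, zero_add] at h5
  exact cast_ne h2 h5.symm

/-- **the module is faithful** -/
theorem faithful' {g : Gh K} (hg : rho K g = 1) : g = 1 := by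
  -- the kernel is central
  have hcen : g ∈ Subgroup.center (Gh K) := by
    rw [← ker_ad]
    let R : Subgroup (Gh K) := (rho K).ker
    have hn : (R.map (ad K)).Normal := Subgroup.Normal.map inferInstance (ad K) ad_surjective
    have hs : IsSimpleGroup ↥(chevE7.group K) := simpleE7
    rcases hn.eq_bot_or_eq_top with h | h
    · have h1 : ad K g ∈ R.map (ad K) := ⟨g, hg, rfl⟩
      rw [h] at h1
      exact h1
    · exfalso
      have h1 : ad K (xs K (chevE7.simple 0) 1) ∈ R.map (ad K) := by rw [h]; exact Subgroup.mem_top _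
      obtain ⟨k, hk, hk'⟩ := h1
      have h2 : k⁻¹ * xs K (chevE7.simple 0) 1 ∈ Subgroup.center (Gh K) := by
        rw [← ker_ad, MonoidHom.mem_ker, map_mul, map_inv, hk', inv_mul_cancel]
      obtain ⟨c, -, hc⟩ := rho_center h2
      have h3 : rho K (xs K (chevE7.simple 0) 1) = rho K k * rho K (k⁻¹ * xs K (chevE7.simple 0) 1) := by
        rw [← map_mul, mul_inv_cancel_left]
      have h4 : rho K k = 1 := hk
      rw [h4, one_mul, hc] at h3
      exact rho_xs_ne h3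
  obtain ⟨x, rfl⟩ := isPhi.center_le hcen
  have h1 : x = 1 := by
    rw [rho_Phi] at hg
    have h2 : ∀ s : D1, wt s x = 1 := by
      intro s
      have h3 := congrFun (congrFun hg s) s
      rw [Matrix.diagonal_apply_eq, Matrix.one_apply_eq] at h3
      exact Units.ext h3
    funext i
    have h3 := torus_eq x i
    rw [h3]
    simp only [h2, one_zpow, Finset.prod_const_one]
    rfl
  rw [h1, map_one]

theorem rho_injective : Function.Injective (rho K) := by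
  intro a b h
  have h1 : rho K (a * b⁻¹) = 1 := by
    rw [map_mul, h, ← map_mul, mul_inv_cancel, map_one]
  exact mul_inv_eq_one.1 (faithful' h1)

theorem V_eq_one_iff {g : Gh K} : V K g = 1 ↔ g = 1 := by
  constructor
  · intro h
    apply faithful'
    have h1 : Matrix.toLin' (rho K g) = Matrix.toLin' 1 := by
      rw [← V_eq, h, Matrix.toLin'_one]; rfl
    exact Matrix.toLin'.injective h1
  · rintro rfl
    exact map_one _

theorem faithful {g : Gh K} (h : V K g = 1) : g = 1 := V_eq_one_iff.1 h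

theorem V_injective : Function.Injective (V K) := by
  intro a b h
  have h1 : V K (a * b⁻¹) = 1 := by
    rw [map_mul, h, ← map_mul, mul_inv_cancel, map_one]
  exact mul_inv_eq_one.1 (faithful h1)

theorem V_mul (g h : Gh K) (v : D1 → K) : V K (g * h) v = V K g (V K h v) := by
  rw [map_mul, Module.End.mul_apply]

theorem V_one (v : D1 → K) : V K 1 v = v := by
  rw [map_one, Module.End.one_apply]

theorem V_inv (g : Gh K) (v : D1 → K) : V K g⁻¹ (V K g v) = v := by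
  rw [← V_mul, inv_mul_cancel, V_one]

theorem V_inv' (g : Gh K) (v : D1 → K) : V K g (V K g⁻¹ v) = v := by
  rw [← V_mul, mul_inv_cancel, V_one]

theorem neg_apply {z : Gh K} (h : V K z = -1) (v : D1 → K) : V K z v = -v := by rw [h]; rfl

theorem neg_of {z : Gh K} (h : ∀ v : D1 → K, V K z v = -v) : V K z = -1 := LinearMap.ext h

theorem V_diag {g : Gh K} {c : K} (h : rho K g = Matrix.diagonal fun _ => c) (v : D1 → K) : V K g v = c • v := by
  funext a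
  rw [V_apply, h, Matrix.mulVec_diagonal, Pi.smul_apply, smul_eq_mul]

theorem V_center {z : Gh K} (hz : z ∈ Subgroup.center (Gh K)) : V K z = 1 ∨ V K z = -1 := by
  obtain ⟨c, hc, h⟩ := rho_center hz
  have h1 : (c : K) * c = 1 := by rw [← Units.val_mul, hc, Units.val_one]
  have h2 : ((c : K) - 1) * (c + 1) = 0 := by linear_combination h1
  rcases mul_eq_zero.1 h2 with h3 | h3
  · left
    refine LinearMap.ext fun v => ?_
    rw [V_diag h, sub_eq_zero.1 h3, one_smul]; rfl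
  · right
    refine LinearMap.ext fun v => ?_
    rw [V_diag h, eq_neg_of_add_eq_zero_left h3, neg_smul, one_smul]; rfl

theorem mem_center_iff {z : Gh K} : z ∈ Subgroup.center (Gh K) ↔ V K z = 1 ∨ V K z = -1 := by
  refine ⟨V_center, ?_⟩
  rintro (h | h)
  · rw [faithful h]; exact one_mem _
  · rw [Subgroup.mem_center_iff]
    intro g
    apply V_injective
    refine LinearMap.ext fun v => ?_
    rw [V_mul, V_mul, neg_apply h, neg_apply h, map_neg]

theorem ad_eq_one_iff {z : Gh K} : ad K z = 1 ↔ V K z = 1 ∨ V K z = -1 := by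
  rw [← mem_center_iff, ← ker_ad, MonoidHom.mem_ker]

theorem ad_eq_iff {g h : Gh K} : ad K g = ad K h ↔ g = h ∨ V K g = - V K h := by
  rw [← mul_inv_eq_one, ← map_inv, ← map_mul, ad_eq_one_iff]
  constructor
  · rintro (h1 | h1)
    · exact Or.inl (mul_inv_eq_one.1 (faithful h1))
    · right
      refine LinearMap.ext fun v => ?_
      have h2 : V K g v = V K (g * h⁻¹) (V K h v) := by rw [← V_mul, inv_mul_cancel_right]
      rw [h2, neg_apply h1]; rfl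
  · rintro (rfl | h1)
    · left; rw [mul_inv_cancel, map_one]
    · right
      refine LinearMap.ext fun v => ?_
      rw [V_mul, h1, LinearMap.neg_apply, V_inv']; rfl

/-- the pattern of the centre -/
def zp : List ℤ := [0, 1, 0, 0, 1, 0, 1]

theorem zp_root : ∀ k < 7, 2 ∣ ((List.range 7).map fun i => zp.getD i 0 * chevE7.cartan i (chevE7.simple k)).sum := by
  (refine of_decide_eq_true ?_; (try (rewrite [Cfsg.Agent.LsF.f68709f_7.2, Cfsg.Agent.LsF.f68709f_5.2, Cfsg.Agent.LsF.imul_pat, Cfsg.Agent.LsF.map_eq, Cfsg.Agent.LsF.range_eq, Cfsg.Agent.LsF.sum_eq, Cfsg.Agent.LsF.getD_eq, Cfsg.Agent.LsF.instIAdd_eq, Cfsg.Agent.LsF.dBallLT_eq, Cfsg.Agent.LsF.idDvd_eq, Cfsg.Agent.LsF.decide_eq])); decide +kernel)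

theorem zp_top : ¬ 2 ∣ ((List.range 7).map fun i => zp.getD i 0 * chevE8.cartan i 238).sum := by decide +kernel

theorem neg_one_zpow_prod (e : ℕ → ℤ) : ∏ i : Fin 7, ((-1 : Kˣ) ^ zp.getD i 0) ^ e i =
    (-1) ^ ((List.range 7).map fun i => zp.getD i 0 * e i).sum := by
  simp only [← zpow_mul]
  rw [Cfsg.Agent.H129.StCover.prod_zpow_sum]
  congr 1

/-- the element acting as `-1` -/
theorem exists_neg : ∃ z : Gh K, V K z = -1 ∧ ad K z = 1 ∧ z * z = 1 := by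
  let x : Fin chevE7.rank → Kˣ := fun i => (-1 : Kˣ) ^ zp.getD i 0
  have hx : ∀ i < 7, rtv (chevE7.simple i) x = 1 := by
    intro k hk
    have h1 : rtv (chevE7.simple k) x = (-1) ^ ((List.range 7).map fun i => zp.getD i 0 *
        chevE7.cartan i (chevE7.simple k)).sum := neg_one_zpow_prod (K := K) fun i => chevE7.cartan i (chevE7.simple k)
    rw [h1]
    exact Even.neg_one_zpow (even_iff_two_dvd.2 (zp_root k hk))
  have ht : wt topv x = -1 := by
    have h1 : wt topv x = (-1) ^ ((List.range 7).map fun i => zp.getD i 0 * chevE8.cartan i 238).sum :=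
      neg_one_zpow_prod (K := K) fun i => chevE8.cartan i 238
    rw [h1]
    exact Odd.neg_one_zpow (by rw [← Int.not_even_iff_odd, even_iff_two_dvd]; exact zp_top)
  obtain ⟨-, h2⟩ := rho_Phi_center' hx
  rw [ht] at h2
  have h3 : V K (Phi K x) = -1 := by
    refine LinearMap.ext fun v => ?_
    rw [V_diag h2, Units.val_neg, Units.val_one, neg_smul, one_smul]; rfl
  refine ⟨Phi K x, h3, ad_eq_one_iff.2 (Or.inr h3), ?_⟩
  apply faithful
  refine LinearMap.ext fun v => ?_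
  rw [V_mul, neg_apply h3, neg_apply h3, _root_.neg_neg]; rfl

instance [Finite K] : Finite (Gh K) := Finite.of_injective _ (rho_injective (K := K))

/-- the order of the simple group -/
theorem order [Finite K] : Nat.gcd 2 (Nat.card K - 1) * Nat.card ↥(chevE7.group K) =
    Nat.card K ^ 63 * (Nat.card K ^ 2 - 1) * (Nat.card K ^ 6 - 1) * (Nat.card K ^ 8 - 1) * (Nat.card K ^ 10 - 1) *
      (Nat.card K ^ 12 - 1) * (Nat.card K ^ 14 - 1) * (Nat.card K ^ 18 - 1) := by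
  have := Fintype.ofFinite K
  exact Cfsg.Agent.S1064.result (F := K) Nat.card_eq_fintype_card.symm

end

end Cfsg.Agent.R2.T1
end

private theorem dce_2696efa840eb : _root_.True := by
  try have : _root_.True := by simp only [_root_.Cfsg.Agent.R2.T1.wt.eq_1]
  try have : _root_.True := by simp only [_root_.Cfsg.Agent.R2.T1.bs.eq_1]
  exact _root_.True.intro
end

-- part: R2/T1/Inf/Ext_mg
section
prune_inst 0x242000002000000008000000000000004000009000234800096000400c00a5000004070036f002040242a89040488040001000100038000000000c00000000008083522032401000060001000804000000000000000000000000000000000000000000000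
set_option linter.all false
open scoped Cfsg.Agent.FastGrp

-- part: R2/T1/Inf/Desc
section
/-!
# S5771, S5929: descent (helper11)

* `emb_injective`, `emb_Phi`, `wt_map`;
* `exists_of_emb_eq` : the fixed points of the Frobenius automorphism of `Gh K`.
-/

set_option autoImplicit false

namespace Cfsg.Agent.R2.T1

open Cfsg Cfsg.Lie Module
open Cfsg.Agent.ChevalleyStructure.StTheta Cfsg.Agent.ChevalleyStructure.StEmbed
open Cfsg.Agent.H943.E7V.Block (D1 rho)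
open Cfsg.Agent.H944.E7Two (e7T)
open Cfsg.Agent.KFacts.RgdChevCoord (TT)

universe u v w

section
variable {F : Type u} {K : Type v} [Field F] [Field K] (f : F →+* K)

theorem emb_injective : Function.Injective (emb f) := by
  intro x y h
  apply rho_injective
  have h1 : (rho F x).map f = (rho F y).map f := by rw [← rho_emb, ← rho_emb, h]
  ext i j
  have h2 := congrFun (congrFun h1 i) j
  exact f.injective h2

theorem wt_map (s : D1) (a : Fin chevE7.rank → Fˣ) : wt s (fun i => Units.map (f : F →* K) (a i)) =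
    Units.map (f : F →* K) (wt s a) := by
  unfold wt
  rw [map_prod]
  exact Finset.prod_congr rfl fun i _ => (map_zpow _ _ _).symm

theorem emb_Phi (a : Fin chevE7.rank → Fˣ) : emb f (Phi F a) = Phi K fun i => Units.map (f : F →* K) (a i) := by
  apply rho_injective
  rw [rho_emb, rho_Phi, rho_Phi]
  simp only [wt_map]
  ext i j
  rw [Matrix.map_apply]
  by_cases h : i = j
  · subst h
    rw [Matrix.diagonal_apply_eq, Matrix.diagonal_apply_eq]; rfl
  · rw [Matrix.diagonal_apply_ne _ h, Matrix.diagonal_apply_ne _ h, map_zero]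

end

section
variable {F : Type u} {K : Type v} [Field F] [Field K] (f : F →+* K)

theorem emb_frob [Finite F] (s : K →+* K) (hs : ∀ t, s t = t ^ Nat.card F) (x : Gh F) :
    emb s (emb f x) = emb f x := by
  have := Fintype.ofFinite F
  rw [emb_comp]
  congr 1
  have h1 : s.comp f = f := by
    ext t
    rw [RingHom.comp_apply, hs, ← map_pow, Nat.card_eq_fintype_card, FiniteField.pow_card]
  rw [h1]

end

section
variable {F : Type u} {K : Type u} [Field F] [Field K] (f : F →+* K)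

/-- **descent**: elements fixed by the Frobenius automorphism -/
theorem exists_of_emb_eq [IsAlgClosed K] [Finite F] (s : K →+* K) (hs : ∀ t, s t = t ^ Nat.card F) {z : Gh K}
    (hz : emb s z = z) : ∃ z0 : Gh F, emb f z0 = z := by
  have := Fintype.ofFinite F
  have hs' : ∀ t, s t = t ^ Fintype.card F := fun t => by rw [hs, Nat.card_eq_fintype_card]
  have hfix : ∀ t, s t = t ↔ t ∈ Set.range f := Cfsg.Agent.BpExc.Emb.fix_iff_range hs'
  -- the adjoint group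
  have h1 : Cfsg.Agent.GpExc.Field.glMap chevE7 s ((ad K z : ↥(chevE7.group K)) : GL chevE7.Idx K) =
      ((ad K z : ↥(chevE7.group K)) : GL chevE7.Idx K) := by
    have h2 := ad_emb s z
    rw [hz] at h2
    nth_rewrite 2 [h2]
    exact (Cfsg.Agent.GpExc.Field.coe_emb e7T.inList s (ad K z)).symm
  obtain ⟨x, hx, t, ht, e1⟩ := Cfsg.Agent.BpExc.EmbSplit.untw_split e7T.inList hfix (ad K z).2 h1
  obtain ⟨x0, hx0⟩ := ad_surjective (K := F) ⟨x, hx⟩
  set w := (emb f x0)⁻¹ * z with hw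
  have hwt : ((ad K w : ↥(chevE7.group K)) : GL chevE7.Idx K) = t := by
    rw [hw, map_mul, map_inv, ad_emb, hx0, Subgroup.coe_mul, Subgroup.coe_inv, e1]
    exact inv_mul_cancel_left (Cfsg.Agent.GpExc.Field.glMap chevE7 f x) t
  have hwT : ad K w ∈ TT chevE7 K := by
    change ((ad K w : ↥(chevE7.group K)) : GL chevE7.Idx K) ∈ chevE7.diagonalSubgroup K
    rw [hwt]
    exact ht
  obtain ⟨a, ha⟩ := Cfsg.Agent.H129.StCover.exists_theta_phi isPhi e7T hwT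
  obtain ⟨b, hb⟩ : ∃ b, Phi K b = w := by
    have h2 : (Phi K a)⁻¹ * w ∈ (ad K).ker := by
      have ha' : ad K (Phi K a) = ad K w := ha
      rw [MonoidHom.mem_ker, map_mul, map_inv, ha', inv_mul_cancel]
    rw [ker_ad] at h2
    obtain ⟨b, hb⟩ := isPhi.center_le h2
    exact ⟨a * b, by rw [map_mul, hb, mul_inv_cancel_left]⟩
  have hws : emb s w = w := by
    rw [hw, map_mul, map_inv, hz, emb_frob f s hs]
  rw [← hb, emb_Phi] at hws
  have hbs := isPhi.inj hws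
  have hex : ∀ i, ∃ c : Fˣ, Units.map (f : F →* K) c = b i := by
    intro i
    have h3 : s (b i : K) = b i := congrArg Units.val (congrFun hbs i)
    obtain ⟨c, hc⟩ := (hfix _).1 h3
    have hc0 : c ≠ 0 := by
      rintro rfl
      rw [map_zero] at hc
      exact (b i).ne_zero hc.symm
    exact ⟨Units.mk0 c hc0, Units.ext hc⟩
  choose c hc using hex
  refine ⟨x0 * Phi F c, ?_⟩
  rw [map_mul, emb_Phi]
  have h4 : (fun i => Units.map (f : F →* K) (c i)) = b := funext hc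
  rw [h4, hb, hw, mul_inv_cancel_left]

/-- descent from the algebraic closure: matrices with coefficients in the small field -/
theorem exists_of_rho [IsAlgClosed K] [Finite F] {z : Gh K} {A : Matrix D1 D1 F} (hz : rho K z = A.map f) :
    ∃ z0 : Gh F, emb f z0 = z ∧ rho F z0 = A := by
  have := Fintype.ofFinite F
  obtain ⟨p, hp⟩ := CharP.exists F
  have hpp : Fact p.Prime := ⟨CharP.char_is_prime F p⟩
  have hcp : CharP K p := charP_of_injective_ringHom f.injective p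
  obtain ⟨n, -, hn⟩ := FiniteField.card F p
  let s : K →+* K := iterateFrobenius K p n
  have hs : ∀ t, s t = t ^ Nat.card F := by
    intro t
    rw [Nat.card_eq_fintype_card, hn]
    rfl
  have hz' : emb s z = z := by
    apply rho_injective
    rw [rho_emb, hz]
    ext i j
    rw [Matrix.map_apply, Matrix.map_apply, hs, ← map_pow, Nat.card_eq_fintype_card, FiniteField.pow_card]
  obtain ⟨z0, h0⟩ := exists_of_emb_eq f s hs hz'
  refine ⟨z0, h0, ?_⟩
  have h1 : (rho F z0).map f = A.map f := by rw [← rho_emb, h0, hz]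
  ext i j
  exact f.injective (congrFun (congrFun h1 i) j)

end

end Cfsg.Agent.R2.T1
end

-- part: R2/T1/Inf/Ext
section
/-!
# S5771, S5929: change of fields for `V`, `L` (helper11)

`ev_V`, `ev_L`, `trace_V`, `trace_L`, `ext_es_V`, `ext_es_L`, `ext_inv_V`, `ext_inv_L`, `ext_stable_V`; `ext` is
`Cfsg.Agent.H65.E6Emb.ext`.
-/

set_option autoImplicit false

namespace Cfsg.Agent.R2.T1

open Cfsg Cfsg.Lie Module
open Cfsg.Agent.H943.E7V.Block (D1 rho)
open Cfsg.Agent.H952.F4 (ev es)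
open Cfsg.Agent.H65.E6Emb (ext map_mulVec mem_ext_of_mem ext_le ext_es mem_ext_fixed)

universe u v w

section
variable {F : Type u} {K : Type v} [Field F] [Field K] (f : F →+* K)

theorem V_emb (g : Gh F) (x : D1 → F) : V K (emb f g) (fun i => f (x i)) = fun i => f (V F g x i) := by
  rw [V_apply, V_apply, rho_emb, map_mulVec]

/-- the matrix of the adjoint module -/
theorem ad_emb_mat (g : Gh F) : (((ad K (emb f g) : ↥(chevE7.group K)) : GL chevE7.Idx K) :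
    Matrix chevE7.Idx chevE7.Idx K) =
      (((ad F g : ↥(chevE7.group F)) : GL chevE7.Idx F) : Matrix chevE7.Idx chevE7.Idx F).map f := by
  rw [ad_emb]
  rfl

theorem L_apply (g : Gh F) (v : chevE7.Idx → F) : L F g v =
    (((ad F g : ↥(chevE7.group F)) : GL chevE7.Idx F) : Matrix chevE7.Idx chevE7.Idx F).mulVec v :=
  LK_apply (ad F g) v

theorem L_emb (g : Gh F) (x : chevE7.Idx → F) : L K (emb f g) (fun i => f (x i)) = fun i => f (L F g x i) := by
  rw [L_apply, L_apply, ad_emb_mat, map_mulVec]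

theorem L_eq' (g : Gh F) : L F g = Matrix.toLin' (((ad F g : ↥(chevE7.group F)) : GL chevE7.Idx F) :
    Matrix chevE7.Idx chevE7.Idx F) := by
  refine LinearMap.ext fun v => ?_
  rw [L_apply, Matrix.toLin'_apply]

theorem ev_V (g : Gh F) (μ : F) : ev (V K (emb f g)) (f μ) = ev (V F g) μ := by
  rw [V_eq, V_eq, rho_emb]
  exact Cfsg.Agent.H815.F4Chg.ev_map f _ μ

theorem ev_L (g : Gh F) (μ : F) : ev (L K (emb f g)) (f μ) = ev (L F g) μ := by
  rw [L_eq', L_eq', ad_emb_mat]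
  exact Cfsg.Agent.H815.F4Chg.ev_map f _ μ

theorem ev_V_one (g : Gh F) : ev (V K (emb f g)) 1 = ev (V F g) 1 := by
  rw [← ev_V f g 1, map_one]

theorem ev_L_one (g : Gh F) : ev (L K (emb f g)) 1 = ev (L F g) 1 := by
  rw [← ev_L f g 1, map_one]

theorem ev_V_neg_one (g : Gh F) : ev (V K (emb f g)) (-1) = ev (V F g) (-1) := by
  rw [← ev_V f g (-1), map_neg, map_one]

theorem ev_L_neg_one (g : Gh F) : ev (L K (emb f g)) (-1) = ev (L F g) (-1) := by
  rw [← ev_L f g (-1), map_neg, map_one]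

theorem ad_emb_eq_one_iff (g : Gh F) : ad K (emb f g) = 1 ↔ ad F g = 1 := by
  rw [ad_emb]
  constructor
  · intro h
    exact Cfsg.Agent.GpExc.Field.emb_injective _ f (by rw [h, map_one])
  · intro h
    rw [h, map_one]

variable {f}

theorem ext_es_L (g : Gh F) (μ : F) : ext f (es (L F g) μ) = es (L K (emb f g)) (f μ) := by
  rw [L_eq', L_eq', ad_emb_mat]
  exact ext_es _ μ

variable {A : Type*} [Group A] (ψ : A →* Gh F)

end

end Cfsg.Agent.R2.T1
end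

-- part: R2/T1/Inf/Frame
section
/-!
# S5771, S5929: elements of order prime to `p` are toral (helper11)
-/

set_option autoImplicit false

namespace Cfsg.Agent.R2.T1

open Cfsg Cfsg.Lie Module
open Cfsg.Agent.ChevalleyStructure.StTheta Cfsg.Agent.ChevalleyStructure.StEmbed
open Cfsg.Agent.H943.E7V.Block (D1 rho)
open Cfsg.Agent.H944.E7Two (e7T)
open Cfsg.Agent.BpExc.TorAll (HAlg)

universe u

/-- semisimple elements of `Gh K` are conjugate into the torus -/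
theorem frameK (p : ℕ) [Fact p.Prime] {K : Type u} [Field K] [IsAlgClosed K] [CharP K p] (hk : HAlg p K)
    {y : Gh K} {N : ℕ} (hN0 : N ≠ 0) (hN : N.Coprime p) (hy : y ^ N = 1) :
    ∃ (g : Gh K) (c : Fin chevE7.rank → Kˣ), Phi K c = g * y * g⁻¹ ∧ c ^ N = 1 := by
  set x' : ↥(chevE7.group K) := ad K y with hx'
  have hxN : x' ^ N = 1 := by rw [hx', ← map_pow, hy, map_one]
  obtain ⟨g, hg⟩ := Cfsg.Agent.H944.TorAnyChev.exists_conj_mem_TT e7T p hk hN0 hN hxN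
  obtain ⟨a, ha⟩ := Cfsg.Agent.H129.StCover.exists_theta_phi isPhi e7T hg
  obtain ⟨g', hg'⟩ := ad_surjective g
  obtain ⟨c, hc⟩ : ∃ c, Phi K c = g' * y * g'⁻¹ := by
    have h1 : (Phi K a)⁻¹ * (g' * y * g'⁻¹) ∈ (ad K).ker := by
      have ha' : ad K (Phi K a) = g * x' * g⁻¹ := ha
      rw [MonoidHom.mem_ker, map_mul, map_inv, ha', map_mul, map_mul, map_inv, hg', inv_mul_cancel]
    rw [ker_ad] at h1
    obtain ⟨b, hb⟩ := isPhi.center_le h1
    exact ⟨a * b, by rw [map_mul, hb, mul_inv_cancel_left]⟩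
  refine ⟨g', c, hc, ?_⟩
  apply isPhi.inj
  rw [map_pow, hc, conj_pow, hy, mul_one, mul_inv_cancel, map_one]

/-- **raw frame** over the algebraic closure of a finite field -/
theorem frame (p : ℕ) [Fact p.Prime] {F : Type u} [Field F] [Finite F] [CharP F p]
    {x : Gh F} {N : ℕ} (hN0 : N ≠ 0) (hN : N.Coprime p) (hx : x ^ N = 1) :
    ∃ (g : Gh (AlgebraicClosure F)) (c : Fin chevE7.rank → (AlgebraicClosure F)ˣ),
      Phi (AlgebraicClosure F) c = g * emb (algebraMap F (AlgebraicClosure F)) x * g⁻¹ ∧ c ^ N = 1 := by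
  have : CharP (AlgebraicClosure F) p :=
    charP_of_injective_algebraMap (algebraMap F (AlgebraicClosure F)).injective p
  exact frameK p (Cfsg.Agent.H944.RootVals.hAlg_closure p F) hN0 hN (by rw [← map_pow, hx, map_one])

end Cfsg.Agent.R2.T1
end
end

-- part: R2/T1/Inf/Dia
section
prune_inst 0x240008003000000008000002000000004000009000234800696000400c0025218040a70036f002048342acb040084040001001090000000000000c00400000000082420033400104040006808800000000000000000000000000000000000000000000000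
set_option linter.all false
open scoped Cfsg.Agent.FastGrp

/-!
# S5771, S5929: diagonal elements (helper11)

* `ad_Phi` : the matrix of `ad K (Phi K a)`;
* `ev_V_Phi`, `ev_L_Phi`, `trace_V_Phi`, `trace_L_Phi`;
* `ev_V_of_conj`, ...
-/

set_option autoImplicit false
set_option maxRecDepth 100000

namespace Cfsg.Agent.R2.T1

open Cfsg Cfsg.Lie Module
open Cfsg.Agent.ChevalleyStructure Cfsg.Agent.ChevalleyStructure.Elts
open Cfsg.Agent.ChevalleyStructure.StTheta Cfsg.Agent.ChevalleyStructure.StEmbed Cfsg.Agent.ChevalleyStructure.StBasic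
open Cfsg.Agent.H943.E7V.Block (D1 rho)
open Cfsg.Agent.H944.E7Two (e7T)
open Cfsg.Agent.H952.F4 (ev es)
open Cfsg.Agent.H944.E6T (ev_diag trace_diag ev_conj trace_conj)

universe u

variable {K : Type u} [Field K]

/-- the diagonal of the adjoint module -/
def dL (a : Fin chevE7.rank → Kˣ) : chevE7.Idx → K :=
  Sum.elim (fun _ => (1 : K)) (fun s : Fin chevE7.nroots => ((rtv s a : Kˣ) : K))

/-- the diagonal of the 56-dimensional module -/
def dV (a : Fin chevE7.rank → Kˣ) : D1 → K := fun s => ((wt s a : Kˣ) : K)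

/-- the diagonal matrices -/
def dgL (K : Type u) [Field K] : (Fin chevE7.rank → Kˣ) →* Matrix chevE7.Idx chevE7.Idx K where
  toFun a := Matrix.diagonal (dL a)
  map_one' := by
    rw [← Matrix.diagonal_one]
    congr 1
    funext s
    rcases s with s | s
    · rfl
    · simp [dL, rtv]
  map_mul' a b := by
    rw [Matrix.diagonal_mul_diagonal]
    congr 1
    funext s
    rcases s with s | s
    · simp [dL]
    · simp only [dL, Sum.elim_inr]
      unfold rtv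
      rw [← Units.val_mul, ← Finset.prod_mul_distrib]
      congr 1
      refine Finset.prod_congr rfl fun i _ => ?_
      rw [Pi.mul_apply, mul_zpow]

theorem rtv_single (r : ℕ) (j : Fin chevE7.rank) (x : Kˣ) : rtv r (Pi.mulSingle j x) = x ^ chevE7.cartan j r := by
  unfold rtv
  rw [Finset.prod_eq_single j]
  · rw [Pi.mulSingle_eq_same]
  · intro i _ hij
    rw [Pi.mulSingle_eq_of_ne hij, one_zpow]
  · intro h
    exact absurd (Finset.mem_univ j) h

/-- the matrices of the adjoint group, as a homomorphism -/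
noncomputable def adM (K : Type u) [Field K] : Gh K →* Matrix chevE7.Idx chevE7.Idx K :=
  (Units.coeHom _).comp ((chevE7.group K).subtype.comp (ad K))

theorem adM_apply (g : Gh K) : adM K g = (((ad K g : ↥(chevE7.group K)) : GL chevE7.Idx K) :
    Matrix chevE7.Idx chevE7.Idx K) := rfl

theorem L_adM (g : Gh K) : L K g = Matrix.toLin' (adM K g) := L_eq' g

/-- **the torus acts diagonally on the adjoint module** -/
theorem ad_Phi (a : Fin chevE7.rank → Kˣ) : adM K (Phi K a) = Matrix.diagonal (dL a) := by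
  have h : (adM K).comp (Phi K) = dgL K := by
    apply MonoidHom.pi_ext
    intro j x
    rw [MonoidHom.comp_apply, isPhi.single, adM_apply]
    have h1 : (((ad K (sth chevE7 (chevE7.simple j) (x : K)) : ↥(chevE7.group K)) : GL chevE7.Idx K) :
        Matrix chevE7.Idx chevE7.Idx K) = chevE7.hMat K (chevE7.simple j) x :=
      theta_sth (theta e7T.inList K) (fun r t _ => StTheta.theta_stGen e7T.inList r t) _ _
    rw [h1, Cfsg.Agent.S1033.result (F := K) chevE7 e7T.inList j j.2 (x : K) x.ne_zero]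
    show _ = Matrix.diagonal (dL (Pi.mulSingle j x))
    congr 1
    funext s
    rcases s with s | s
    · rfl
    · simp only [dL, Sum.elim_inr]
      rw [rtv_single, Units.val_zpow_eq_zpow_val]
  exact DFunLike.congr_fun h a

theorem V_Phi (a : Fin chevE7.rank → Kˣ) : V K (Phi K a) = Matrix.toLin' (Matrix.diagonal (dV a)) := by
  rw [V_eq, rho_Phi]
  rfl

theorem L_Phi (a : Fin chevE7.rank → Kˣ) : L K (Phi K a) = Matrix.toLin' (Matrix.diagonal (dL a)) := by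
  rw [L_adM, ad_Phi]

open Classical in
theorem ev_V_Phi (a : Fin chevE7.rank → Kˣ) (μ : K) :
    ev (V K (Phi K a)) μ = (Finset.univ.filter fun s : D1 => ((wt s a : Kˣ) : K) = μ).card :=
  ev_diag (dV a) μ (V_Phi a)

open Classical in
theorem ev_L_Phi (a : Fin chevE7.rank → Kˣ) (μ : K) :
    ev (L K (Phi K a)) μ = (if μ = 1 then 7 else 0) +
      (Finset.univ.filter fun s : Fin chevE7.nroots => ((rtv s a : Kˣ) : K) = μ).card := by
  rw [ev_diag (dL a) μ (L_Phi a), Finset.card_filter, Fintype.sum_sum_type, Finset.card_filter]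
  congr 1
  have h7 : Fintype.card (Fin chevE7.rank) = 7 := by rw [Fintype.card_fin]; rfl
  have h1 : ∀ i : Fin chevE7.rank, dL a (Sum.inl i) = 1 := fun _ => rfl
  simp only [h1]
  by_cases h : μ = 1
  · subst h
    rw [if_pos rfl, if_pos rfl, Finset.sum_const, Finset.card_univ, h7, smul_eq_mul, mul_one]
  · rw [if_neg h, if_neg (Ne.symm h), Finset.sum_const_zero]

section conj
variable {g x : Gh K} {c : Fin chevE7.rank → Kˣ} (h : Phi K c = g * x * g⁻¹)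

include h

theorem ev_V_of_conj (μ : K) : ev (V K x) μ = ev (V K (Phi K c)) μ := by
  rw [h, ev_conj]

theorem ev_L_of_conj (μ : K) : ev (L K x) μ = ev (L K (Phi K c)) μ := by
  rw [h, ev_conj]

end conj

end Cfsg.Agent.R2.T1

private theorem dce_53912c7c45ee : _root_.True := by
  try have : _root_.True := by simp only [_root_.Cfsg.Agent.R2.T1.dL.eq_1]
  try have : _root_.True := by simp only [_root_.Cfsg.Agent.R2.T1.rtv.eq_1]
  exact _root_.True.intro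
end
end
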