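import Cfsg.Agent.R2.T1.Inf.Dia
import Cfsg.Agent.ChevalleyStructure.Good
import Cfsg.Agent.ChevFast.E7
import Cfsg.Agent.Prune
set_option linter.all false

section
prune_inst 0x7f00000000000000000000000000000000000000000000000000000000000000000000000000000000000000000000000000000000000000000000000000000000000000000000000000000000000000003fffffffffffffffffffffffffffbeffbdffffffff

-- part: R2/T1/Inf/LMat
section
set_option linter.all false
open scoped Cfsg.Agent.FastGrp

/-!
# S5771, S5929: the action of the root elements on the adjoint module (helper11)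

* `F7 r s` : `[(u, c)]` if `r + s = u` is a root, `[e_r, e_s] = c e_u`, otherwise `[]`;
* `EM F r`, `QM F r` : `adM (xs F r t) = 1 + t • EM F r + t ^ 2 • QM F r`.
-/

set_option autoImplicit false
set_option maxRecDepth 100000

namespace Cfsg.Agent.R2.T1

open Cfsg Cfsg.Lie Module
open Cfsg.Agent.ChevalleyStructure Cfsg.Agent.ChevalleyStructure.Elts Cfsg.Agent.ChevalleyStructure.Columns
open Cfsg.Agent.ChevalleyStructure.StTheta Cfsg.Agent.ChevalleyStructure.StEmbed Cfsg.Agent.ChevalleyStructure.StBasic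
open Cfsg.Agent.H944.E7Two (e7T)
open scoped Matrix

universe u

/-- the sum of two roots and the structure constant -/
def F7 (r s : ℕ) : List (ℕ × ℤ) := look (row chevE7 r) s

theorem F7_eq (r s : ℕ) : chevE7.chainEntry r s = F7 r s := chainEntry_eq_look chevE7 r s

def chkR (r : ℕ) : Bool := sortedFrom 0 (row chevE7 r) && (Nat.beq (chevE7.negIdx.getD r 0) (125 - r)) &&
  (row chevE7 r).all fun e => match e.2.toList with
  | [x] => decide (e.1 < 126) && decide (x.1 < 126) && decide (x.2 * x.2 = 1) &&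
    decide (look (row chevE7 r) (125 - x.1) = [(125 - e.1, -x.2)]) &&
    decide (look (row chevE7 r) x.1 = []) && !(Nat.beq x.1 r) && !(Nat.beq x.1 (125 - r)) && !(Nat.beq e.1 r) &&
    !(Nat.beq e.1 (125 - r))
  | _ => false

theorem chkR_true : (List.range 126).all chkR = true := by
  have h : ∀ r, look (row chevE7 r) = chevE7.chainEntry r := fun r => funext fun s => (chainEntry_eq_look chevE7 r s).symm
  delta chkR
  simp only [h]
  delta row
  rewrite [Cfsg.Agent.ChevFast.E7.chainEntry, Cfsg.Agent.ChevFast.E7.chain, Cfsg.Agent.ChevFast.E7.negA]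
  decide +kernel

theorem look_mem : ∀ (l : List (ℕ × Array (ℕ × ℤ))) (s : ℕ), look l s = [] ∨ ∃ e ∈ l, e.1 = s ∧ look l s = e.2.toList := by
  intro l
  induction l with
  | nil => intro s; left; rfl
  | cons e es ih =>
    intro s
    rw [look_cons]
    by_cases h : e.1 = s
    · right
      exact ⟨e, by simp, h, if_pos h⟩
    · rw [if_neg h]
      rcases ih s with h1 | ⟨e', he', h1, h2⟩
      · exact Or.inl h1
      · exact Or.inr ⟨e', List.mem_cons_of_mem _ he', h1, h2⟩

theorem sorted7 {r : ℕ} (hr : r < 126) : sortedFrom 0 (row chevE7 r) = true := by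
  have h := List.all_eq_true.1 chkR_true r (List.mem_range.2 hr)
  simp only [chkR, Bool.and_eq_true] at h
  exact h.1.1

theorem neg7 {r : ℕ} (hr : r < 126) : chevE7.negIdx.getD r 0 = 125 - r := by
  have h := List.all_eq_true.1 chkR_true r (List.mem_range.2 hr)
  simp only [chkR, Bool.and_eq_true] at h
  exact Nat.eq_of_beq_eq_true h.1.2

/-- the properties of the structure constants -/
theorem F7_cases {r : ℕ} (hr : r < 126) (s : ℕ) : F7 r s = [] ∨ ∃ u c, F7 r s = [(u, c)] ∧ s < 126 ∧ u < 126 ∧
    c * c = 1 ∧ F7 r (125 - u) = [(125 - s, -c)] ∧ F7 r u = [] ∧ u ≠ r ∧ u ≠ 125 - r ∧ s ≠ r ∧ s ≠ 125 - r := by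
  rcases look_mem (row chevE7 r) s with h | ⟨e, he, h1, h2⟩
  · exact Or.inl h
  right
  have h := List.all_eq_true.1 chkR_true r (List.mem_range.2 hr)
  simp only [chkR, Bool.and_eq_true] at h
  have h3 := List.all_eq_true.1 h.2 e he
  rcases hl : e.2.toList with _ | ⟨x, _ | ⟨y, ys⟩⟩
  · rw [hl] at h3; exact Bool.noConfusion h3
  · rw [hl] at h3
    simp only [Bool.and_eq_true, decide_eq_true_eq, Bool.not_eq_true'] at h3
    obtain ⟨⟨⟨⟨⟨⟨⟨⟨k1, k2⟩, k3⟩, k4⟩, k5⟩, k6⟩, k7⟩, k8⟩, k9⟩ := h3
    have nb : ∀ a b : ℕ, Nat.beq a b = false → a ≠ b := by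
      rintro a b hab rfl
      rw [Nat.beq_refl] at hab
      exact Bool.noConfusion hab
    rw [h1] at k1 k4 k8 k9
    refine ⟨x.1, x.2, ?_, k1, k2, k3, k4, k5, nb _ _ k6, nb _ _ k7, nb _ _ k8, nb _ _ k9⟩
    show look _ _ = _
    rw [h2, hl]
  · rw [hl] at h3; exact Bool.noConfusion h3

theorem F7_self {r : ℕ} (hr : r < 126) : F7 r r = [] := by
  rcases F7_cases hr r with h | ⟨u, c, -, -, -, -, -, -, -, -, h, -⟩
  · exact h
  · exact absurd rfl h

theorem F7_neg {r : ℕ} (hr : r < 126) : F7 r (125 - r) = [] := by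
  rcases F7_cases hr (125 - r) with h | ⟨u, c, -, -, -, -, -, -, -, -, -, h⟩
  · exact h
  · exact absurd rfl h

/-- the coefficient of `e_u` in `[e_r, e_s]` -/
def cf (r s u : ℕ) : ℤ :=
  match F7 r s with
  | [x] => if x.1 = u then x.2 else 0
  | _ => 0

theorem cf_nil {r s : ℕ} (h : F7 r s = []) (u : ℕ) : cf r s u = 0 := by
  unfold cf; rw [h]

theorem cf_cons {r s u : ℕ} {c : ℤ} (h : F7 r s = [(u, c)]) (w : ℕ) : cf r s w = if u = w then c else 0 := by
  unfold cf; rw [h]

theorem cf_ne {r s u : ℕ} (hr : r < 126) (h : cf r s u ≠ 0) : F7 r s = [(u, cf r s u)] := by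
  rcases F7_cases hr s with h1 | ⟨u', c, h1, -⟩
  · exact absurd (cf_nil h1 u) h
  · have h2 := cf_cons h1 u
    by_cases h3 : u' = u
    · rw [h2, if_pos h3, h1, h3]
    · rw [if_neg h3] at h2; exact absurd h2 h

/-- antisymmetry -/
theorem cf_opp {r : ℕ} (hr : r < 126) {s u : ℕ} (hs : s < 126) (hu : u < 126) :
    cf r (125 - u) (125 - s) = - cf r s u := by
  have key : ∀ s u : ℕ, s < 126 → u < 126 → cf r s u ≠ 0 → cf r (125 - u) (125 - s) = - cf r s u := by
    intro s u hs hu h
    have h1 := cf_ne hr h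
    rcases F7_cases hr s with h2 | ⟨u', c, h2, -, -, -, h3, -⟩
    · rw [h1] at h2; exact absurd h2 (by simp)
    · rw [h1] at h2
      simp only [List.cons.injEq, Prod.mk.injEq, and_true] at h2
      obtain ⟨rfl, h4⟩ := h2
      rw [cf_cons h3, if_pos rfl, h4]
  by_cases h : cf r s u = 0
  · by_cases h' : cf r (125 - u) (125 - s) = 0
    · rw [h, h', neg_zero]
    · have h1 := key (125 - u) (125 - s) (by omega) (by omega) h'
      rw [show 125 - (125 - s) = s by omega, show 125 - (125 - u) = u by omega, h] at h1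
      exact absurd (neg_eq_zero.1 h1.symm) h'
  · exact key s u hs hu h

section
variable (F : Type u) [Field F]

/-- `ad e_r` -/
def EM (r : ℕ) : Matrix chevE7.Idx chevE7.Idx F := Matrix.of fun a b =>
  match a, b with
  | Sum.inl _, Sum.inl _ => 0
  | Sum.inr u, Sum.inl i => if u.val = r then -(car chevE7 i.val r : F) else 0
  | Sum.inl i, Sum.inr s => if s.val = 125 - r then (cor chevE7 r i.val : F) else 0
  | Sum.inr u, Sum.inr s => ((cf r s.val u.val : ℤ) : F)

/-- `(ad e_r)² / 2` -/
def QM (r : ℕ) : Matrix chevE7.Idx chevE7.Idx F := Matrix.of fun a b =>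
  match a, b with
  | Sum.inr u, Sum.inr s => if s.val = 125 - r then (if u.val = r then -1 else 0) else 0
  | _, _ => 0

variable {F}

theorem EM_ll (r : ℕ) (j i : Fin chevE7.rank) : EM F r (Sum.inl j) (Sum.inl i) = 0 := rfl
theorem EM_rl (r : ℕ) (u : Fin chevE7.nroots) (i : Fin chevE7.rank) :
    EM F r (Sum.inr u) (Sum.inl i) = if u.val = r then -(car chevE7 i.val r : F) else 0 := rfl
theorem EM_lr (r : ℕ) (i : Fin chevE7.rank) (s : Fin chevE7.nroots) :
    EM F r (Sum.inl i) (Sum.inr s) = if s.val = 125 - r then (cor chevE7 r i.val : F) else 0 := rfl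
theorem EM_rr (r : ℕ) (u s : Fin chevE7.nroots) : EM F r (Sum.inr u) (Sum.inr s) = ((cf r s.val u.val : ℤ) : F) := rfl
theorem QM_ll (r : ℕ) (j i : Fin chevE7.rank) : QM F r (Sum.inl j) (Sum.inl i) = 0 := rfl
theorem QM_rl (r : ℕ) (u : Fin chevE7.nroots) (i : Fin chevE7.rank) : QM F r (Sum.inr u) (Sum.inl i) = 0 := rfl
theorem QM_lr (r : ℕ) (i : Fin chevE7.rank) (s : Fin chevE7.nroots) : QM F r (Sum.inl i) (Sum.inr s) = 0 := rfl
theorem QM_rr (r : ℕ) (u s : Fin chevE7.nroots) : QM F r (Sum.inr u) (Sum.inr s) =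
    if s.val = 125 - r then (if u.val = r then -1 else 0) else 0 := rfl

/-- **the root elements on the adjoint module** -/
theorem adM_xs {r : ℕ} (hr : r < 126) (t : F) : adM F (xs F r t) = 1 + t • EM F r + t ^ 2 • QM F r := by
  let ρ : Fin chevE7.nroots := ⟨r, hr⟩
  have h1 : adM F (xs F r t) = chevE7.xMat F ρ t := by
    rw [adM_apply]
    have h2 : (((ad F (xs F r t) : ↥(chevE7.group F)) : GL chevE7.Idx F) : Matrix chevE7.Idx chevE7.Idx F) =
      chevE7.x F r t := theta_stGen e7T.inList r t
    rw [h2]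
    unfold ChevalleyDatum.x
    exact dif_pos hr
  rw [h1]
  ext a b
  rw [Matrix.add_apply, Matrix.add_apply, Matrix.smul_apply, Matrix.smul_apply, smul_eq_mul, smul_eq_mul]
  have hne : r ≠ 125 - r := by omega
  rcases b with i | s
  · rcases a with j | w
    · rw [xMat_inl_inl, EM_ll, QM_ll, Matrix.one_apply]
      simp only [Sum.inl.injEq, mul_zero, add_zero]
    · rw [xMat_inr_inl, EM_rl, QM_rl, Matrix.one_apply_ne (by simp)]
      have h3 : (w = ρ) ↔ (w.val = r) := ⟨fun h => congrArg Fin.val h, fun h => Fin.ext h⟩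
      simp only [h3]
      split_ifs <;> simp [ρ, mul_comm]
  · by_cases hs1 : s = ρ
    · subst hs1
      rw [xMat_self]
      rcases a with j | w
      · rw [dl_inl, EM_lr, QM_lr, Matrix.one_apply_ne (by simp), if_neg (show ¬ (ρ.val = 125 - r) from hne)]
        simp
      · rw [dl_inr, EM_rr, QM_rr, cf_nil (F7_self hr), if_neg (show ¬ (ρ.val = 125 - r) from hne), Matrix.one_apply]
        have h3 : (Sum.inr w = (Sum.inr ρ : chevE7.Idx)) ↔ (w.val = ρ.val) := by
          rw [Sum.inr.injEq]
          exact ⟨fun h => congrArg Fin.val h, fun h => Fin.ext h⟩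
        simp only [h3]
        simp
    · by_cases hs2 : s.val = chevE7.negIdx.getD ρ.val 0
      · rw [xMat_neg chevE7 ρ t a s hs2 hs1]
        have hs3 : s.val = 125 - r := hs2.trans (neg7 hr)
        rcases a with j | w
        · rw [dl_inl, dl_inl, EM_lr, QM_lr, if_pos hs3, Matrix.one_apply_ne (by simp)]
          simp only [Sum.inl.injEq]
          rw [Finset.sum_eq_single j]
          · rw [if_pos rfl]; ring
          · intro i _ hij
            rw [if_neg (Ne.symm hij), mul_zero]
          · intro h; exact absurd (Finset.mem_univ _) h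
        · rw [dl_inr, dl_inr, EM_rr, QM_rr, if_pos hs3, hs3, cf_nil (F7_neg hr), Matrix.one_apply]
          have h3 : (Sum.inr w = (Sum.inr s : chevE7.Idx)) ↔ (w.val = 125 - r) := by
            rw [Sum.inr.injEq, ← hs3]
            exact ⟨fun h => congrArg Fin.val h, fun h => Fin.ext h⟩
          simp only [h3]
          have h4 : ∑ i : Fin chevE7.rank, ((cor chevE7 ρ.val i.val : ℤ) : F) * t *
              (if (Sum.inr w : chevE7.Idx) = Sum.inl i then 1 else 0) = 0 :=
            Finset.sum_eq_zero fun i _ => by rw [if_neg (by simp), mul_zero]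
          rw [h4]
          have h5 : (if w.val = ρ.val then (1 : F) else 0) = if w.val = r then 1 else 0 := rfl
          rw [h5]
          split_ifs <;> simp [sub_eq_add_neg]
      · rw [xMat_ne chevE7 ρ t a s hs2 hs1 (sorted7 hr), F7_eq]
        have hs3 : s.val ≠ 125 - r := fun h => hs2 (h.trans (neg7 hr).symm)
        rcases F7_cases hr s.val with h2 | ⟨u, c, h2, -⟩
        · have h2' : F7 ρ.val s.val = [] := h2
          rw [h2', chSum_nil]
          rcases a with j | w
          · rw [dl_inl, EM_lr, QM_lr, if_neg hs3, Matrix.one_apply_ne (by simp)]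
            simp
          · rw [dl_inr, EM_rr, QM_rr, if_neg hs3, cf_nil h2, Matrix.one_apply]
            have h3 : (Sum.inr w = (Sum.inr s : chevE7.Idx)) ↔ (w.val = s.val) := by
              rw [Sum.inr.injEq]
              exact ⟨fun h => congrArg Fin.val h, fun h => Fin.ext h⟩
            simp only [h3]
            simp
        · have h2' : F7 ρ.val s.val = [(u, c)] := h2
          rw [h2', chSum_cons, chSum_nil, add_zero, pow_one]
          rcases a with j | w
          · rw [dl_inl, dl_inl, EM_lr, QM_lr, if_neg hs3, Matrix.one_apply_ne (by simp)]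
            simp
          · rw [dl_inr, dl_inr, EM_rr, QM_rr, if_neg hs3, cf_cons h2, Matrix.one_apply]
            have h3 : (Sum.inr w = (Sum.inr s : chevE7.Idx)) ↔ (w.val = s.val) := by
              rw [Sum.inr.injEq]
              exact ⟨fun h => congrArg Fin.val h, fun h => Fin.ext h⟩
            have h4 : (w.val = u) ↔ (u = w.val) := eq_comm
            simp only [h3, h4]
            split_ifs <;> push_cast <;> ring

end

end Cfsg.Agent.R2.T1

private theorem dce_9f1ea095ffee : _root_.True := by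
  try have : _root_.True := by simp only [_root_.Cfsg.Agent.R2.T1.chkR._sparseCasesOn_1.else_eq]
  try have : _root_.True := by simp only [_root_.Cfsg.Agent.R2.T1.chkR._sparseCasesOn_2.else_eq]
  try have : _root_.True := by simp only [_root_.Cfsg.Agent.R2.T1.chkR.eq_1]
  exact _root_.True.intro
end

-- part: R2/T1/Inf/LForm
section
set_option linter.all false
open scoped Cfsg.Agent.FastGrp

/-!
# S5771, S5929: the invariant symmetric form on the adjoint module, irreducibility (helper11)

* `kf F : (Idx → F) →ₗ[F] (Idx → F) →ₗ[F] F` : `κ(e_r, e_{-r}) = 1`, `κ(h_i, h_j) = C_{ij}`; `kf_L`, `kf_comm`, `kf_nondeg`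
  (the latter for `2 ≠ 0`);
* `irrL` : for `2 ≠ 0` the adjoint module is irreducible.
-/

set_option autoImplicit false
set_option maxRecDepth 100000

namespace Cfsg.Agent.R2.T1

open Cfsg Cfsg.Lie Module
open Cfsg.Agent.ChevalleyStructure Cfsg.Agent.ChevalleyStructure.Elts Cfsg.Agent.ChevalleyStructure.Columns
open scoped Matrix

universe u

theorem sum_car_cor : ∀ r < 126, ∑ i : Fin 7, car chevE7 i.val r * cor chevE7 r i.val = 2 := by (delta Cfsg.Agent.ChevalleyStructure.Columns.car Cfsg.Agent.ChevalleyStructure.Columns.cor; rewrite [Cfsg.Agent.ChevFast.E7.coroot]; (try set_option simprocs false in simp -zeta only [Cfsg.Agent.ChevFast.E7.cartanR]); decide +kernel)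

theorem sum_car_simple : ∀ r < 126, ∀ i < 7,
    ∑ k : Fin 7, car chevE7 i (chevE7.simple k.val) * cor chevE7 r k.val = car chevE7 i r := by (delta Cfsg.Agent.ChevalleyStructure.Columns.car Cfsg.Agent.ChevalleyStructure.Columns.cor; rewrite [Cfsg.Agent.ChevFast.E7.coroot]; (try set_option simprocs false in simp -zeta only [Cfsg.Agent.ChevFast.E7.cartanR]); decide +kernel)

theorem car_symm : ∀ i < 7, ∀ j < 7, car chevE7 i (chevE7.simple j) = car chevE7 j (chevE7.simple i) := by
  (delta Cfsg.Agent.ChevalleyStructure.Columns.car; (try set_option simprocs false in simp -zeta only [Cfsg.Agent.ChevFast.E7.cartanR]); decide +kernel)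

section
variable {F : Type u} [Field F]

theorem EM_EM {r : ℕ} (hr : r < 126) : EM F r * EM F r = (2 : F) • QM F r := by
  have hne : r ≠ 125 - r := by omega
  have hne' : 125 - r ≠ r := by omega
  ext a b
  rw [Matrix.mul_apply, Matrix.smul_apply, smul_eq_mul, Fintype.sum_sum_type]
  rcases b with i | s <;> rcases a with j | w
  · rw [QM_ll, mul_zero]
    simp only [EM_ll, mul_zero, Finset.sum_const_zero, zero_add]
    refine Finset.sum_eq_zero fun u _ => ?_
    rw [EM_lr, EM_rl]
    by_cases h1 : u.val = r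
    · rw [if_neg (by rw [h1]; exact hne), zero_mul]
    · rw [if_neg h1, mul_zero]
  · rw [QM_rl, mul_zero]
    simp only [EM_ll, mul_zero, Finset.sum_const_zero, zero_add]
    refine Finset.sum_eq_zero fun u _ => ?_
    rw [EM_rr, EM_rl]
    by_cases h1 : u.val = r
    · rw [h1, cf_nil (F7_self hr), Int.cast_zero, zero_mul]
    · rw [if_neg h1, mul_zero]
  · rw [QM_lr, mul_zero]
    simp only [EM_ll, zero_mul, Finset.sum_const_zero, zero_add]
    refine Finset.sum_eq_zero fun u _ => ?_
    rw [EM_lr, EM_rr]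
    by_cases h1 : u.val = 125 - r
    · have h2 : cf r s.val u.val = 0 := by
        by_contra h
        have h3 := cf_ne hr h
        rcases F7_cases hr s.val with h4 | ⟨u', c, h4, -, -, -, -, -, -, h5, -⟩
        · rw [h3] at h4; exact absurd h4 (by simp)
        · rw [h3] at h4
          simp only [List.cons.injEq, Prod.mk.injEq, and_true] at h4
          exact h5 (h4.1 ▸ h1)
      rw [h2, Int.cast_zero, mul_zero]
    · rw [if_neg h1, zero_mul]
  · rw [QM_rr]
    have h1 : ∑ u : Fin chevE7.nroots, EM F r (Sum.inr w) (Sum.inr u) * EM F r (Sum.inr u) (Sum.inr s) = 0 := by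
      refine Finset.sum_eq_zero fun u _ => ?_
      rw [EM_rr, EM_rr]
      by_cases h : cf r s.val u.val = 0
      · rw [h, Int.cast_zero, mul_zero]
      · have h3 := cf_ne hr h
        rcases F7_cases hr s.val with h4 | ⟨u', c, h4, -, -, -, -, h6, -⟩
        · rw [h3] at h4; exact absurd h4 (by simp)
        · rw [h3] at h4
          simp only [List.cons.injEq, Prod.mk.injEq, and_true] at h4
          rw [← h4.1] at h6
          rw [cf_nil h6, Int.cast_zero, zero_mul]
    rw [h1, add_zero]
    by_cases hw : w.val = r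
    · by_cases hs : s.val = 125 - r
      · simp only [EM_rl, EM_lr, if_pos hw, if_pos hs]
        have h2 := congrArg (Int.cast (R := F)) (sum_car_cor r hr)
        push_cast at h2
        rw [mul_neg_one, ← h2, ← Finset.sum_neg_distrib]
        exact Finset.sum_congr rfl fun i _ => by rw [neg_mul]
      · simp only [EM_lr, if_neg hs, mul_zero, Finset.sum_const_zero]
    · simp only [EM_rl, if_neg hw, zero_mul, Finset.sum_const_zero, ite_self, mul_zero]

theorem cf_opp_zero {r : ℕ} (hr : r < 126) (s : ℕ) : cf r s (125 - r) = 0 := by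
  by_contra h
  have h3 := cf_ne hr h
  rcases F7_cases hr s with h4 | ⟨u', c, h4, -, -, -, -, -, -, h5, -⟩
  · rw [h3] at h4; exact absurd h4 (by simp)
  · rw [h3] at h4
    simp only [List.cons.injEq, Prod.mk.injEq, and_true] at h4
    exact h5 h4.1.symm

theorem EM_QM {r : ℕ} (hr : r < 126) : EM F r * QM F r = 0 := by
  have hne : r ≠ 125 - r := by omega
  ext a b
  rw [Matrix.mul_apply, Matrix.zero_apply, Fintype.sum_sum_type]
  rcases b with i | s
  · simp only [QM_ll, QM_rl, mul_zero, Finset.sum_const_zero, add_zero]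
  · simp only [QM_lr, mul_zero, Finset.sum_const_zero, zero_add]
    refine Finset.sum_eq_zero fun u _ => ?_
    rw [QM_rr]
    by_cases hu : u.val = r
    · rcases a with j | w
      · rw [EM_lr, if_neg (by rw [hu]; exact hne), zero_mul]
      · rw [EM_rr, hu, cf_nil (F7_self hr), Int.cast_zero, zero_mul]
    · rw [if_neg hu, ite_self, mul_zero]

theorem QM_EM {r : ℕ} (hr : r < 126) : QM F r * EM F r = 0 := by
  have hne : 125 - r ≠ r := by omega
  ext a b
  rw [Matrix.mul_apply, Matrix.zero_apply, Fintype.sum_sum_type]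
  rcases a with j | w
  · simp only [QM_ll, QM_lr, zero_mul, Finset.sum_const_zero, add_zero]
  · simp only [QM_rl, zero_mul, Finset.sum_const_zero, zero_add]
    refine Finset.sum_eq_zero fun u _ => ?_
    rw [QM_rr]
    by_cases hu : u.val = 125 - r
    · rcases b with j | s
      · rw [EM_rl, if_neg (show ¬ u.val = r by rw [hu]; exact hne), mul_zero]
      · rw [EM_rr, hu, cf_opp_zero hr, Int.cast_zero, mul_zero]
    · rw [if_neg hu, zero_mul]

theorem QM_QM {r : ℕ} (hr : r < 126) : QM F r * QM F r = 0 := by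
  have hne : r ≠ 125 - r := by omega
  ext a b
  rw [Matrix.mul_apply, Matrix.zero_apply, Fintype.sum_sum_type]
  rcases b with i | s
  · simp only [QM_ll, QM_rl, mul_zero, Finset.sum_const_zero, add_zero]
  · simp only [QM_lr, mul_zero, Finset.sum_const_zero, zero_add]
    refine Finset.sum_eq_zero fun u _ => ?_
    rcases a with j | w
    · rw [QM_lr, zero_mul]
    · rw [QM_rr, QM_rr]
      by_cases hu : u.val = r
      · rw [if_neg (by rw [hu]; exact hne), zero_mul]
      · rw [if_neg hu, ite_self, mul_zero]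

variable (F)

/-- the matrix of the form -/
def KM : Matrix chevE7.Idx chevE7.Idx F := Matrix.of fun a b =>
  match a, b with
  | Sum.inl i, Sum.inl j => (car chevE7 i.val (chevE7.simple j.val) : F)
  | Sum.inr u, Sum.inr s => if s.val = 125 - u.val then 1 else 0
  | _, _ => 0

variable {F}

theorem KM_ll (i j : Fin chevE7.rank) : KM F (Sum.inl i) (Sum.inl j) = (car chevE7 i.val (chevE7.simple j.val) : F) := rfl
theorem KM_rl (u : Fin chevE7.nroots) (i : Fin chevE7.rank) : KM F (Sum.inr u) (Sum.inl i) = 0 := rfl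
theorem KM_lr (i : Fin chevE7.rank) (s : Fin chevE7.nroots) : KM F (Sum.inl i) (Sum.inr s) = 0 := rfl
theorem KM_rr (u s : Fin chevE7.nroots) : KM F (Sum.inr u) (Sum.inr s) = if s.val = 125 - u.val then 1 else 0 := rfl

theorem KM_symm : (KM F)ᵀ = KM F := by
  ext a b
  rw [Matrix.transpose_apply]
  rcases a with i | u <;> rcases b with j | s
  · rw [KM_ll, KM_ll, car_symm j.val j.2 i.val i.2]
  · rw [KM_rl, KM_lr]
  · rw [KM_rl, KM_lr]
  · rw [KM_rr, KM_rr]
    have hu : u.val < 126 := u.2
    have hs : s.val < 126 := s.2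
    have : (u.val = 125 - s.val) ↔ (s.val = 125 - u.val) := by omega
    simp only [this]

/-- the opposite root -/
def ng (u : Fin chevE7.nroots) : Fin chevE7.nroots := ⟨125 - u.val, by
  have hu : u.val < 126 := u.2
  show 125 - u.val < 126
  omega⟩

theorem ng_val (u : Fin chevE7.nroots) : (ng u).val = 125 - u.val := rfl

theorem sum_KM (u : Fin chevE7.nroots) (f : Fin chevE7.nroots → F) :
    ∑ s, KM F (Sum.inr u) (Sum.inr s) * f s = f (ng u) := by
  rw [Finset.sum_eq_single (ng u)]
  · rw [KM_rr, if_pos (ng_val u), one_mul]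
  · intro s _ hs
    rw [KM_rr, if_neg (show ¬ s.val = 125 - u.val from fun h => hs (Fin.ext h)), zero_mul]
  · intro h; exact absurd (Finset.mem_univ _) h

theorem KMEM_ll {r : ℕ} (i j : Fin chevE7.rank) : (KM F * EM F r) (Sum.inl i) (Sum.inl j) = 0 := by
  rw [Matrix.mul_apply, Fintype.sum_sum_type]
  simp only [EM_ll, KM_lr, mul_zero, zero_mul, Finset.sum_const_zero, add_zero]

theorem KMEM_lr {r : ℕ} (hr : r < 126) (i : Fin chevE7.rank) (s : Fin chevE7.nroots) :
    (KM F * EM F r) (Sum.inl i) (Sum.inr s) = if s.val = 125 - r then (car chevE7 i.val r : F) else 0 := by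
  rw [Matrix.mul_apply, Fintype.sum_sum_type]
  simp only [KM_lr, zero_mul, Finset.sum_const_zero, add_zero]
  by_cases hs : s.val = 125 - r
  · simp only [EM_lr, KM_ll, if_pos hs]
    have h2 := congrArg (Int.cast (R := F)) (sum_car_simple r hr i.val i.2)
    push_cast at h2
    exact h2
  · simp only [EM_lr, if_neg hs, mul_zero, Finset.sum_const_zero]

theorem KMEM_rl {r : ℕ} (u : Fin chevE7.nroots) (j : Fin chevE7.rank) :
    (KM F * EM F r) (Sum.inr u) (Sum.inl j) = if (ng u).val = r then -(car chevE7 j.val r : F) else 0 := by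
  rw [Matrix.mul_apply, Fintype.sum_sum_type]
  simp only [KM_rl, zero_mul, Finset.sum_const_zero, zero_add]
  rw [sum_KM u fun s => EM F r (Sum.inr s) (Sum.inl j), EM_rl]

theorem KMEM_rr {r : ℕ} (u s : Fin chevE7.nroots) :
    (KM F * EM F r) (Sum.inr u) (Sum.inr s) = ((cf r s.val (125 - u.val) : ℤ) : F) := by
  rw [Matrix.mul_apply, Fintype.sum_sum_type]
  simp only [KM_rl, zero_mul, Finset.sum_const_zero, zero_add]
  rw [sum_KM u fun w => EM F r (Sum.inr w) (Sum.inr s), EM_rr, ng_val]

/-- `ad e_r` is skew -/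
theorem KM_EM {r : ℕ} (hr : r < 126) : (EM F r)ᵀ * KM F = -(KM F * EM F r) := by
  have h0 : (EM F r)ᵀ * KM F = (KM F * EM F r)ᵀ := by rw [Matrix.transpose_mul, KM_symm]
  rw [h0]
  ext a b
  rw [Matrix.transpose_apply, Matrix.neg_apply]
  rcases a with i | u <;> rcases b with j | s
  · rw [KMEM_ll, KMEM_ll, neg_zero]
  · rw [KMEM_lr hr, KMEM_rl, ng_val]
    have hs : s.val < 126 := s.2
    have : (125 - s.val = r) ↔ (s.val = 125 - r) := by omega
    simp only [this]
    split_ifs
    · rfl
    · rw [neg_zero]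
  · rw [KMEM_lr hr, KMEM_rl, ng_val]
    have hu : u.val < 126 := u.2
    have : (125 - u.val = r) ↔ (u.val = 125 - r) := by omega
    simp only [this]
    split_ifs
    · rw [neg_neg]
    · rw [neg_zero]
  · rw [KMEM_rr, KMEM_rr]
    have hu : u.val < 126 := u.2
    have hs : s.val < 126 := s.2
    have h1 := cf_opp hr (s := s.val) (u := 125 - u.val) hs (by omega)
    rw [show 125 - (125 - u.val) = u.val by omega] at h1
    rw [h1, Int.cast_neg]

theorem KM_QM {r : ℕ} (hr : r < 126) : (QM F r)ᵀ * KM F = KM F * QM F r := by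
  have h0 : (QM F r)ᵀ * KM F = (KM F * QM F r)ᵀ := by rw [Matrix.transpose_mul, KM_symm]
  rw [h0]
  have hl : ∀ (i : Fin chevE7.rank) (b : chevE7.Idx), (KM F * QM F r) (Sum.inl i) b = 0 := by
    intro i b
    rw [Matrix.mul_apply, Fintype.sum_sum_type]
    rcases b with j | s <;>
    simp only [KM_lr, QM_ll, QM_lr, mul_zero, zero_mul, Finset.sum_const_zero, add_zero]
  have hr' : ∀ (u : Fin chevE7.nroots) (j : Fin chevE7.rank), (KM F * QM F r) (Sum.inr u) (Sum.inl j) = 0 := by
    intro u j
    rw [Matrix.mul_apply, Fintype.sum_sum_type]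
    simp only [KM_rl, QM_rl, zero_mul, mul_zero, Finset.sum_const_zero, add_zero]
  have hrr : ∀ u s : Fin chevE7.nroots, (KM F * QM F r) (Sum.inr u) (Sum.inr s) =
      if s.val = 125 - r then (if u.val = 125 - r then -1 else 0) else 0 := by
    intro u s
    rw [Matrix.mul_apply, Fintype.sum_sum_type]
    simp only [KM_rl, zero_mul, Finset.sum_const_zero, zero_add]
    rw [sum_KM u fun w => QM F r (Sum.inr w) (Sum.inr s), QM_rr, ng_val]
    have hu : u.val < 126 := u.2
    have : (125 - u.val = r) ↔ (u.val = 125 - r) := by omega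
    simp only [this]
  ext a b
  rw [Matrix.transpose_apply]
  rcases a with i | u <;> rcases b with j | s
  · rw [hl, hl]
  · rw [hl, hr']
  · rw [hl, hr']
  · rw [hrr, hrr]
    split_ifs <;> rfl

theorem adM_KM (g : Gh F) : (adM F g)ᵀ * KM F * adM F g = KM F := by
  let S : Subgroup (Gh F) :=
    { carrier := {g | (adM F g)ᵀ * KM F * adM F g = KM F}
      one_mem' := by
        show (adM F 1)ᵀ * KM F * adM F 1 = KM F
        rw [map_one, Matrix.transpose_one, one_mul, mul_one]
      mul_mem' := by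
        intro a b ha hb
        change (adM F a)ᵀ * KM F * adM F a = KM F at ha
        change (adM F b)ᵀ * KM F * adM F b = KM F at hb
        show (adM F (a * b))ᵀ * KM F * adM F (a * b) = KM F
        rw [map_mul, Matrix.transpose_mul]
        calc (adM F b)ᵀ * (adM F a)ᵀ * KM F * (adM F a * adM F b) =
            (adM F b)ᵀ * ((adM F a)ᵀ * KM F * adM F a) * adM F b := by simp only [mul_assoc]
          _ = _ := by rw [ha, hb]
      inv_mem' := by
        intro a ha
        change (adM F a)ᵀ * KM F * adM F a = KM F at ha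
        show (adM F a⁻¹)ᵀ * KM F * adM F a⁻¹ = KM F
        have h1 : adM F a * adM F a⁻¹ = 1 := by rw [← map_mul, mul_inv_cancel, map_one]
        have h2 : (adM F a⁻¹)ᵀ * (adM F a)ᵀ = 1 := by rw [← Matrix.transpose_mul, h1, Matrix.transpose_one]
        calc (adM F a⁻¹)ᵀ * KM F * adM F a⁻¹ = (adM F a⁻¹)ᵀ * ((adM F a)ᵀ * KM F * adM F a) * adM F a⁻¹ := by rw [ha]
          _ = ((adM F a⁻¹)ᵀ * (adM F a)ᵀ) * KM F * (adM F a * adM F a⁻¹) := by simp only [mul_assoc]
          _ = _ := by rw [h1, h2, one_mul, mul_one] }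
  refine mem_of_gens (S := S) (fun r hr t => ?_) g
  show (adM F (xs F r t))ᵀ * KM F * adM F (xs F r t) = KM F
  rw [adM_xs hr]
  have h1 : (1 + t • EM F r + t ^ 2 • QM F r)ᵀ * KM F = KM F * (1 - t • EM F r + t ^ 2 • QM F r) := by
    rw [Matrix.transpose_add, Matrix.transpose_add, Matrix.transpose_one, Matrix.transpose_smul, Matrix.transpose_smul,
      add_mul, add_mul, one_mul, Matrix.smul_mul, Matrix.smul_mul, KM_EM hr, KM_QM hr, mul_add, mul_sub, mul_one,
      Matrix.mul_smul, Matrix.mul_smul, smul_neg, sub_eq_add_neg]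
  have h2 : (1 - t • EM F r + t ^ 2 • QM F r) * (1 + t • EM F r + t ^ 2 • QM F r) = 1 := by
    have e1 := EM_EM (F := F) hr
    have e2 := EM_QM (F := F) hr
    have e3 := QM_EM (F := F) hr
    have e4 := QM_QM (F := F) hr
    simp only [add_mul, sub_mul, mul_add, one_mul, mul_one, Matrix.smul_mul, Matrix.mul_smul, e1, e2, e3, e4, smul_zero,
      smul_smul, add_zero, sub_zero]
    module
  rw [h1, mul_assoc, h2, mul_one]

variable (F)

/-- **the invariant symmetric form** -/
noncomputable def kf : (chevE7.Idx → F) →ₗ[F] (chevE7.Idx → F) →ₗ[F] F :=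
  LinearMap.mk₂ F (fun x y => x ⬝ᵥ KM F *ᵥ y) (fun x x' y => add_dotProduct _ _ _) (fun c x y => smul_dotProduct _ _ _)
    (fun x y y' => by rw [Matrix.mulVec_add, dotProduct_add]) (fun c x y => by rw [Matrix.mulVec_smul, dotProduct_smul])

variable {F}

theorem kf_apply (x y : chevE7.Idx → F) : kf F x y = x ⬝ᵥ KM F *ᵥ y := rfl

/-- the form is invariant -/
theorem kf_L (g : Gh F) (x y : chevE7.Idx → F) : kf F (L F g x) (L F g y) = kf F x y := by
  rw [kf_apply, kf_apply, L_apply, L_apply]
  have h := adM_KM g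
  conv_rhs => rw [← h]
  rw [← Matrix.mulVec_mulVec, ← Matrix.mulVec_mulVec, Matrix.dotProduct_mulVec x (adM F g)ᵀ, Matrix.vecMul_transpose]
  rfl

/-- the form is symmetric -/
theorem kf_comm (x y : chevE7.Idx → F) : kf F x y = kf F y x := by
  rw [kf_apply, kf_apply, Matrix.dotProduct_mulVec, ← Matrix.mulVec_transpose, KM_symm, dotProduct_comm]

theorem KM_mulVec_inr (y : chevE7.Idx → F) (u : Fin chevE7.nroots) : (KM F *ᵥ y) (Sum.inr u) = y (Sum.inr (ng u)) := by
  rw [Matrix.mulVec, dotProduct, Fintype.sum_sum_type]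
  simp only [KM_rl, zero_mul, Finset.sum_const_zero, zero_add]
  exact sum_KM u fun w => y (Sum.inr w)

theorem KM_mulVec_inl (y : chevE7.Idx → F) (i : Fin chevE7.rank) : (KM F *ᵥ y) (Sum.inl i) =
    ∑ j : Fin chevE7.rank, (car chevE7 i.val (chevE7.simple j.val) : F) * y (Sum.inl j) := by
  rw [Matrix.mulVec, dotProduct, Fintype.sum_sum_type]
  simp only [KM_lr, zero_mul, Finset.sum_const_zero, add_zero, KM_ll]

/-- twice the inverse of the Cartan matrix -/
def iC : List (List ℤ) := [[4, 4, 6, 8, 6, 4, 2], [4, 7, 8, 12, 9, 6, 3], [6, 8, 12, 16, 12, 8, 4],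
  [8, 12, 16, 24, 18, 12, 6], [6, 9, 12, 18, 15, 10, 5], [4, 6, 8, 12, 10, 8, 4], [2, 3, 4, 6, 5, 4, 3]]

theorem iC_mul : ∀ k < 7, ∀ i < 7, ∑ j : Fin 7, (iC.getD k []).getD j.val 0 * car chevE7 j.val (chevE7.simple i) =
    if k = i then 2 else 0 := by (delta Cfsg.Agent.ChevalleyStructure.Columns.car; (try set_option simprocs false in simp -zeta only [Cfsg.Agent.ChevFast.E7.cartanR]); decide +kernel)

/-- the Cartan matrix is invertible in odd characteristic -/
theorem cartan_inj (h2 : (2 : F) ≠ 0) {y : Fin chevE7.rank → F}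
    (h : ∀ i : Fin chevE7.rank, ∑ j : Fin chevE7.rank, (car chevE7 i.val (chevE7.simple j.val) : F) * y j = 0) : y = 0 := by
  funext k
  have h1 : ∑ i : Fin chevE7.rank, (((iC.getD k.val []).getD i.val 0 : ℤ) : F) *
      (∑ j : Fin chevE7.rank, (car chevE7 i.val (chevE7.simple j.val) : F) * y j) = 0 :=
    Finset.sum_eq_zero fun i _ => by rw [h, mul_zero]
  have h3 : ∑ i : Fin chevE7.rank, (((iC.getD k.val []).getD i.val 0 : ℤ) : F) *
      (∑ j : Fin chevE7.rank, (car chevE7 i.val (chevE7.simple j.val) : F) * y j) =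
      ∑ j : Fin chevE7.rank, ((∑ i : Fin chevE7.rank, (iC.getD k.val []).getD i.val 0 *
        car chevE7 i.val (chevE7.simple j.val) : ℤ) : F) * y j := by
    push_cast
    simp only [Finset.mul_sum, Finset.sum_mul]
    rw [Finset.sum_comm]
    exact Finset.sum_congr rfl fun i _ => Finset.sum_congr rfl fun j _ => (mul_assoc _ _ _).symm
  rw [h3] at h1
  have h4 : ∀ j : Fin chevE7.rank, (∑ i : Fin chevE7.rank, (iC.getD k.val []).getD i.val 0 *
        car chevE7 i.val (chevE7.simple j.val) : ℤ) = if k = j then 2 else 0 := by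
    intro j
    have h5 := iC_mul k.val k.2 j.val j.2
    have h6 : (k.val = j.val) ↔ (k = j) := ⟨fun h => Fin.ext h, fun h => congrArg Fin.val h⟩
    simp only [h6] at h5
    exact h5
  simp only [h4] at h1
  rw [Finset.sum_eq_single k] at h1
  · rw [if_pos rfl] at h1
    push_cast at h1
    exact (mul_eq_zero.1 h1).resolve_left h2
  · intro j _ hj
    rw [if_neg (Ne.symm hj), Int.cast_zero, zero_mul]
  · intro h; exact absurd (Finset.mem_univ _) h

/-- the form is nondegenerate in odd characteristic -/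
theorem kf_nondeg (h2 : (2 : F) ≠ 0) {y : chevE7.Idx → F} (h : ∀ x, kf F x y = 0) : y = 0 := by
  have h1 : ∀ a, (KM F *ᵥ y) a = 0 := by
    intro a
    have h3 := h (Pi.single a 1)
    rwa [kf_apply, single_one_dotProduct] at h3
  funext a
  rcases a with i | u
  · have h3 := cartan_inj h2 (y := fun j => y (Sum.inl j)) (fun i => by
      rw [← KM_mulVec_inl]; exact h1 _)
    exact congrFun h3 i
  · have h3 := h1 (Sum.inr (ng u))
    rw [KM_mulVec_inr] at h3
    have h4 : ng (ng u) = u := Fin.ext (by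
      have hu : u.val < 126 := u.2
      rw [ng_val, ng_val]; omega)
    rwa [h4] at h3

/-! ### irreducibility -/

/-- the basis of root vectors -/
def er (F : Type u) [Field F] (s : Fin chevE7.nroots) : chevE7.Idx → F := Pi.single (Sum.inr s) 1

/-- the basis of the Cartan subalgebra -/
def eh (F : Type u) [Field F] (i : Fin chevE7.rank) : chevE7.Idx → F := Pi.single (Sum.inl i) 1

theorem L_xs {r : ℕ} (hr : r < 126) (t : F) (x : chevE7.Idx → F) :
    L F (xs F r t) x = x + t • (EM F r *ᵥ x) + t ^ 2 • (QM F r *ᵥ x) := by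
  rw [L_apply]
  change adM F (xs F r t) *ᵥ x = _
  rw [adM_xs hr, Matrix.add_mulVec, Matrix.add_mulVec, Matrix.one_mulVec, Matrix.smul_mulVec, Matrix.smul_mulVec]

theorem QM_mulVec {r : Fin chevE7.nroots} (x : chevE7.Idx → F) :
    QM F r.val *ᵥ x = (-(x (Sum.inr (ng r)))) • er F r := by
  funext a
  rw [Matrix.mulVec, dotProduct, Fintype.sum_sum_type, Pi.smul_apply, smul_eq_mul, er]
  rcases a with i | u
  · simp only [QM_ll, QM_lr, zero_mul, Finset.sum_const_zero, add_zero]
    rw [Pi.single_eq_of_ne (by simp), mul_zero]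
  · simp only [QM_rl, zero_mul, Finset.sum_const_zero, zero_add]
    rw [Finset.sum_eq_single (ng r)]
    · rw [QM_rr, if_pos (ng_val r)]
      by_cases h : u = r
      · subst h
        rw [if_pos rfl, Pi.single_eq_same]; ring
      · rw [if_neg (fun h' => h (Fin.ext h')), Pi.single_eq_of_ne (by simp [h]), zero_mul, mul_zero]
    · intro s _ hs
      rw [QM_rr, if_neg (show ¬ s.val = 125 - r.val from fun h => hs (Fin.ext h)), zero_mul]
    · intro h; exact absurd (Finset.mem_univ _) h

theorem EM_er_neg {r : ℕ} (hr : r < 126) (s : Fin chevE7.nroots) (hs : s.val = 125 - r) :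
    EM F r *ᵥ er F s = ∑ i : Fin chevE7.rank, (cor chevE7 r i.val : F) • eh F i := by
  rw [er, Matrix.mulVec_single_one]
  funext a
  rw [Matrix.col_apply, Finset.sum_apply]
  simp only [Pi.smul_apply, smul_eq_mul, eh]
  rcases a with i | u
  · rw [EM_lr, if_pos hs, Finset.sum_eq_single i]
    · rw [Pi.single_eq_same, mul_one]
    · intro j _ hj
      rw [Pi.single_eq_of_ne (by simp [Ne.symm hj]), mul_zero]
    · intro h; exact absurd (Finset.mem_univ _) h
  · rw [EM_rr, hs, cf_nil (F7_neg hr), Int.cast_zero]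
    exact (Finset.sum_eq_zero fun i _ => by rw [Pi.single_eq_of_ne (by simp), mul_zero]).symm

theorem EM_er {r : ℕ} (s u : Fin chevE7.nroots) {c : ℤ} (h : F7 r s.val = [(u.val, c)]) (hr : r < 126) :
    EM F r *ᵥ er F s = (c : F) • er F u := by
  have hs : s.val ≠ 125 - r := by
    intro h1
    rw [h1, F7_neg hr] at h
    exact absurd h (by simp)
  rw [er, Matrix.mulVec_single_one]
  funext a
  rw [Matrix.col_apply, Pi.smul_apply, smul_eq_mul, er]
  rcases a with i | w
  · rw [EM_lr, if_neg hs, Pi.single_eq_of_ne (by simp), mul_zero]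
  · rw [EM_rr, cf_cons h]
    by_cases hw : w = u
    · subst hw
      rw [if_pos rfl, Pi.single_eq_same, mul_one]
    · rw [if_neg (fun h' => hw (Fin.ext h'.symm)), Pi.single_eq_of_ne (by simp [hw]), Int.cast_zero, mul_zero]

def chkUp7 (r : ℕ) : Bool := (List.range 7).any fun i => match F7 (chevE7.simple i) r with
  | [x] => decide (r < x.1) && decide (x.1 < 126) && decide (F7 (125 - chevE7.simple i) x.1 = [(r, x.2)])
  | _ => false

theorem chkUp7_true : ∀ r < 125, 63 ≤ r → chkUp7 r = true := by decide +kernel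

theorem up7 : ∀ r < 125, 63 ≤ r → ∃ i < 7, ∃ u < 126, ∃ c : ℤ, r < u ∧ F7 (chevE7.simple i) r = [(u, c)] ∧
    F7 (125 - chevE7.simple i) u = [(r, c)] := by
  intro r hr h63
  obtain ⟨i, hi, h⟩ := List.any_eq_true.1 (chkUp7_true r hr h63)
  rcases hl : F7 (chevE7.simple i) r with _ | ⟨x, _ | ⟨y, ys⟩⟩
  · rw [hl] at h; exact Bool.noConfusion h
  · rw [hl] at h
    simp only [Bool.and_eq_true, decide_eq_true_eq] at h
    exact ⟨i, List.mem_range.1 hi, x.1, h.1.2, x.2, h.1.1, hl, h.2⟩
  · rw [hl] at h; exact Bool.noConfusion h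

theorem simple7_lt : ∀ i < 7, chevE7.simple i < 126 := by decide +kernel

theorem cor_simple : ∀ i < 7, ∀ j < 7, cor chevE7 (chevE7.simple i) j = if j = i then 1 else 0 := by decide +kernel

section irr
variable (h2 : (2 : F) ≠ 0) {W : Submodule F (chevE7.Idx → F)} (hW : ∀ g : Gh F, ∀ w ∈ W, L F g w ∈ W)

include h2 hW

theorem EM_mem {r : ℕ} (hr : r < 126) {w : chevE7.Idx → F} (hw : w ∈ W) : EM F r *ᵥ w ∈ W := by
  have h1 := sub_mem (hW (xs F r 1) w hw) (hW (xs F r (-1)) w hw)
  rw [L_xs hr, L_xs hr] at h1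
  have h3 : w + (1 : F) • (EM F r *ᵥ w) + (1 : F) ^ 2 • (QM F r *ᵥ w) -
      (w + (-1 : F) • (EM F r *ᵥ w) + (-1 : F) ^ 2 • (QM F r *ᵥ w)) = (2 : F) • (EM F r *ᵥ w) := by module
  rw [h3] at h1
  exact (Submodule.smul_mem_iff _ h2).1 h1

theorem QM_mem {r : ℕ} (hr : r < 126) {w : chevE7.Idx → F} (hw : w ∈ W) : QM F r *ᵥ w ∈ W := by
  have h1 := sub_mem (add_mem (hW (xs F r 1) w hw) (hW (xs F r (-1)) w hw)) (W.smul_mem 2 hw)
  rw [L_xs hr, L_xs hr] at h1
  have h3 : w + (1 : F) • (EM F r *ᵥ w) + (1 : F) ^ 2 • (QM F r *ᵥ w) +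
      (w + (-1 : F) • (EM F r *ᵥ w) + (-1 : F) ^ 2 • (QM F r *ᵥ w)) - (2 : F) • w = (2 : F) • (QM F r *ᵥ w) := by module
  rw [h3] at h1
  exact (Submodule.smul_mem_iff _ h2).1 h1

theorem er_of_coord {w : chevE7.Idx → F} (hw : w ∈ W) {r : Fin chevE7.nroots} (h : w (Sum.inr (ng r)) ≠ 0) :
    er F r ∈ W := by
  have h1 := QM_mem h2 hW (r := r.val) r.2 hw
  rw [QM_mulVec] at h1
  exact (Submodule.smul_mem_iff _ (neg_ne_zero.2 h)).1 h1

omit h2 hW in
theorem ng_ng (u : Fin chevE7.nroots) : ng (ng u) = u := Fin.ext (by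
  have hu : u.val < 126 := u.2
  rw [ng_val, ng_val]; omega)

theorem er_ng {r : Fin chevE7.nroots} (h : er F r ∈ W) : er F (ng r) ∈ W := by
  refine er_of_coord h2 hW h ?_
  rw [ng_ng, er, Pi.single_eq_same]
  exact one_ne_zero

theorem er_step {r : ℕ} (hr : r < 126) {s u : Fin chevE7.nroots} {c : ℤ} (h : F7 r s.val = [(u.val, c)])
    (hs : er F s ∈ W) : er F u ∈ W := by
  have h1 := EM_mem h2 hW hr hs
  rw [EM_er s u h hr] at h1
  have hc : (c : F) ≠ 0 := by
    rcases F7_cases hr s.val with h3 | ⟨u', c', h3, -, -, h4, -⟩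
    · rw [h] at h3; exact absurd h3 (by simp)
    · rw [h] at h3
      simp only [List.cons.injEq, Prod.mk.injEq, and_true] at h3
      rw [← h3.2] at h4
      exact cast_ne h4
  exact (Submodule.smul_mem_iff _ hc).1 h1

/-- the top root -/
theorem er_top {s : Fin chevE7.nroots} (hs : er F s ∈ W) : ∃ u : Fin chevE7.nroots, u.val = 125 ∧ er F u ∈ W := by
  have key : ∀ k : ℕ, ∀ s : Fin chevE7.nroots, 63 ≤ s.val → 125 ≤ s.val + k → er F s ∈ W →
      ∃ u : Fin chevE7.nroots, u.val = 125 ∧ er F u ∈ W := by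
    intro k
    induction k with
    | zero =>
      intro s _ hk h
      have : s.val < 126 := s.2
      exact ⟨s, by omega, h⟩
    | succ k ih =>
      intro s h63 hk h
      have hs : s.val < 126 := s.2
      by_cases h125 : s.val = 125
      · exact ⟨s, h125, h⟩
      obtain ⟨i, hi, u, hu, c, h3, h4, -⟩ := up7 s.val (by omega) h63
      exact ih ⟨u, hu⟩ (by show 63 ≤ u; omega) (by show 125 ≤ u + k; omega)
        (er_step h2 hW (simple7_lt i hi) (s := s) (u := ⟨u, hu⟩) h4 h)
  by_cases h63 : 63 ≤ s.val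
  · exact key 125 s h63 (by omega) hs
  · exact key 125 (ng s) (by rw [ng_val]; omega) (by omega) (er_ng h2 hW hs)

theorem er_all {s : Fin chevE7.nroots} (hs : er F s ∈ W) (u : Fin chevE7.nroots) : er F u ∈ W := by
  obtain ⟨v, hv, hvW⟩ := er_top h2 hW hs
  have key : ∀ k : ℕ, ∀ u : Fin chevE7.nroots, 63 ≤ u.val → 125 ≤ u.val + k → er F u ∈ W := by
    intro k
    induction k with
    | zero =>
      intro u _ hk
      have hu : u.val < 126 := u.2
      have : u = v := Fin.ext (by omega)
      rw [this]; exact hvW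
    | succ k ih =>
      intro u h63 hk
      have hu : u.val < 126 := u.2
      by_cases h125 : u.val = 125
      · have : u = v := Fin.ext (by omega)
        rw [this]; exact hvW
      obtain ⟨i, hi, w, hw, c, h3, -, h4⟩ := up7 u.val (by omega) h63
      exact er_step h2 hW (r := 125 - chevE7.simple i) (by omega) (s := ⟨w, hw⟩) (u := u) h4
        (ih ⟨w, hw⟩ (by show 63 ≤ w; omega) (by show 125 ≤ w + k; omega))
  by_cases h63 : 63 ≤ u.val
  · exact key 125 u h63 (by omega)
  · have h3 := key 125 (ng u) (by rw [ng_val]; omega) (by omega)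
    have h4 := er_ng h2 hW h3
    rwa [ng_ng] at h4

/-- **the adjoint module is irreducible in odd characteristic** -/
theorem irrL_aux (h0 : W ≠ ⊥) : W = ⊤ := by
  obtain ⟨w, hw, hw0⟩ := Submodule.exists_mem_ne_zero_of_ne_bot h0
  obtain ⟨s, hs⟩ : ∃ s, er F s ∈ W := by
    by_cases h : ∃ u : Fin chevE7.nroots, w (Sum.inr u) ≠ 0
    · obtain ⟨u, hu⟩ := h
      exact ⟨ng u, er_of_coord h2 hW hw (by rw [ng_ng]; exact hu)⟩
    · push Not at h
      -- some simple root does not vanish
      obtain ⟨i, hi⟩ : ∃ i : Fin chevE7.rank, ∑ j : Fin chevE7.rank,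
          (car chevE7 i.val (chevE7.simple j.val) : F) * w (Sum.inl j) ≠ 0 := by
        by_contra hcon
        push Not at hcon
        apply hw0
        have h3 := cartan_inj h2 (y := fun j => w (Sum.inl j)) hcon
        funext a
        rcases a with j | u
        · exact congrFun h3 j
        · exact h u
      have hlt := simple7_lt i.val i.2
      have h3 := EM_mem h2 hW hlt hw
      have h4 : EM F (chevE7.simple i.val) *ᵥ w =
          (-∑ j : Fin chevE7.rank, (car chevE7 i.val (chevE7.simple j.val) : F) * w (Sum.inl j)) •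
            er F ⟨chevE7.simple i.val, hlt⟩ := by
        funext a
        rw [Matrix.mulVec, dotProduct, Fintype.sum_sum_type, Pi.smul_apply, smul_eq_mul, er]
        simp only [h, mul_zero, Finset.sum_const_zero, add_zero]
        rcases a with j | u
        · simp only [EM_ll, zero_mul, Finset.sum_const_zero]
          rw [Pi.single_eq_of_ne (by simp), mul_zero]
        · simp only [EM_rl]
          by_cases hu : u = ⟨chevE7.simple i.val, hlt⟩
          · subst hu
            rw [Pi.single_eq_same, mul_one, ← Finset.sum_neg_distrib]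
            refine Finset.sum_congr rfl fun j _ => ?_
            rw [if_pos rfl, neg_mul, car_symm j.val j.2 i.val i.2]
          · rw [Pi.single_eq_of_ne (by simp [hu]), mul_zero]
            refine Finset.sum_eq_zero fun j _ => ?_
            rw [if_neg (fun h' => hu (Fin.ext h')), zero_mul]
      rw [h4] at h3
      exact ⟨_, (Submodule.smul_mem_iff _ (neg_ne_zero.2 hi)).1 h3⟩
  have hall := er_all h2 hW hs
  have hh : ∀ i : Fin chevE7.rank, eh F i ∈ W := by
    intro i
    have hlt := simple7_lt i.val i.2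
    have h3 := EM_mem h2 hW hlt (hall (ng ⟨chevE7.simple i.val, hlt⟩))
    rw [EM_er_neg hlt _ (ng_val _), Finset.sum_eq_single i] at h3
    · rw [cor_simple i.val i.2 i.val i.2, if_pos rfl, Int.cast_one, one_smul] at h3
      exact h3
    · intro j _ hj
      rw [cor_simple i.val i.2 j.val j.2, if_neg (fun h => hj (Fin.ext h)), Int.cast_zero, zero_smul]
    · intro h; exact absurd (Finset.mem_univ _) h
  rw [eq_top_iff]
  intro v _
  have hv : v = ∑ j, v j • (Pi.single j (1 : F) : chevE7.Idx → F) := by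
    ext k
    simp [Finset.sum_apply, Pi.single_apply]
  rw [hv]
  refine Submodule.sum_mem _ fun j _ => W.smul_mem _ ?_
  rcases j with i | r
  · exact hh i
  · exact hall r

end irr

end

end Cfsg.Agent.R2.T1

private theorem dce_e7238da1a113 : _root_.True := by
  try have : _root_.True := by simp only [_root_.Cfsg.Agent.R2.T1.eh.eq_1]
  try have : _root_.True := by simp only [_root_.Cfsg.Agent.R2.T1.er.eq_1]
  exact _root_.True.intro
end
end
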