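import Cfsg.Agent.R2.T1.Inf.Dia
import Cfsg.Agent.H16.E6.Cov
import Cfsg.Agent.Lib.AltCarmichael
import Cfsg.Agent.H952.F4.Scott_m3
import Mathlib
import Cfsg.Agent.H944.E7Two
import Cfsg.Agent.R2.T1.Five.Lin_m3
import Cfsg.Agent.H944.E6Tab
import Cfsg.Agent.FastGrp
import Cfsg.Agent.Prune
set_option linter.all false

section
prune_inst 0x7fbceff9abb88ddfffff7e7ffefddffdf8f0bfffe6dff9cb7fe8e1ff2bdf6b008be5fb870fea10ff0ed7e01c10b87853fb7ecfffeb6bdc7ffffd5ff41ffbee5fe5feb50c71d4bc3e0fb86fff8bf0778e7f3fffffffffffffffffffffffffffbeffffffffffff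

-- part: R2/T1/Inf/Cov
section
prune_inst 0x411006544472200000018001020002050f40000920060000150e00840014ef7402002890154a00912003a26442038004813000040421000000a000400011801a010821002b0080104600007002084000000000000000000000000000000041000000000000
set_option linter.all false
open scoped Cfsg.Agent.FastGrp

/-!
# S5771, S5929: the preimage of an alternating group in the simply connected group (helper11)

* `exists_lift` : lift or cover;
* `Cover.ker_cases`, `perfect` : the structure of the preimage in the cover case;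
* `Cover.sq` : in the cover case the lifts of double transpositions square to `-1`;
* `odd_lift` : unique lifts of odd order.
-/

set_option autoImplicit false

namespace Cfsg.Agent.R2.T1

open Cfsg Cfsg.Lie Module Subgroup Equiv
open Cfsg.Agent.H943.E7V.Block (D1 rho)
open Cfsg.Agent.H952.F4 (ev es matRep MaxAlt)

variable {F : Type*} [Field F]

theorem ker_comm {z : Gh F} (hz : ad F z = 1) (g : Gh F) : g * z = z * g := by
  have h : z ∈ Subgroup.center (Gh F) := by rw [← ker_ad, MonoidHom.mem_ker]; exact hz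
  exact Subgroup.mem_center_iff.mp h g

theorem ker_sq {z : Gh F} (hz : ad F z = 1) : z * z = 1 := by
  apply faithful
  refine LinearMap.ext fun v => ?_
  rw [V_mul]
  rcases ad_eq_one_iff.1 hz with h | h
  · rw [h]; rfl
  · rw [neg_apply h, neg_apply h, _root_.neg_neg]; rfl

/-- the kernel of `ad` has at most two elements -/
theorem ker_cases {z w : Gh F} (hz : V F z = -1) (hw : ad F w = 1) : w = 1 ∨ w = z := by
  rcases ad_eq_one_iff.1 hw with h | h
  · exact Or.inl (faithful h)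
  · exact Or.inr (V_injective (h.trans hz.symm))

section cov
variable {A : Type*} [Group A] {φ : A →* ↥(chevE7.group F)}

theorem Cover.ker_le (hc : Cover φ) {w : Gh F} (hw : ad F w = 1) :
    w ∈ (⁅(φ.range.comap (ad F)), (φ.range.comap (ad F))⁆ : Subgroup (Gh F)) := by
  obtain ⟨z, -, hz, -, hzm⟩ := hc
  rcases ker_cases (neg_of hz) hw with rfl | rfl
  · exact one_mem _
  · exact hzm

theorem Cover.perfect_aux (hA : commutator A = ⊤) (hc : Cover φ) :
    ⁅(φ.range.comap (ad F)), (φ.range.comap (ad F))⁆ = φ.range.comap (ad F) := by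
  apply le_antisymm
  · refine Subgroup.commutator_le.mpr fun a ha b hb => ?_
    rw [commutatorElement_def]
    exact mul_mem (mul_mem (mul_mem ha hb) (inv_mem ha)) (inv_mem hb)
  · intro g hg
    have h1 : (⁅φ.range.comap (ad F), φ.range.comap (ad F)⁆).map (ad F) = φ.range := by
      rw [Subgroup.map_commutator, Subgroup.map_comap_eq_self_of_surjective ad_surjective, MonoidHom.range_eq_map,
        ← Subgroup.map_commutator]
      exact congrArg (Subgroup.map φ) hA
    have h2 : ad F g ∈ (⁅φ.range.comap (ad F), φ.range.comap (ad F)⁆).map (ad F) := by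
      rw [h1]; exact hg
    obtain ⟨k, hk, hkg⟩ := h2
    have h3 := hc.ker_le (w := k⁻¹ * g) (by rw [map_mul, map_inv, hkg, inv_mul_cancel])
    have h4 := mul_mem hk h3
    rwa [mul_inv_cancel_left] at h4

/-- lifts of odd order -/
theorem odd_lift {g : ↥(chevE7.group F)} {k : ℕ} (hk : Odd k) (hg : g ^ k = 1) :
    ∃ x : Gh F, ad F x = g ∧ x ^ k = 1 := by
  obtain ⟨y, hy⟩ := ad_surjective g
  have h1 : ad F (y ^ k) = 1 := by rw [map_pow, hy, hg]
  have h2 : (y ^ k) * (y ^ k) = 1 := ker_sq h1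
  have h3 : Commute y (y ^ k) := (Commute.refl y).pow_right k
  obtain ⟨m, hm⟩ := hk
  refine ⟨y * y ^ k, by rw [map_mul, hy, h1, mul_one], ?_⟩
  rw [h3.mul_pow, hm]
  rw [hm] at h2
  rw [pow_succ (y ^ (2 * m + 1)), pow_mul (y ^ (2 * m + 1)) 2 m, pow_two, h2, one_pow, one_mul, h2]

/-- lifts of odd order are unique -/
theorem odd_unique {x y : Gh F} {k : ℕ} (hk : Odd k) (h : ad F x = ad F y) (hx : x ^ k = 1) (hy : y ^ k = 1) :
    x = y := by
  have h1 : ad F (x⁻¹ * y) = 1 := by rw [map_mul, map_inv, h, inv_mul_cancel]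
  have h2 := ker_sq h1
  set z := x⁻¹ * y with hz
  have h3 : y = x * z := by rw [hz, mul_inv_cancel_left]
  have h4 : Commute x z := ker_comm h1 x
  obtain ⟨m, hm⟩ := hk
  have h5 : z ^ k = 1 := by
    have h6 : (x * z) ^ k = 1 := by rw [← h3]; exact hy
    rwa [h4.mul_pow, hx, one_mul] at h6
  rw [hm, pow_succ, pow_mul, pow_two, h2, one_pow, one_mul] at h5
  rw [h3, h5, mul_one]

end cov

theorem alt_perfect {n : ℕ} (hn : 5 ≤ n) : _root_.commutator ↥(alternatingGroup (Fin n)) = ⊤ :=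
  commutator_alternatingGroup_eq_top (by rw [Nat.card_eq_fintype_card, Fintype.card_fin]; exact hn)

variable {n : ℕ} {φ : ↥(alternatingGroup (Fin n)) →* ↥(chevE7.group F)}

/-- **lift or cover** -/
theorem exists_lift (hn : 5 ≤ n) (_hφ : Function.Injective φ) :
    (∃ ψ : ↥(alternatingGroup (Fin n)) →* Gh F, Lift φ ψ) ∨ ((2 : F) ≠ 0 ∧ Cover φ) := by
  by_cases hD : ∀ g ∈ ⁅φ.range.comap (ad F), φ.range.comap (ad F)⁆, ad F g = 1 → g = 1
  · exact Or.inl (Cfsg.Agent.H163.E6.Cov.lift_of (ad F) φ ad_surjective (alt_perfect hn) hD)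
  right
  push Not at hD
  obtain ⟨z, hzD, hz1, hz⟩ := hD
  rcases ad_eq_one_iff.1 hz1 with h | h
  · exact absurd (faithful h) hz
  refine ⟨?_, z, hz, neg_apply h, hz1, hzD⟩
  intro h2
  apply hz
  apply faithful
  refine LinearMap.ext fun v => ?_
  rw [neg_apply h]
  funext a
  change - v a = v a
  linear_combination (-v a) * h2

theorem Cover.perfect (hn : 5 ≤ n) (hc : Cover φ) :
    ⁅(φ.range.comap (ad F)), (φ.range.comap (ad F))⁆ = φ.range.comap (ad F) :=
  hc.perfect_aux (alt_perfect hn)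

section sq
open Cfsg.Agent.Lib.AltCarmichael
open scoped commutatorElement

theorem ct_swaps {α : Type*} [Fintype α] [DecidableEq α] {i j a b : α} (hij : i ≠ j) (hib : i ≠ b)
    (hia : i ≠ a) (hja : j ≠ a) (hjb : j ≠ b) (hab : a ≠ b) : (swap i a * swap j b).cycleType = {2, 2} := by
  have h1 : Perm.Disjoint (swap i a) (swap j b) := by
    intro x
    by_cases hx : x = i ∨ x = a
    · right
      rcases hx with rfl | rfl
      · exact swap_apply_of_ne_of_ne hij hib
      · exact swap_apply_of_ne_of_ne hja.symm hab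
    · left
      push Not at hx
      exact swap_apply_of_ne_of_ne hx.1 hx.2
  have h2 : ∀ {x y : α}, x ≠ y → (swap x y).cycleType = {2} := by
    intro x y hxy
    rw [(Perm.isCycle_swap hxy).cycleType, Perm.card_support_swap hxy]
  rw [h1.cycleType_mul, h2 hia, h2 hjb]
  rfl

theorem cyc_mul {m i j : ℕ} (hi : i < m) (hj : j < m) (hij : i ≠ j) : (cyc m i * cyc m j).cycleType = {2, 2} := by
  have e1 := ofNat_ne (m := m) (i := i) (j := j) (by omega) (by omega) hij
  have e2 := ofNat_ne (m := m) (i := i) (j := m) (by omega) (by omega) (by omega)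
  have e3 := ofNat_ne (m := m) (i := i) (j := m + 1) (by omega) (by omega) (by omega)
  have e4 := ofNat_ne (m := m) (i := j) (j := m) (by omega) (by omega) (by omega)
  have e5 := ofNat_ne (m := m) (i := j) (j := m + 1) (by omega) (by omega) (by omega)
  have e6 := ofNat_ne (m := m) (i := m) (j := m + 1) (by omega) (by omega) (by omega)
  rw [cyc_def, cyc_def]
  set I := Fin.ofNat (m + 2) i
  set J := Fin.ofNat (m + 2) j
  set A := Fin.ofNat (m + 2) m
  set B := Fin.ofNat (m + 2) (m + 1)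
  have h2 : swap A B * swap J A * swap A B = swap J B := by
    have := swap_conj (a := B) (b := A) (c := J) e5.symm e4.symm
    rw [swap_comm B A, swap_comm A J, swap_comm B J] at this
    exact this
  have h3 : swap I A * swap A B * (swap J A * swap A B) = swap I A * swap J B := by
    rw [← h2]; simp only [mul_assoc]
  rw [h3]
  exact ct_swaps e1 e3 e2 e4 e5 e6

/-- the double transpositions form one class -/
theorem conj_dt (hn : 5 ≤ n) {a b : ↥(alternatingGroup (Fin n))} (ha : (a : Perm (Fin n)).cycleType = {2, 2})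
    (hb : (b : Perm (Fin n)).cycleType = {2, 2}) : ∃ c : ↥(alternatingGroup (Fin n)), c * a * c⁻¹ = b := by
  obtain ⟨m, rfl⟩ : ∃ m, n = m + 5 := ⟨n - 5, by omega⟩
  obtain ⟨p0, hp0⟩ : ∃ p : Fin (m + 5), p.val = 0 := ⟨⟨0, by omega⟩, rfl⟩
  obtain ⟨p1, hp1⟩ : ∃ p : Fin (m + 5), p.val = 1 := ⟨⟨1, by omega⟩, rfl⟩
  obtain ⟨p2, hp2⟩ : ∃ p : Fin (m + 5), p.val = 2 := ⟨⟨2, by omega⟩, rfl⟩
  obtain ⟨p3, hp3⟩ : ∃ p : Fin (m + 5), p.val = 3 := ⟨⟨3, by omega⟩, rfl⟩
  let e : Perm (Fin (m + 5)) := swap p0 p1 * swap p2 p3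
  have h01 : p0 ≠ p1 := fun h => by rw [h] at hp0; omega
  have h02 : p0 ≠ p2 := fun h => by rw [h] at hp0; omega
  have h03 : p0 ≠ p3 := fun h => by rw [h] at hp0; omega
  have h12 : p1 ≠ p2 := fun h => by rw [h] at hp1; omega
  have h13 : p1 ≠ p3 := fun h => by rw [h] at hp1; omega
  have h23 : p2 ≠ p3 := fun h => by rw [h] at hp2; omega
  have he : e.cycleType = {2, 2} := ct_swaps h02 h03 h01 h12.symm h23 h13
  have key : ∀ x : Perm (Fin (m + 5)), x.cycleType = {2, 2} →
      ∃ c : ↥(alternatingGroup (Fin (m + 5))), (c : Perm (Fin (m + 5))) * x * (c : Perm (Fin (m + 5)))⁻¹ = e := by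
    intro x hx
    obtain ⟨c, hc⟩ := isConj_iff.mp (Perm.isConj_iff_cycleType_eq.mpr (hx.trans he.symm))
    rcases Int.units_eq_one_or (Perm.sign c) with hs | hs
    · exact ⟨⟨c, Perm.mem_alternatingGroup.mpr hs⟩, hc⟩
    · refine ⟨⟨swap p0 p1 * c, Perm.mem_alternatingGroup.mpr (by rw [map_mul, hs, Perm.sign_swap h01]; rfl)⟩, ?_⟩
      change swap p0 p1 * c * x * (swap p0 p1 * c)⁻¹ = e
      have h1 : swap p0 p1 * c * x * (swap p0 p1 * c)⁻¹ = swap p0 p1 * (c * x * c⁻¹) * (swap p0 p1)⁻¹ := by group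
      rw [h1, hc]
      change swap p0 p1 * (swap p0 p1 * swap p2 p3) * (swap p0 p1)⁻¹ = swap p0 p1 * swap p2 p3
      rw [swap_inv, ← mul_assoc, swap_mul_self, one_mul]
      have h2 := swap_apply_apply (swap p0 p1) p2 p3
      rw [swap_apply_of_ne_of_ne h02.symm h12.symm, swap_apply_of_ne_of_ne h03.symm h13.symm, swap_inv] at h2
      nth_rewrite 2 [h2]
      rw [← mul_assoc, ← mul_assoc, swap_mul_self, one_mul]
  obtain ⟨c, hc⟩ := key _ ha
  obtain ⟨d, hd⟩ := key _ hb
  refine ⟨d⁻¹ * c, Subtype.ext ?_⟩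
  change (d : Perm (Fin (m + 5)))⁻¹ * c * a * ((d : Perm (Fin (m + 5)))⁻¹ * c)⁻¹ = b
  have h1 : (b : Perm (Fin (m + 5))) = (d : Perm (Fin (m + 5)))⁻¹ * (d * b * (d : Perm (Fin (m + 5)))⁻¹) * d := by group
  rw [h1, hd, ← hc]
  group

seal _root_.Equiv.swap in
/-- **in the cover case double transpositions lift to square roots of `-1`** -/
theorem Cover.sq (hn : 5 ≤ n) (hφ : Function.Injective φ) (hc : Cover φ) {a : ↥(alternatingGroup (Fin n))}
    (ha : (a : Perm (Fin n)).cycleType = {2, 2}) {x : Gh F} (hx : ad F x = φ a) : V F (x * x) = -1 := by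
  have ha2 : a * a = 1 := by
    apply Subtype.ext
    have h1 : orderOf (a : Perm (Fin n)) = 2 := by
      rw [← Perm.lcm_cycleType, ha]; rfl
    have h2 := pow_orderOf_eq_one (a : Perm (Fin n))
    rw [h1, pow_two] at h2
    exact h2
  have h1 : ad F (x * x) = 1 := by rw [map_mul, hx, ← map_mul, ha2, map_one]
  rcases ad_eq_one_iff.1 h1 with h | h
  swap
  · exact h
  exfalso
  have hxx : x * x = 1 := faithful h
  -- all lifts of double transpositions are involutions
  have hall : ∀ b : ↥(alternatingGroup (Fin n)), (b : Perm (Fin n)).cycleType = {2, 2} → ∀ y : Gh F, ad F y = φ b →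
      y * y = 1 := by
    intro b hb y hy
    obtain ⟨c, hcc⟩ := conj_dt hn ha hb
    obtain ⟨g, hg⟩ := ad_surjective (φ c)
    have h2 : ad F ((g * x * g⁻¹)⁻¹ * y) = 1 := by
      rw [map_mul, map_inv, map_mul, map_mul, map_inv, hg, hx, hy, ← hcc, map_mul, map_mul, map_inv, inv_mul_cancel]
    have h3 := ker_sq h2
    have h4 := ker_comm h2
    set z := (g * x * g⁻¹)⁻¹ * y with hz
    have h5 : y = g * x * g⁻¹ * z := by rw [hz, mul_inv_cancel_left]
    rw [h5]
    calc g * x * g⁻¹ * z * (g * x * g⁻¹ * z) = (g * x * g⁻¹) * ((z * (g * x * g⁻¹)) * z) := by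
          simp only [mul_assoc]
      _ = (g * x * g⁻¹) * (((g * x * g⁻¹) * z) * z) := by rw [← h4 (g * x * g⁻¹)]
      _ = g * (x * x) * g⁻¹ * (z * z) := by group
      _ = 1 := by rw [hxx, h3, mul_one, mul_one, mul_inv_cancel]
  obtain ⟨m, rfl⟩ : ∃ m, n = m + 2 := ⟨n - 2, by omega⟩
  have hrel := rel_cyc m
  -- the lifts of order 3
  have hex : ∀ i : ℕ, ∃ y : Gh F, y ^ 3 = 1 ∧ ∀ hi : i < m, ad F y = φ ⟨cyc m i, cyc_mem m i hi⟩ := by
    intro i
    by_cases hi : i < m
    · obtain ⟨y, hy, hy3⟩ := odd_lift (g := φ ⟨cyc m i, cyc_mem m i hi⟩) (k := 3) (by decide) (by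
        rw [← map_pow]
        have : (⟨cyc m i, cyc_mem m i hi⟩ : ↥(alternatingGroup (Fin (m + 2)))) ^ 3 = 1 :=
          Subtype.ext (hrel.cube i hi)
        rw [this, map_one])
      exact ⟨y, hy3, fun _ => hy⟩
    · exact ⟨1, one_pow 3, fun h => absurd h hi⟩
  choose y hy3 hy using hex
  have hR : _root_.Cfsg.Agent.Lib.AltCarmichael.Rel m y := by
    refine ⟨fun i _ => hy3 i, fun i hi j hj hij => ?_⟩
    rw [pow_two]
    refine hall (@HMul.hMul _ _ _ instHMul ⟨cyc m i, cyc_mem m i hi⟩ ⟨cyc m j, cyc_mem m j hj⟩) ((cyc_mul hi hj hij :)) _ ?_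
    rw [map_mul, hy i hi, hy j hj, map_mul]
  obtain ⟨f, hf⟩ := exists_hom (by omega) hR
  have hfφ : (ad F).comp f = φ := by
    have h2 := gen_cyc m (by omega)
    ext1 t
    obtain ⟨t, ht⟩ := t
    have ht' := ht
    rw [← h2, gen_def] at ht'
    have hle : Subgroup.closure {g | ∃ i < m, g = cyc m i} ≤ alternatingGroup (Fin (m + 2)) := by
      rw [← gen_def, h2]
    suffices h3 : ∀ t (ht : t ∈ Subgroup.closure {g | ∃ i < m, g = cyc m i}), (ad F).comp f ⟨t, hle ht⟩ = φ ⟨t, hle ht⟩ from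
      h3 t ht'
    intro t ht
    induction ht using Subgroup.closure_induction with
    | mem u hu =>
      obtain ⟨i, hi, rfl⟩ := hu
      rw [MonoidHom.comp_apply, hf i hi, hy i hi]
    | one =>
      have : (⟨1, hle (one_mem _)⟩ : ↥(alternatingGroup (Fin (m + 2)))) = 1 := rfl
      rw [this, map_one, map_one]
    | mul u v hu hv ihu ihv =>
      have : (⟨u * v, hle (mul_mem hu hv)⟩ : ↥(alternatingGroup (Fin (m + 2)))) = ⟨u, hle hu⟩ * ⟨v, hle hv⟩ := rfl
      rw [this, map_mul, map_mul, ihu, ihv]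
    | inv u hu ihu =>
      have : (⟨u⁻¹, hle (inv_mem hu)⟩ : ↥(alternatingGroup (Fin (m + 2)))) = (⟨u, hle hu⟩)⁻¹ := rfl
      rw [this, map_inv, map_inv, ihu]
  -- the preimage is the direct product of the image of `f` and the centre
  have hP : ∀ g ∈ φ.range.comap (ad F), ∃ a w, ad F w = 1 ∧ g = f a * w := by
    rintro g ⟨a, ha⟩
    refine ⟨a, (f a)⁻¹ * g, ?_, (mul_inv_cancel_left _ _).symm⟩
    rw [map_mul, map_inv, ← ha, ← hfφ, MonoidHom.comp_apply, inv_mul_cancel]
  have hD : ⁅φ.range.comap (ad F), φ.range.comap (ad F)⁆ ≤ f.range := by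
    refine Subgroup.commutator_le.mpr fun g hg h hh => ?_
    obtain ⟨a, w, hw, rfl⟩ := hP g hg
    obtain ⟨b, u, hu, rfl⟩ := hP h hh
    refine ⟨⁅a, b⁆, ?_⟩
    have c1 := ker_comm hw
    have c2 := ker_comm hu
    rw [map_commutatorElement, commutatorElement_def, commutatorElement_def]
    calc f a * f b * (f a)⁻¹ * (f b)⁻¹ = f a * f b * (f a)⁻¹ * (w * w⁻¹) * (f b)⁻¹ * (u * u⁻¹) := by
          rw [mul_inv_cancel, mul_inv_cancel, mul_one, mul_one]
      _ = (f a * f b * (f a)⁻¹ * w) * (w⁻¹ * (f b)⁻¹ * u) * u⁻¹ := by simp only [mul_assoc]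
      _ = (w * (f a * f b * (f a)⁻¹)) * (u * (w⁻¹ * (f b)⁻¹)) * u⁻¹ := by rw [c1, c2]
      _ = (w * f a) * f b * (f a)⁻¹ * u * w⁻¹ * (f b)⁻¹ * u⁻¹ := by simp only [mul_assoc]
      _ = (f a * w) * f b * ((f a)⁻¹ * u) * w⁻¹ * (f b)⁻¹ * u⁻¹ := by rw [← c1 (f a)]; simp only [mul_assoc]
      _ = (f a * w) * f b * (u * (f a)⁻¹) * w⁻¹ * (f b)⁻¹ * u⁻¹ := by rw [c2 (f a)⁻¹]
      _ = (f a * w) * (f b * u) * ((f a)⁻¹ * w⁻¹) * ((f b)⁻¹ * u⁻¹) := by simp only [mul_assoc]
      _ = (f a * w) * (f b * u) * (f a * w)⁻¹ * (f b * u)⁻¹ := by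
          have e1 : (f a)⁻¹ * w⁻¹ = (f a * w)⁻¹ := by rw [mul_inv_rev, ← mul_inv_rev, ← mul_inv_rev, c1]
          have e2 : (f b)⁻¹ * u⁻¹ = (f b * u)⁻¹ := by rw [← mul_inv_rev, c2]
          rw [e1, e2]
  obtain ⟨z, hz1, -, hz, hzm⟩ := hc
  obtain ⟨b, hb⟩ := hD hzm
  have h2 : φ b = 1 := by rw [← hfφ, MonoidHom.comp_apply, hb, hz]
  have h3 : b = 1 := hφ (by rw [h2, map_one])
  exact hz1 (by rw [← hb, h3, map_one])

end sq

end Cfsg.Agent.R2.T1
end

-- part: R2/T1/Inf/Cnt
section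
prune_inst 0x4000020044300000000000000000000508000000200400000002000000148444000028000182000100000000400300008110000000200000000000400011801a01080100220000104400007000000000000000000000000000000000000000000000000000
set_option linter.all false
open scoped Cfsg.Agent.FastGrp

/-!
# S5771, S5929: counting (helper11)

* `centralizer_eq`;
* `Irr ρ`, `St_eq`, `blue_of`, `blue` : the stabilizer of a proper `H`-stable subspace is the preimage of `H`;
* `count_sub`, `no_line`, `no_plane`;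
* `no_fixed`.
-/

set_option autoImplicit false
set_option linter.unusedSectionVars false

namespace Cfsg.Agent.R2.T1

open Cfsg Cfsg.Lie Module
open Cfsg.Agent.H943.E7V.Block (D1 rho)
open Cfsg.Agent.H952.F4 (ev es matRep MaxAlt)

variable {F : Type*} [Field F]

section irr
variable {M : Type*} [AddCommGroup M] [Module F M]

/-- irreducibility of a representation of `Gh F` -/
def Irr (ρ : Representation F (Gh F) M) : Prop :=
  ∀ U : Submodule F M, (∀ g : Gh F, ∀ w ∈ U, ρ g w ∈ U) → U ≠ ⊥ → U = ⊤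

theorem irrV : Irr (V F) := fun _ hU h0 => irred hU h0

/-- the stabilizer of a subspace -/
def St (ρ : Representation F (Gh F) M) (W : Submodule F M) : Subgroup (Gh F) where
  carrier := {g | ∀ w, ρ g w ∈ W ↔ w ∈ W}
  one_mem' := by intro w; rw [map_one]; rfl
  mul_mem' := by
    intro g h hg hh w
    rw [map_mul, Module.End.mul_apply, hg, hh]
  inv_mem' := by
    intro g hg w
    have h1 := hg (ρ g⁻¹ w)
    rw [← Module.End.mul_apply, ← map_mul, mul_inv_cancel, map_one, Module.End.one_apply] at h1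
    exact h1.symm

theorem mem_St {ρ : Representation F (Gh F) M} {W : Submodule F M} {g : Gh F} : g ∈ St ρ W ↔ ∀ w, ρ g w ∈ W ↔ w ∈ W :=
  Iff.rfl

theorem ρ_inv (ρ : Representation F (Gh F) M) (g : Gh F) (w : M) : ρ g⁻¹ (ρ g w) = w := by
  rw [← Module.End.mul_apply, ← map_mul, inv_mul_cancel, map_one, Module.End.one_apply]

theorem ρ_inv' (ρ : Representation F (Gh F) M) (g : Gh F) (w : M) : ρ g (ρ g⁻¹ w) = w := by
  rw [← Module.End.mul_apply, ← map_mul, mul_inv_cancel, map_one, Module.End.one_apply]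

/-- on finite-dimensional spaces stability under `g` is enough -/
theorem mem_St_of [FiniteDimensional F M] {ρ : Representation F (Gh F) M} {W : Submodule F M} {g : Gh F}
    (h : ∀ w ∈ W, ρ g w ∈ W) : g ∈ St ρ W := by
  intro w
  refine ⟨fun hw => ?_, h w⟩
  have h1 : W.map (ρ g) = W := by
    apply Submodule.eq_of_le_of_finrank_eq
    · rintro _ ⟨v, hv, rfl⟩
      exact h v hv
    · refine LinearEquiv.finrank_eq (LinearEquiv.symm (Submodule.equivMapOfInjective (ρ g) ?_ W))
      intro a b hab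
      rw [← ρ_inv ρ g a, hab, ρ_inv]
  have h2 : ρ g w ∈ W.map (ρ g) := by rw [h1]; exact hw
  obtain ⟨v, hv, hvw⟩ := h2
  rw [← ρ_inv ρ g w, ← hvw, ρ_inv]
  exact hv

variable {H : Subgroup ↥(chevE7.group F)}

theorem comap_le_St {ρ : Representation F (Gh F) M} {W : Submodule F M} (hW : Stab ρ H W) :
    H.comap (ad F) ≤ St ρ W := by
  intro g hg w
  constructor
  · intro h
    have h1 := hW g⁻¹ (by rw [map_inv]; exact inv_mem hg) _ h
    rwa [ρ_inv] at h1
  · exact hW g hg w

/-- the stabilizer of a proper non-zero `H`-stable subspace -/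
theorem St_eq (hM : IsCoatom H) {ρ : Representation F (Gh F) M} (hρ : Irr ρ)
    {W : Submodule F M} (hW : Stab ρ H W) (h0 : W ≠ ⊥) (h1 : W ≠ ⊤) : St ρ W = H.comap (ad F) := by
  have h2 := comap_le_St hW
  have h3 : H ≤ (St ρ W).map (ad F) := by
    intro h hh
    obtain ⟨g, rfl⟩ := ad_surjective h
    exact ⟨g, h2 hh, rfl⟩
  have hker : ∀ g, ad F g = 1 → g ∈ St ρ W := fun g hg => h2 (by rw [Subgroup.mem_comap, hg]; exact one_mem _)
  rcases eq_or_lt_of_le h3 with h4 | h4
  · refine le_antisymm (fun g hg => ?_) h2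
    rw [Subgroup.mem_comap, h4]
    exact ⟨g, hg, rfl⟩
  · exfalso
    apply h1
    have h5 : (St ρ W).map (ad F) = ⊤ := hM.2 _ h4
    have h6 : ∀ g, g ∈ St ρ W := by
      intro g
      have h7 : ad F g ∈ (St ρ W).map (ad F) := by rw [h5]; trivial
      obtain ⟨s, hs, hs'⟩ := h7
      have h8 : s⁻¹ * g ∈ St ρ W := hker _ (by rw [map_mul, map_inv, hs', inv_mul_cancel])
      have h9 := mul_mem hs h8
      rwa [mul_inv_cancel_left] at h9
    exact hρ W (fun g w hw => (h6 g w).2 hw) h0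

/-- **blueprint lemma** -/
theorem blue_of (hM : IsCoatom H) [FiniteDimensional F M] {ρ : Representation F (Gh F) M} (hρ : Irr ρ)
    {W : Submodule F M} (hW : Stab ρ H W) (h0 : W ≠ ⊥) (h1 : W ≠ ⊤) {g : Gh F} (hg : ∀ w ∈ W, ρ g w ∈ W) :
    ad F g ∈ H := by
  have h2 := mem_St_of hg
  rw [St_eq hM hρ hW h0 h1] at h2
  exact h2

/-- **blueprint lemma** for the 56-dimensional module -/
theorem blue (hM : IsCoatom H) {W : Submodule F (D1 → F)} (hW : Stab (V F) H W) (h0 : W ≠ ⊥) (h1 : W ≠ ⊤)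
    {g : Gh F} (hg : ∀ w ∈ W, V F g w ∈ W) : ad F g ∈ H :=
  blue_of hM irrV hW h0 h1 hg

/-- the diagonal representation on `k`-tuples -/
noncomputable def rk (k : ℕ) (ρ : Representation F (Gh F) M) : Representation F (Gh F) (Fin k → M) where
  toFun g := { toFun := fun b i => ρ g (b i)
               map_add' := fun b c => by funext i; exact map_add (ρ g) _ _
               map_smul' := fun t b => by funext i; exact map_smul (ρ g) _ _ }
  map_one' := by
    refine LinearMap.ext fun b => ?_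
    funext i
    show ρ 1 (b i) = b i
    rw [map_one]; rfl
  map_mul' g h := by
    refine LinearMap.ext fun b => ?_
    funext i
    show ρ (g * h) (b i) = ρ g (ρ h (b i))
    rw [map_mul]; rfl

theorem rk_apply (k : ℕ) (ρ : Representation F (Gh F) M) (g : Gh F) (b : Fin k → M) (i : Fin k) :
    rk k ρ g b i = ρ g (b i) := rfl

/-- counting the bases of `W` -/
theorem count_sub [Finite F] [FiniteDimensional F M] (hM : IsCoatom H) {ρ : Representation F (Gh F) M} (hρ : Irr ρ)
    {W : Submodule F M} (hW : Stab ρ H W) {k : ℕ} (hk : finrank F ↥W = k) (h1 : 1 ≤ k) (h27 : k < finrank F M) :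
    (∏ i : Fin k, (Nat.card F ^ k - Nat.card F ^ i.val)) * Nat.card ↥(chevE7.group F) ≤
      Nat.card ↥H * Nat.card F ^ (finrank F M * k) := by
  classical
  have hbot : W ≠ ⊥ := by
    rintro rfl
    rw [finrank_bot] at hk
    omega
  have htop : W ≠ ⊤ := by
    rintro rfl
    rw [finrank_top] at hk
    omega
  have hSt := St_eq hM hρ hW hbot htop
  have hfinF := Fintype.ofFinite F
  have hfinM : Finite M := Module.finite_of_finite F
  have hfinFk : FiniteDimensional F (Fin k → M) := inferInstance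
  -- the set of bases
  set S : Set (Fin k → M) := Set.range fun s : {s : Fin k → ↥W // LinearIndependent F s} =>
    fun i => ((s.1 i : ↥W) : M) with hS
  have hinj : Function.Injective fun s : {s : Fin k → ↥W // LinearIndependent F s} =>
      (fun i => ((s.1 i : ↥W) : M) : Fin k → M) := by
    intro s s' h
    apply Subtype.ext
    funext i
    exact Subtype.ext (congrFun h i)
  have hcardS : Nat.card S = ∏ i : Fin k, (Nat.card F ^ k - Nat.card F ^ i.val) := by
    rw [Nat.card_congr (Equiv.ofInjective _ hinj).symm]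
    have := card_linearIndependent (K := F) (V := ↥W) (k := k) (le_of_eq hk.symm)
    rw [this, hk]
    simp only [Nat.card_eq_fintype_card]
  have hspan : ∀ s : {s : Fin k → ↥W // LinearIndependent F s},
      Submodule.span F (Set.range fun i => ((s.1 i : ↥W) : M)) = W := by
    intro s
    have hne : Nonempty (Fin k) := ⟨⟨0, h1⟩⟩
    have h2 : Submodule.span F (Set.range s.1) = ⊤ :=
      s.2.span_eq_top_of_card_eq_finrank (by rw [Fintype.card_fin, hk])
    have h3 : (Set.range fun i => ((s.1 i : ↥W) : M)) = W.subtype '' Set.range s.1 := by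
      rw [← Set.range_comp]; rfl
    rw [h3, ← Submodule.map_span, h2, Submodule.map_top, Submodule.range_subtype]
  have hcount := Cfsg.Agent.H952.F4.MaxA.count (ρ := rk k ρ) (H.comap (ad F)) S (by
    rintro ⟨s, hs⟩
    have h2 : s.1 ⟨0, h1⟩ = 0 := Subtype.ext (congrFun hs ⟨0, h1⟩)
    exact s.2.ne_zero _ h2) (by
    rintro _ ⟨s, rfl⟩ _ ⟨s', rfl⟩ x hx
    rw [← hSt]
    have key : ∀ w ∈ W, ρ x w ∈ W := by
      intro w hw
      rw [← hspan s] at hw
      induction hw using Submodule.span_induction with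
      | mem y hy =>
        obtain ⟨i, rfl⟩ := hy
        have h2 := congrFun hx i
        rw [rk_apply] at h2
        show ρ x (s.1 i : M) ∈ W
        rw [h2]
        exact (s'.1 i).2
      | zero => rw [map_zero]; exact zero_mem _
      | add y z _ _ hy hz => rw [map_add]; exact add_mem hy hz
      | smul t y _ hy => rw [map_smul]; exact W.smul_mem t hy
    exact mem_St_of key)
  have hfr : finrank F (Fin k → M) = finrank F M * k := by
    rw [finrank_pi_fintype, Finset.sum_const, Finset.card_univ, Fintype.card_fin, smul_eq_mul, mul_comm]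
  rw [hcardS, hfr] at hcount
  set s := ∏ i : Fin k, (Nat.card F ^ k - Nat.card F ^ i.val) with hs
  set X := Nat.card F ^ (finrank F M * k) with hX
  have e1 := Subgroup.card_mul_index (H.comap (ad F))
  have e2 := Subgroup.card_mul_index H
  rw [Subgroup.index_comap_of_surjective H ad_surjective] at e1
  have hpos : 0 < Nat.card ↥(H.comap (ad F)) := Nat.card_pos
  have h4 : s * H.index ≤ X := by
    have h5 : Nat.card ↥(H.comap (ad F)) * (s * H.index) ≤ Nat.card ↥(H.comap (ad F)) * X := by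
      calc Nat.card ↥(H.comap (ad F)) * (s * H.index) = s * (Nat.card ↥(H.comap (ad F)) * H.index) := by ring
        _ = s * Nat.card (Gh F) := by rw [e1]
        _ ≤ Nat.card ↥(H.comap (ad F)) * (X - 1) := hcount
        _ ≤ _ := Nat.mul_le_mul_left _ (Nat.sub_le _ _)
    exact Nat.le_of_mul_le_mul_left h5 hpos
  calc s * Nat.card ↥(chevE7.group F) = Nat.card ↥H * (s * H.index) := by rw [← e2]; ring
    _ ≤ Nat.card ↥H * X := Nat.mul_le_mul_left _ h4

end irr

theorem finrank_V : finrank F (D1 → F) = 56 := by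
  rw [finrank_fintype_fun_eq_card]
  decide +kernel

/-! ### the maximal subgroup -/

variable {H : Subgroup ↥(chevE7.group F)} {n : ℕ} {φ : ↥(alternatingGroup (Fin n)) →* ↥(chevE7.group F)}

theorem alt_nonab (hn : 5 ≤ n) : ∃ a b : ↥(alternatingGroup (Fin n)), a * b ≠ b * a := by
  by_contra hcon
  push Not at hcon
  have h4 : 4 ≤ Nat.card (Fin n) := by rw [Nat.card_eq_fintype_card, Fintype.card_fin]; omega
  have h1 := alternatingGroup.center_eq_bot h4
  have h2 : Subgroup.center ↥(alternatingGroup (Fin n)) = ⊤ := by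
    rw [eq_top_iff]
    intro x _
    rw [Subgroup.mem_center_iff]
    intro y
    exact hcon y x
  have h3 : Nontrivial ↥(alternatingGroup (Fin n)) :=
    alternatingGroup.nontrivial_of_three_le_card (by rw [Nat.card_eq_fintype_card, Fintype.card_fin]; omega)
  rw [h1] at h2
  exact bot_ne_top h2

/-- the centralizer of the alternating group is trivial -/
theorem centralizer_eq (hM : MaxAlt H n φ) (hn : 5 ≤ n) {z : ↥(chevE7.group F)} (hz : ∀ a, φ a * z = z * φ a) :
    z = 1 := by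
  have hs : IsSimpleGroup ↥(chevE7.group F) := simpleE7
  set C : Subgroup ↥(chevE7.group F) := Subgroup.centralizer (φ.range : Set ↥(chevE7.group F)) with hC
  have memC : ∀ x, x ∈ C ↔ ∀ a, φ a * x = x * φ a := by
    intro x
    rw [hC, Subgroup.mem_centralizer_iff]
    constructor
    · intro h a; exact h _ ⟨a, rfl⟩
    · rintro h _ ⟨a, rfl⟩; exact h a
  obtain ⟨a, b, hab⟩ := alt_nonab hn
  have hCn : ∀ h ∈ H, ∀ c ∈ C, h * c * h⁻¹ ∈ C := by
    intro h hh c hc
    rw [memC] at hc ⊢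
    intro a
    obtain ⟨a', ha'⟩ := hM.norm h⁻¹ (inv_mem hh) (φ a) ⟨a, rfl⟩
    rw [inv_inv] at ha'
    have h1 := hc a'
    rw [ha'] at h1
    calc φ a * (h * c * h⁻¹) = h * ((h⁻¹ * φ a * h) * c) * h⁻¹ := by group
      _ = h * (c * (h⁻¹ * φ a * h)) * h⁻¹ := by rw [h1]
      _ = h * c * h⁻¹ * φ a := by group
  have hCH : C ≤ H := by
    by_contra hcon
    have h1 : H ⊔ C = ⊤ := by
      apply hM.coatom.2
      refine lt_of_le_of_ne le_sup_left fun h => hcon ?_
      rw [h]; exact le_sup_right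
    have h2 : φ.range.Normal := by
      constructor
      intro x hx g
      have hg : g ∈ H ⊔ C := by rw [h1]; trivial
      have h3 : ∀ g ∈ H ⊔ C, ∀ x ∈ φ.range, g * x * g⁻¹ ∈ φ.range := by
        intro g hg
        rw [Subgroup.sup_eq_closure] at hg
        induction hg using Subgroup.closure_induction with
        | mem y hy =>
          intro x hx
          rcases hy with hy | hy
          · exact hM.norm y hy x hx
          · obtain ⟨a, rfl⟩ := hx
            have := (memC y).1 hy a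
            rw [← this, mul_inv_cancel_right]
            exact ⟨a, rfl⟩
        | one => intro x hx; simpa only [_root_.one_mul, _root_.inv_one, _root_.mul_one, _root_.MonoidHom.mem_range, _root_.Subtype.exists, _root_.Equiv.Perm.mem_alternatingGroup] using hx
        | mul y z _ _ hy hz =>
          intro x hx
          have := hy _ (hz x hx)
          have e : y * (z * x * z⁻¹) * y⁻¹ = y * z * x * (y * z)⁻¹ := by group
          rwa [e] at this
        | inv y hy hy' =>
          -- conjugation by `y` maps the finite group `φ.range` onto itself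
          intro x hx
          have hinj : Function.Injective fun x : φ.range => (⟨y * x.1 * y⁻¹, hy' x.1 x.2⟩ : φ.range) := by
            intro x x' h
            have h4 := congrArg Subtype.val h
            apply Subtype.ext
            simpa only [_root_.SetLike.coe_eq_coe, _root_.mul_left_inj, _root_.mul_right_inj] using h4
          have hfin : Finite φ.range := Finite.of_surjective φ.rangeRestrict φ.rangeRestrict_surjective
          obtain ⟨x', hx'⟩ := Finite.surjective_of_injective hinj ⟨x, hx⟩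
          have h5 : y * x'.1 * y⁻¹ = x := congrArg Subtype.val hx'
          have h6 : y⁻¹ * x * y⁻¹⁻¹ = x'.1 := by rw [← h5]; group
          rw [h6]
          exact x'.2
      exact h3 g hg x hx
    rcases h2.eq_bot_or_eq_top with h3 | h3
    · apply hab
      apply hM.inj
      have h4 : ∀ a, φ a = 1 := fun a => by
        have : φ a ∈ φ.range := ⟨a, rfl⟩
        rwa [h3, Subgroup.mem_bot] at this
      rw [h4, h4]
    · exact hM.coatom.1 (top_le_iff.1 (h3 ▸ hM.le))
  have hbot : C = ⊥ := by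
    by_contra hcon
    have h1 := hM.min C hCH hCn hcon
    apply hab
    apply hM.inj
    rw [map_mul, map_mul]
    exact (memC _).1 (h1 ⟨b, rfl⟩) a
  have h1 : z ∈ C := (memC z).2 hz
  rwa [hbot, Subgroup.mem_bot] at h1

/-! ### orders -/

section card

variable [Finite F]

theorem two_le_card : 2 ≤ Nat.card F := by
  have : Nontrivial F := inferInstance
  exact Finite.one_lt_card

theorem card_le (hM : MaxAlt H n φ) (hn' : n ≤ 14) : Nat.card ↥H ≤ 87178291200 := by
  refine hM.card.trans ?_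
  split_ifs
  · norm_num
  · exact (Nat.factorial_le hn').trans (by decide +kernel)

/-- lower bound for the order of `E₇(q)` -/
theorem order_ge : Nat.card F ^ 132 ≤ 4 * Nat.card ↥(chevE7.group F) := by
  have hq := two_le_card (F := F)
  have ho := order (K := F)
  set q := Nat.card F with hqdef
  have hg : Nat.gcd 2 (q - 1) ≤ 2 := Nat.gcd_le_left _ (by norm_num)
  have key : ∀ a, 2 ^ a * (q ^ a - 1) ≥ (2 ^ a - 1) * q ^ a := by
    intro a
    have h4 : 2 ^ a ≤ q ^ a := Nat.pow_le_pow_left hq a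
    have h5 : 1 ≤ 2 ^ a := Nat.one_le_pow _ _ (by norm_num)
    rw [Nat.mul_sub, Nat.sub_mul, mul_one, one_mul]
    omega
  have k2 := key 2
  have k6 := key 6
  have k8 := key 8
  have k10 := key 10
  have k12 := key 12
  have k14 := key 14
  have k18 := key 18
  set N := Nat.card ↥(chevE7.group F) with hN
  have h1 : q ^ 63 * (q ^ 2 - 1) * (q ^ 6 - 1) * (q ^ 8 - 1) * (q ^ 10 - 1) * (q ^ 12 - 1) * (q ^ 14 - 1) *
      (q ^ 18 - 1) ≤ 2 * N := by
    rw [← ho]; exact Nat.mul_le_mul_right _ hg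
  have h2 : (2 ^ 70 * 2) * N ≥ (2 ^ 2 - 1) * (2 ^ 6 - 1) * (2 ^ 8 - 1) * (2 ^ 10 - 1) * (2 ^ 12 - 1) * (2 ^ 14 - 1) *
      (2 ^ 18 - 1) * q ^ 133 := by
    calc (2 ^ (70:ℕ) * 2) * N = 2 ^ (70:ℕ) * (2 * N) := by ring
      _ ≥ 2 ^ (70:ℕ) * (q ^ (63:ℕ) * (q ^ (2:ℕ) - 1) * (q ^ (6:ℕ) - 1) * (q ^ (8:ℕ) - 1) * (q ^ (10:ℕ) - 1) * (q ^ (12:ℕ) - 1) * (q ^ (14:ℕ) - 1) *
          (q ^ (18:ℕ) - 1)) := Nat.mul_le_mul_left _ h1
      _ = q ^ (63:ℕ) * (2 ^ (2:ℕ) * (q ^ (2:ℕ) - 1)) * (2 ^ (6:ℕ) * (q ^ (6:ℕ) - 1)) * (2 ^ (8:ℕ) * (q ^ (8:ℕ) - 1)) * (2 ^ (10:ℕ) * (q ^ (10:ℕ) - 1)) *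
          (2 ^ (12:ℕ) * (q ^ (12:ℕ) - 1)) * (2 ^ (14:ℕ) * (q ^ (14:ℕ) - 1)) * (2 ^ (18:ℕ) * (q ^ (18:ℕ) - 1)) := by ring
      _ ≥ q ^ (63:ℕ) * ((2 ^ (2:ℕ) - 1) * q ^ (2:ℕ)) * ((2 ^ (6:ℕ) - 1) * q ^ (6:ℕ)) * ((2 ^ (8:ℕ) - 1) * q ^ (8:ℕ)) *
          ((2 ^ (10:ℕ) - 1) * q ^ (10:ℕ)) * ((2 ^ (12:ℕ) - 1) * q ^ (12:ℕ)) * ((2 ^ (14:ℕ) - 1) * q ^ (14:ℕ)) * ((2 ^ (18:ℕ) - 1) * q ^ (18:ℕ)) := by
        gcongr
      _ = _ := by ring
  have h3 : q ^ 133 = q ^ 132 * q := pow_succ q 132
  have h4 : q ^ 132 * 2 ≤ q ^ 133 := by rw [h3]; exact Nat.mul_le_mul_left _ hq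
  norm_num at h2
  (clear * - h4 h2; omega)

/-- no stable line -/
theorem no_line (hM : MaxAlt H n φ) (hn' : n ≤ 14) {W : Submodule F (D1 → F)} (hW : Stab (V F) H W) :
    finrank F ↥W ≠ 1 := by
  intro h1
  have h2 := count_sub hM.coatom irrV hW h1 le_rfl (by rw [finrank_V]; norm_num)
  have h3 := card_le hM hn'
  have hq := two_le_card (F := F)
  have h4 := order_ge (F := F)
  rw [finrank_V] at h2
  simp only [Finset.univ_unique, Fin.default_eq_zero, Fin.val_zero, Finset.prod_singleton, pow_one, pow_zero, mul_one]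
    at h2
  have h5 : 1 * Nat.card ↥(chevE7.group F) ≤ (Nat.card F - 1) * Nat.card ↥(chevE7.group F) :=
    Nat.mul_le_mul_right _ (by omega)
  have h6 : Nat.card ↥H * Nat.card F ^ 56 ≤ 87178291200 * Nat.card F ^ 56 := Nat.mul_le_mul_right _ h3
  have h7 : Nat.card F ^ 132 = Nat.card F ^ 76 * Nat.card F ^ 56 := by rw [← pow_add]
  have h8 : 2 ^ 76 ≤ Nat.card F ^ 76 := Nat.pow_le_pow_left hq 76
  have h9 : 2 ^ 76 * Nat.card F ^ 56 ≤ Nat.card F ^ 132 := by rw [h7]; exact Nat.mul_le_mul_right _ h8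
  have h10 : 0 < Nat.card F ^ 56 := by positivity
  norm_num only [] at h9
  omega

/-- sharper lower bound -/
theorem order_ge' : Nat.card F ^ 137 < 4 * ((Nat.card F ^ 2 - 1) * (Nat.card F ^ 2 - Nat.card F) *
    Nat.card ↥(chevE7.group F)) := by
  have hq := two_le_card (F := F)
  have ho := order (K := F)
  set q := Nat.card F with hqdef
  set N := Nat.card ↥(chevE7.group F) with hN
  rcases eq_or_lt_of_le hq with h2 | h3
  · rw [← h2] at ho ⊢
    norm_num at ho ⊢
    rw [ho]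
    norm_num
  have hg : Nat.gcd 2 (q - 1) ≤ 2 := Nat.gcd_le_left _ (by norm_num)
  have key : ∀ a, 3 ^ a * (q ^ a - 1) ≥ (3 ^ a - 1) * q ^ a := by
    intro a
    have h4 : 3 ^ a ≤ q ^ a := Nat.pow_le_pow_left h3 a
    have h5 : 1 ≤ 3 ^ a := Nat.one_le_pow _ _ (by norm_num)
    rw [Nat.mul_sub, Nat.sub_mul, mul_one, one_mul]
    omega
  have k1 := key 1
  have k2 := key 2
  have k6 := key 6
  have k8 := key 8
  have k10 := key 10
  have k12 := key 12
  have k14 := key 14
  have k18 := key 18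
  have h1 : q ^ 63 * (q ^ 2 - 1) * (q ^ 6 - 1) * (q ^ 8 - 1) * (q ^ 10 - 1) * (q ^ 12 - 1) * (q ^ 14 - 1) *
      (q ^ 18 - 1) ≤ 2 * N := by
    rw [← ho]; exact Nat.mul_le_mul_right _ hg
  have e1 : q ^ 2 - q = q * (q ^ 1 - 1) := by
    rw [Nat.mul_sub, mul_one]; ring_nf
  have h2 : (3 ^ 73 * 2) * ((q ^ 2 - 1) * (q ^ 2 - q) * N) ≥ (3 ^ 2 - 1) * (3 ^ 1 - 1) * ((3 ^ 2 - 1) * (3 ^ 6 - 1) *
      (3 ^ 8 - 1) * (3 ^ 10 - 1) * (3 ^ 12 - 1) * (3 ^ 14 - 1) * (3 ^ 18 - 1)) * q ^ 137 := by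
    calc (3 ^ (73:ℕ) * 2) * ((q ^ (2:ℕ) - 1) * (q ^ (2:ℕ) - q) * N) = 3 ^ (73:ℕ) * ((q ^ (2:ℕ) - 1) * (q ^ (2:ℕ) - q)) * (2 * N) := by ring
      _ ≥ 3 ^ (73:ℕ) * ((q ^ (2:ℕ) - 1) * (q ^ (2:ℕ) - q)) *
          (q ^ (63:ℕ) * (q ^ (2:ℕ) - 1) * (q ^ (6:ℕ) - 1) * (q ^ (8:ℕ) - 1) * (q ^ (10:ℕ) - 1) * (q ^ (12:ℕ) - 1) * (q ^ (14:ℕ) - 1) *
          (q ^ (18:ℕ) - 1)) := Nat.mul_le_mul_left _ h1
      _ = (3 ^ (2:ℕ) * (q ^ (2:ℕ) - 1)) * (q * (3 ^ (1:ℕ) * (q ^ (1:ℕ) - 1))) *
          (q ^ (63:ℕ) * (3 ^ (2:ℕ) * (q ^ (2:ℕ) - 1)) * (3 ^ (6:ℕ) * (q ^ (6:ℕ) - 1)) * (3 ^ (8:ℕ) * (q ^ (8:ℕ) - 1)) * (3 ^ (10:ℕ) * (q ^ (10:ℕ) - 1)) *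
          (3 ^ (12:ℕ) * (q ^ (12:ℕ) - 1)) * (3 ^ (14:ℕ) * (q ^ (14:ℕ) - 1)) * (3 ^ (18:ℕ) * (q ^ (18:ℕ) - 1))) := by rw [e1]; ring
      _ ≥ ((3 ^ (2:ℕ) - 1) * q ^ (2:ℕ)) * (q * ((3 ^ (1:ℕ) - 1) * q ^ (1:ℕ))) *
          (q ^ (63:ℕ) * ((3 ^ (2:ℕ) - 1) * q ^ (2:ℕ)) * ((3 ^ (6:ℕ) - 1) * q ^ (6:ℕ)) * ((3 ^ (8:ℕ) - 1) * q ^ (8:ℕ)) *
          ((3 ^ (10:ℕ) - 1) * q ^ (10:ℕ)) * ((3 ^ (12:ℕ) - 1) * q ^ (12:ℕ)) * ((3 ^ (14:ℕ) - 1) * q ^ (14:ℕ)) * ((3 ^ (18:ℕ) - 1) * q ^ (18:ℕ))) := by
        gcongr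
      _ = _ := by ring
  have hpos : 0 < q ^ 137 := by positivity
  norm_num only [_root_.ge_iff_le] at h2
  omega

/-- no stable plane -/
theorem no_plane_of (hM : IsCoatom H) (hq8 : 4 * Nat.card ↥H ≤ Nat.card F ^ 25)
    {W : Submodule F (D1 → F)} (hW : Stab (V F) H W) : finrank F ↥W ≠ 2 := by
  intro h1
  have h2 := count_sub hM irrV hW h1 (by norm_num) (by rw [finrank_V]; norm_num)
  have hq := two_le_card (F := F)
  have h4 := order_ge' (F := F)
  rw [finrank_V] at h2
  simp only [Fin.prod_univ_two, Fin.val_zero, Fin.val_one, pow_zero, pow_one] at h2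
  have h5 : Nat.card F ^ 137 = Nat.card F ^ 25 * Nat.card F ^ (56 * 2) := by rw [← pow_add]
  have h6 : 4 * Nat.card ↥H * Nat.card F ^ (56 * 2) ≤ Nat.card F ^ 25 * Nat.card F ^ (56 * 2) :=
    Nat.mul_le_mul_right _ hq8
  rw [mul_assoc, ← h5] at h6
  omega

theorem no_plane (hM : MaxAlt H n φ) (hn' : n ≤ 14) (hq : 3 ≤ Nat.card F ∨ n ≤ 10)
    {W : Submodule F (D1 → F)} (hW : Stab (V F) H W) : finrank F ↥W ≠ 2 := by
  refine no_plane_of hM.coatom ?_ hW
  rcases hq with hq | hq
  · have h1 := card_le hM hn'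
    have h2 : 3 ^ 25 ≤ Nat.card F ^ 25 := Nat.pow_le_pow_left hq 25
    norm_num only [] at h2
    omega
  · have h1 : Nat.card ↥H ≤ 3628800 := by
      refine hM.card.trans ?_
      split_ifs
      · norm_num
      · exact (Nat.factorial_le hq).trans (by decide +kernel)
    have h2 : 2 ^ 25 ≤ Nat.card F ^ 25 := Nat.pow_le_pow_left two_le_card 25
    norm_num only [] at h2
    omega

/-- non-zero stable subspaces have dimension at least 3 -/
theorem three_le (hM : MaxAlt H n φ) (hn' : n ≤ 14) (hq : 3 ≤ Nat.card F ∨ n ≤ 10)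
    {W : Submodule F (D1 → F)} (hW : Stab (V F) H W) (h0 : W ≠ ⊥) : 3 ≤ finrank F ↥W := by
  have h1 := no_line hM hn' hW
  have h2 := no_plane hM hn' hq hW
  have h3 : finrank F ↥W ≠ 0 := fun h => h0 (Submodule.finrank_eq_zero.1 h)
  omega

/-! ### fixed vectors -/

theorem card_alt (hn : 5 ≤ n) : 2 * Nat.card ↥(alternatingGroup (Fin n)) = n.factorial := by
  have : Nontrivial (Fin n) := Fin.nontrivial_iff_two_le.2 (by omega)
  rw [two_mul_nat_card_alternatingGroup, Nat.card_perm, Nat.card_eq_fintype_card, Fintype.card_fin]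

/-- at most four cosets -/
theorem four_cosets (hM : MaxAlt H n φ) (hn : 5 ≤ n) (g : Fin 5 → ↥(chevE7.group F)) (hg : ∀ i, g i ∈ H)
    (h : ∀ i j, i < j → (g i)⁻¹ * g j ∉ φ.range) : False := by
  have hH : Finite ↥H := inferInstance
  have h' : ∀ i j, i ≠ j → (g i)⁻¹ * g j ∉ φ.range := by
    intro i j hij
    rcases lt_or_gt_of_ne hij with h1 | h1
    · exact h i j h1
    · intro h2
      apply h j i h1
      have h3 := inv_mem h2
      rwa [mul_inv_rev, inv_inv] at h3
  let f : Fin 5 × ↥(alternatingGroup (Fin n)) → ↥H := fun x => ⟨g x.1 * φ x.2, mul_mem (hg _) (hM.le ⟨x.2, rfl⟩)⟩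
  have hf : Function.Injective f := by
    rintro ⟨i, a⟩ ⟨j, b⟩ hab
    have h1 : g i * φ a = g j * φ b := congrArg Subtype.val hab
    have h2 : (g i)⁻¹ * g j = φ (a * b⁻¹) := by
      rw [map_mul, map_inv, inv_mul_eq_iff_eq_mul, ← mul_assoc, h1, mul_inv_cancel_right]
    have hij : i = j := by
      by_contra hne
      exact h' i j hne ⟨_, h2.symm⟩
    subst hij
    have h3 := hM.inj (mul_left_cancel h1)
    rw [h3]
  have h1 := Nat.card_le_card_of_injective f hf
  rw [Nat.card_prod, Nat.card_eq_fintype_card (α := Fin 5), Fintype.card_fin] at h1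
  have h2 := card_alt hn
  have h3 := hM.card
  have h4 : 0 < Nat.card ↥(alternatingGroup (Fin n)) := Nat.card_pos
  split_ifs at h3 with h6
  · subst h6
    have h7 : Nat.factorial 6 = 720 := rfl
    omega
  · omega

section nofix

variable (hM : MaxAlt H n φ) (hn : 5 ≤ n) (hn' : n ≤ 14)

include hM hn hn' in
/-- the heart of `no_fixed` -/
theorem no_fixed_aux {W : Submodule F (D1 → F)} (hW0 : W ≠ ⊥)
    (hst : ∀ x ∈ H.comap (ad F), ∀ w ∈ W, V F x w ∈ W)
    (hscal : ∀ g, ad F g ∈ φ.range → (∀ w ∈ W, V F g w = w) ∨ ∀ w ∈ W, V F g w = -w) : False := by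
  classical
  set Ĥ : Subgroup (Gh F) := H.comap (ad F) with hH
  have hmul : ∀ (x y : Gh F) (w : D1 → F), V F (x * y) w = V F x (V F y w) := V_mul
  have hsq : ∀ x ∈ Ĥ, (∀ w ∈ W, V F x (V F x w) = w) ∨ ∀ w ∈ W, V F x (V F x w) = -w := by
    intro x hx
    rcases hscal (x * x) (by rw [map_mul]; exact hM.sq _ hx) with h | h
    · exact Or.inl fun w hw => by rw [← hmul]; exact h w hw
    · exact Or.inr fun w hw => by rw [← hmul]; exact h w hw
  by_cases h2 : (2 : F) = 0
  · -- characteristic 2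
    have hneg : ∀ w : D1 → F, -w = w := by
      intro w
      funext a
      rw [Pi.neg_apply]
      linear_combination (-w a) * h2
    obtain ⟨w, hw, hw0, hw'⟩ := Cfsg.Agent.H952.F4.MaxA.exists_line (ρ := V F) Ĥ W hW0 hst (fun x hx w hw => by
      rcases hsq x hx with h | h
      · exact h w hw
      · rw [h w hw, hneg])
    refine no_line hM hn' (W := Submodule.span F {w}) ?_ (finrank_span_singleton hw0)
    intro g hg v hv
    obtain ⟨t, rfl⟩ := Submodule.mem_span_singleton.1 hv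
    rw [map_smul]
    refine Submodule.smul_mem _ _ ?_
    rcases hw' g hg with h | h
    · rw [h]; exact Submodule.mem_span_singleton_self w
    · rw [h]; exact neg_mem (Submodule.mem_span_singleton_self w)
  -- odd characteristic
  have hq3 : 3 ≤ Nat.card F := by
    have hq := two_le_card (F := F)
    by_contra hlt
    have h3 : Nat.card F = 2 := by omega
    apply h2
    have := Fintype.ofFinite F
    have h4 : ((Nat.card F : ℕ) : F) = 0 := by
      rw [Nat.card_eq_fintype_card]; exact Nat.cast_card_eq_zero F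
    rw [h3] at h4
    exact_mod_cast h4
  obtain ⟨w1, hw1, hw10⟩ := Submodule.exists_mem_ne_zero_of_ne_bot hW0
  have hself : ∀ w : D1 → F, w = -w → w = 0 := by
    intro w h
    funext a
    have h3 := congrFun h a
    rw [Pi.neg_apply] at h3
    have h4 : 2 * w a = 0 := by linear_combination h3
    exact (mul_eq_zero.1 h4).resolve_left h2
  -- the contradiction: no small stable subspace
  have hfin : ∀ w ∈ W, w ≠ 0 → ∀ u ∈ W, (∀ x ∈ Ĥ, V F x w ∈ Submodule.span F {w, u} ∧ V F x u ∈ Submodule.span F {w, u}) →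
      False := by
    intro w hw hw0 u hu h
    have hU : Stab (V F) H (Submodule.span F {w, u}) := by
      intro x hx v hv
      rw [Submodule.mem_span_pair] at hv
      obtain ⟨a, b, rfl⟩ := hv
      obtain ⟨h3, h4⟩ := h x hx
      rw [map_add, map_smul, map_smul]
      exact add_mem (Submodule.smul_mem _ _ h3) (Submodule.smul_mem _ _ h4)
    have hne : Submodule.span F {w, u} ≠ ⊥ := by
      intro h3
      apply hw0
      have h4 : w ∈ Submodule.span F {w, u} := Submodule.subset_span (by simp)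
      rw [h3] at h4
      exact (Submodule.mem_bot F).1 h4
    have h3 := three_le hM hn' (Or.inl hq3) hU hne
    have h4 : finrank F ↥(Submodule.span F ((({w, u} : Finset (D1 → F)) : Finset (D1 → F)) : Set (D1 → F))) ≤
        ({w, u} : Finset (D1 → F)).card := finrank_span_finset_le_card _
    have h5 : ({w, u} : Finset (D1 → F)).card ≤ 2 := Finset.card_le_two
    rw [Finset.coe_pair] at h4
    omega
  have hcomm : ∀ x ∈ Ĥ, ∀ y ∈ Ĥ, (∀ w ∈ W, V F x (V F y w) = V F y (V F x w)) ∨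
      ∀ w ∈ W, V F x (V F y w) = - V F y (V F x w) := by
    intro x hx y hy
    -- `x y = (x y)² y⁻¹ x⁻¹`
    have h3 : ∀ w ∈ W, V F x (V F y (V F x (V F y w))) = V F (x * y) (V F (x * y) w) := by
      intro w _
      rw [hmul, hmul]
    have hxy := hsq (x * y) (mul_mem hx hy)
    have hx2 := hsq x hx
    have hy2 := hsq y hy
    have e : ∀ w ∈ W, V F (x * y) (V F (x * y) (V F y (V F x w))) = V F x (V F y (V F x (V F y (V F y (V F x w))))) := by
      intro w _
      rw [hmul, hmul]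
    rcases hxy with h | h <;> rcases hx2 with hx2 | hx2 <;> rcases hy2 with hy2 | hy2
    all_goals
      first
      | (left
         intro w hw
         have h4 := e w hw
         rw [h _ (hst y hy _ (hst x hx w hw)), hy2 _ (hst x hx w hw)] at h4
         simp only [map_neg, hx2 w hw, _root_.neg_neg, neg_inj] at h4
         exact h4.symm)
      | (right
         intro w hw
         have h4 := e w hw
         rw [h _ (hst y hy _ (hst x hx w hw)), hy2 _ (hst x hx w hw)] at h4
         simp only [map_neg, hx2 w hw, _root_.neg_neg] at h4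
         rw [h4]
         all_goals simp only [_root_.neg_neg])
  by_cases hall : ∀ x ∈ Ĥ, ∀ y ∈ Ĥ, ∀ w ∈ W, V F x (V F y w) = V F y (V F x w)
  · -- Case I: everything commutes on `W`
    let K : Subgroup (Gh F) :=
      { carrier := {x | x ∈ Ĥ ∧ ∀ w ∈ W, V F x (V F x w) = w}
        one_mem' := ⟨one_mem _, fun w _ => by rw [V_one, V_one]⟩
        mul_mem' := by
          rintro x y ⟨hx, hx'⟩ ⟨hy, hy'⟩
          refine ⟨mul_mem hx hy, fun w hw => ?_⟩
          rw [hmul, hmul, hall y hy x hx _ (hst y hy w hw), hy' w hw, hx' w hw]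
        inv_mem' := by
          rintro x ⟨hx, hx'⟩
          refine ⟨inv_mem hx, fun w hw => ?_⟩
          have h1 : V F x⁻¹ w = V F x w := by
            conv_lhs => rw [← hx' w hw]
            rw [V_inv]
          rw [h1, V_inv] }
    obtain ⟨w, hw, hw0, hw'⟩ := Cfsg.Agent.H952.F4.MaxA.exists_line (ρ := V F) K W hW0 (fun x hx => hst x hx.1)
      (fun x hx => hx.2)
    by_cases hex : ∃ x0 ∈ Ĥ, ∀ w ∈ W, V F x0 (V F x0 w) = -w
    · obtain ⟨x0, hx0, hx0'⟩ := hex
      refine hfin w hw hw0 (V F x0 w) (hst x0 hx0 w hw) fun t ht => ?_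
      have m1 : w ∈ Submodule.span F {w, V F x0 w} := Submodule.subset_span (by simp)
      have m2 : V F x0 w ∈ Submodule.span F {w, V F x0 w} := Submodule.subset_span (by simp)
      rcases hsq t ht with h3 | h3
      · have h4 := hw' t ⟨ht, h3⟩
        rw [hall t ht x0 hx0 w hw]
        rcases h4 with h4 | h4
        · rw [h4]; exact ⟨m1, m2⟩
        · rw [h4, map_neg]; exact ⟨neg_mem m1, neg_mem m2⟩
      · have h4 : t * x0 ∈ K := by
          refine ⟨mul_mem ht hx0, fun v hv => ?_⟩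
          rw [hmul, hmul, hall x0 hx0 t ht _ (hst x0 hx0 v hv), h3 _ (hst x0 hx0 _ (hst x0 hx0 v hv)), hx0' v hv,
            _root_.neg_neg]
        have h5 := hw' _ h4
        rw [hmul] at h5
        have h6 : V F t w = - V F x0 (V F t (V F x0 w)) := by
          rw [hall t ht x0 hx0 w hw, hx0' _ (hst t ht w hw), _root_.neg_neg]
        rcases h5 with h5 | h5
        · rw [h6, h5]; exact ⟨neg_mem m2, m1⟩
        · rw [h6, h5, map_neg, _root_.neg_neg]; exact ⟨m2, neg_mem m1⟩
    · push Not at hex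
      refine hfin w hw hw0 w hw fun t ht => ?_
      have m1 : w ∈ Submodule.span F {w, w} := Submodule.subset_span (by simp)
      have h3 : ∀ v ∈ W, V F t (V F t v) = v := by
        rcases hsq t ht with h4 | h4
        · exact h4
        · obtain ⟨v, hv, hv'⟩ := hex t ht
          exact absurd (h4 v hv) hv'
      rcases hw' t ⟨ht, h3⟩ with h4 | h4
      · rw [h4]; exact ⟨m1, m1⟩
      · rw [h4]; exact ⟨neg_mem m1, neg_mem m1⟩
  · -- Case II
    push Not at hall
    obtain ⟨x, hx, y, hy, w0, hw0, hne⟩ := hall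
    have hanti : ∀ w ∈ W, V F x (V F y w) = - V F y (V F x w) := by
      rcases hcomm x hx y hy with h | h
      · exact absurd (h w0 hw0) hne
      · exact h
    -- no element of the preimage of `A` among the differences of cosets
    have hsc : ∀ g, ad F g ∈ φ.range → ∀ k ∈ Ĥ, ∀ w ∈ W, V F g (V F k w) = V F k (V F g w) := by
      intro g hg k hk w hw
      rcases hscal g hg with h | h
      · rw [h w hw, h _ (hst k hk w hw)]
      · rw [h w hw, h _ (hst k hk w hw), map_neg]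
    have hyx : ∀ w ∈ W, V F y (V F x w) = - V F x (V F y w) := by
      intro w hw
      rw [hanti w hw, _root_.neg_neg]
    have nac : ∀ g, g ∈ Ĥ → ∀ k ∈ Ĥ, (∀ w ∈ W, V F g (V F k w) = - V F k (V F g w)) → ad F g ∉ φ.range := by
      intro g hgH k hk hgk h
      apply hw10
      have h3 := hsc g h k hk w1 hw1
      rw [hgk w1 hw1] at h3
      have h4 := hself _ h3.symm
      rw [← V_inv g w1, ← V_inv k (V F g w1), h4, map_zero, map_zero]
    -- multiplication rules
    have acinv : ∀ g ∈ Ĥ, ∀ k ∈ Ĥ, (∀ w ∈ W, V F g (V F k w) = - V F k (V F g w)) →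
        ∀ w ∈ W, V F g⁻¹ (V F k w) = - V F k (V F g⁻¹ w) := by
      intro g hg k hk h w hw
      have h3 := h _ (hst _ (inv_mem hg) w hw)
      rw [V_inv'] at h3
      have h4 : V F k w = V F g (- V F k (V F g⁻¹ w)) := by rw [map_neg, h3, _root_.neg_neg]
      rw [h4, V_inv]
    have hac1 : ∀ w ∈ W, V F (x⁻¹ * y) (V F x w) = - V F x (V F (x⁻¹ * y) w) := by
      intro w hw
      rw [hmul, hmul, hyx w hw, map_neg, V_inv, V_inv']
    have hac2 : ∀ w ∈ W, V F (y⁻¹ * (x * y)) (V F y w) = - V F y (V F (y⁻¹ * (x * y)) w) := by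
      intro w hw
      rw [hmul, hmul, hmul, hmul, hanti _ (hst y hy w hw), map_neg, V_inv, V_inv']
    have hac3 : ∀ w ∈ W, V F (x * y) (V F x w) = - V F x (V F (x * y) w) := by
      intro w hw
      rw [hmul, hmul, hyx w hw, map_neg]
    have hfour : ∀ h ∈ Ĥ, ∃ k : Gh F, (k = 1 ∨ k = x ∨ k = y ∨ k = x * y) ∧
        ((∀ w ∈ W, V F h w = V F k w) ∨ ∀ w ∈ W, V F h w = - V F k w) := by
      intro h hh
      by_contra hcon
      push Not at hcon
      have hk : ∀ k, k ∈ Ĥ → (k = 1 ∨ k = x ∨ k = y ∨ k = x * y) → ad F (k⁻¹ * h) ∉ φ.range := by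
        intro k hkH hk hr
        obtain ⟨⟨u, hu, hu'⟩, ⟨v, hv, hv'⟩⟩ := hcon k hk
        rcases hscal _ hr with h3 | h3
        · apply hu'
          have h4 := h3 u hu
          rw [hmul] at h4
          nth_rewrite 2 [← h4]
          rw [V_inv']
        · apply hv'
          have h4 := h3 v hv
          rw [hmul] at h4
          have h5 : V F k (V F k⁻¹ (V F h v)) = V F k (-v) := by rw [h4]
          rw [V_inv', map_neg] at h5
          exact h5
      refine four_cosets hM hn ![1, ad F x, ad F y, ad F (x * y), ad F h] ?_ ?_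
      · intro i
        fin_cases i
        · exact one_mem H
        · exact hx
        · exact hy
        · exact (mul_mem hx hy : x * y ∈ Ĥ)
        · exact hh
      · have c01 : ad F x ∉ φ.range := nac x hx y hy hanti
        have c02 : ad F y ∉ φ.range := nac y hy x hx hyx
        have c03 : ad F (x * y) ∉ φ.range := nac _ (mul_mem hx hy) x hx hac3
        have c04 : ad F h ∉ φ.range := by
          have := hk 1 (one_mem _) (Or.inl rfl)
          rwa [inv_one, one_mul] at this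
        have c12 : (ad F x)⁻¹ * ad F y ∉ φ.range := by
          rw [← map_inv, ← map_mul]
          exact nac _ (mul_mem (inv_mem hx) hy) x hx hac1
        have c13 : (ad F x)⁻¹ * ad F (x * y) ∉ φ.range := by
          rw [map_mul, inv_mul_cancel_left]
          exact c02
        have c14 : (ad F x)⁻¹ * ad F h ∉ φ.range := by
          rw [← map_inv, ← map_mul]
          exact hk x hx (Or.inr (Or.inl rfl))
        have c23 : (ad F y)⁻¹ * ad F (x * y) ∉ φ.range := by
          rw [← map_inv, ← map_mul]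
          exact nac _ (mul_mem (inv_mem hy) (mul_mem hx hy)) y hy hac2
        have c24 : (ad F y)⁻¹ * ad F h ∉ φ.range := by
          rw [← map_inv, ← map_mul]
          exact hk y hy (Or.inr (Or.inr (Or.inl rfl)))
        have c34 : (ad F (x * y))⁻¹ * ad F h ∉ φ.range := by
          rw [← map_inv, ← map_mul]
          exact hk _ (mul_mem hx hy) (Or.inr (Or.inr (Or.inr rfl)))
        intro i j hij
        fin_cases i <;> fin_cases j <;> first | exact absurd hij (by decide) | skip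
        · change (1 : ↥(chevE7.group F))⁻¹ * ad F x ∉ φ.range
          rw [inv_one, one_mul]; exact c01
        · change (1 : ↥(chevE7.group F))⁻¹ * ad F y ∉ φ.range
          rw [inv_one, one_mul]; exact c02
        · change (1 : ↥(chevE7.group F))⁻¹ * ad F (x * y) ∉ φ.range
          rw [inv_one, one_mul]; exact c03
        · change (1 : ↥(chevE7.group F))⁻¹ * ad F h ∉ φ.range
          rw [inv_one, one_mul]; exact c04
        · exact c12
        · exact c13
        · exact c14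
        · exact c23
        · exact c24
        · exact c34
    have hfin2 : ∀ w ∈ W, w ≠ 0 → ∀ u ∈ W, V F x w ∈ Submodule.span F {w, u} → V F x u ∈ Submodule.span F {w, u} →
        V F y w ∈ Submodule.span F {w, u} → V F y u ∈ Submodule.span F {w, u} → False := by
      intro w hw hw0 u hu h3 h4 h5 h6
      have hxs : ∀ v ∈ Submodule.span F {w, u}, V F x v ∈ Submodule.span F {w, u} := by
        intro v hv
        rw [Submodule.mem_span_pair] at hv
        obtain ⟨a, b, rfl⟩ := hv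
        rw [map_add, map_smul, map_smul]
        exact add_mem (Submodule.smul_mem _ _ h3) (Submodule.smul_mem _ _ h4)
      have hys : ∀ v ∈ Submodule.span F {w, u}, V F y v ∈ Submodule.span F {w, u} := by
        intro v hv
        rw [Submodule.mem_span_pair] at hv
        obtain ⟨a, b, rfl⟩ := hv
        rw [map_add, map_smul, map_smul]
        exact add_mem (Submodule.smul_mem _ _ h5) (Submodule.smul_mem _ _ h6)
      have m1 : w ∈ Submodule.span F {w, u} := Submodule.subset_span (by simp)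
      have m2 : u ∈ Submodule.span F {w, u} := Submodule.subset_span (by simp)
      refine hfin w hw hw0 u hu fun t ht => ?_
      obtain ⟨k, hk, hk'⟩ := hfour t ht
      have h7 : ∀ v ∈ Submodule.span F {w, u}, V F k v ∈ Submodule.span F {w, u} := by
        intro v hv
        rcases hk with rfl | rfl | rfl | rfl
        · rw [V_one]; exact hv
        · exact hxs v hv
        · exact hys v hv
        · rw [hmul]; exact hxs _ (hys v hv)
      rcases hk' with h8 | h8
      · rw [h8 w hw, h8 u hu]; exact ⟨h7 w m1, h7 u m2⟩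
      · rw [h8 w hw, h8 u hu]; exact ⟨neg_mem (h7 w m1), neg_mem (h7 u m2)⟩
    -- the case of an involution
    have hinv : ∀ x y : Gh F, x ∈ Ĥ → y ∈ Ĥ → (∀ w ∈ W, V F x (V F y w) = - V F y (V F x w)) →
        (∀ w ∈ W, V F y (V F y w) = w) → ∃ w ∈ W, w ≠ 0 ∧ V F y w = w := by
      intro x y hx hy hxy hy2
      by_cases h3 : V F y w1 + w1 = 0
      · refine ⟨V F x w1, hst x hx w1 hw1, ?_, ?_⟩
        · intro h4
          apply hw10
          rw [← V_inv x w1, h4, map_zero]
        · have h4 := hxy w1 hw1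
          rw [eq_neg_of_add_eq_zero_left h3, map_neg, neg_inj] at h4
          exact h4.symm
      · refine ⟨_, add_mem (hst y hy w1 hw1) hw1, h3, ?_⟩
        rw [map_add, hy2 w1 hw1, add_comm]
    rcases hsq y hy with hy2 | hy2
    · obtain ⟨w, hw, hw0, hyw⟩ := hinv x y hx hy hanti hy2
      have m1 : w ∈ Submodule.span F {w, V F x w} := Submodule.subset_span (by simp)
      have m2 : V F x w ∈ Submodule.span F {w, V F x w} := Submodule.subset_span (by simp)
      refine hfin2 w hw hw0 (V F x w) (hst x hx w hw) m2 ?_ (by rw [hyw]; exact m1) ?_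
      · rcases hsq x hx with h3 | h3
        · rw [h3 w hw]; exact m1
        · rw [h3 w hw]; exact neg_mem m1
      · rw [hyx w hw, hyw]; exact neg_mem m2
    rcases hsq x hx with hx2 | hx2
    · obtain ⟨w, hw, hw0, hxw⟩ := hinv y x hy hx hyx hx2
      have m1 : w ∈ Submodule.span F {w, V F y w} := Submodule.subset_span (by simp)
      have m2 : V F y w ∈ Submodule.span F {w, V F y w} := Submodule.subset_span (by simp)
      refine hfin2 w hw hw0 (V F y w) (hst y hy w hw) (by rw [hxw]; exact m1) ?_ m2 ?_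
      · rw [hanti w hw, hxw]; exact neg_mem m2
      · rw [hy2 w hw]; exact neg_mem m1
    -- quaternions
    obtain ⟨a, b, hab⟩ : ∃ a b : F, a ^ 2 + b ^ 2 = -1 := by
      have hc : CharP F (ringChar F) := inferInstance
      have : Fintype F := Fintype.ofFinite F
      have hp : Fact (ringChar F).Prime := ⟨CharP.char_is_prime F (ringChar F)⟩
      obtain ⟨a, b, h3⟩ := CharP.sq_add_sq F (ringChar F) (-1)
      exact ⟨a, b, by rw [h3]; norm_num⟩
    have hzW : ∀ v ∈ W, V F x (V F y v) ∈ W := fun v hv => hst x hx _ (hst y hy v hv)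
    obtain ⟨w, hw, hw0, hew⟩ : ∃ w ∈ W, w ≠ 0 ∧ a • V F x w + b • V F y w = w := by
      have hxxy : ∀ v ∈ W, V F x (V F x (V F y v)) = - V F y v := fun v hv => hx2 _ (hst y hy v hv)
      have hyxy : ∀ v ∈ W, V F y (V F x (V F y v)) = V F x v := fun v hv => by
        rw [hyx _ (hst y hy v hv), hy2 v hv, map_neg, _root_.neg_neg]
      by_cases h3 : (a • V F x w1 + b • V F y w1) + w1 = 0
      · refine ⟨V F x (V F y w1), hzW w1 hw1, ?_, ?_⟩
        · intro h4
          apply hw10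
          rw [← V_inv y w1, ← V_inv x (V F y w1), h4, map_zero, map_zero]
        · have h4 : a • V F x w1 + b • V F y w1 = -w1 := eq_neg_of_add_eq_zero_left h3
          have h5 : V F x (V F y (a • V F x w1 + b • V F y w1)) = V F x (V F y (-w1)) := by rw [h4]
          rw [map_add, map_smul, map_smul, map_add, map_smul, map_smul, hy2 w1 hw1, hyx w1 hw1, map_neg, map_neg,
            hxxy w1 hw1, map_neg, map_neg] at h5
          rw [hxxy w1 hw1, hyxy w1 hw1]
          have h6 : V F x (V F y w1) = - (a • - - V F y w1 + b • - V F x w1) := by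
            rw [h5, _root_.neg_neg]
          rw [h6, _root_.neg_neg]
          simp only [smul_neg, neg_add, _root_.neg_neg]
      · refine ⟨_, add_mem (add_mem (W.smul_mem a (hst x hx w1 hw1)) (W.smul_mem b (hst y hy w1 hw1))) hw1, h3, ?_⟩
        simp only [map_add, map_smul, hx2 w1 hw1, hy2 w1 hw1, hyx w1 hw1, smul_add, smul_neg, smul_smul]
        have h4 : (a * a) • w1 + (b * b) • w1 = -w1 := by
          rw [← add_smul, show a * a + b * b = -1 by rw [← hab]; ring, neg_smul, one_smul]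
        have h5 : -((a * a) • w1) = w1 + (b * b) • w1 := by
          have : (a * a) • w1 = -w1 - (b * b) • w1 := by rw [← h4]; abel
          rw [this]; abel
        rw [h5, mul_comm b a]
        abel
    have hX : V F x w = -(a • w) + b • V F x (V F y w) := by
      conv_lhs => rw [← hew]
      rw [map_add, map_smul, map_smul, hx2 w hw, smul_neg]
    have hY : V F y w = -(a • V F x (V F y w)) - b • w := by
      conv_lhs => rw [← hew]
      rw [map_add, map_smul, map_smul, hy2 w hw, hyx w hw, smul_neg, smul_neg, sub_eq_add_neg]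
    have m1 : w ∈ Submodule.span F {w, V F x (V F y w)} := Submodule.subset_span (by simp)
    have m2 : V F x (V F y w) ∈ Submodule.span F {w, V F x (V F y w)} := Submodule.subset_span (by simp)
    have mx : V F x w ∈ Submodule.span F {w, V F x (V F y w)} := by
      have h := add_mem (neg_mem (Submodule.smul_mem _ a m1)) (Submodule.smul_mem _ b m2)
      rwa [← hX] at h
    have my : V F y w ∈ Submodule.span F {w, V F x (V F y w)} := by
      have h := sub_mem (neg_mem (Submodule.smul_mem _ a m2)) (Submodule.smul_mem _ b m1)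
      rwa [← hY] at h
    refine hfin2 w hw hw0 (V F x (V F y w)) (hzW w hw) mx ?_ my ?_
    · rw [hx2 _ (hst y hy w hw)]; exact neg_mem my
    · rw [hyx _ (hst y hy w hw), hy2 w hw, map_neg, _root_.neg_neg]; exact mx

include hM hn hn' in
/-- **no fixed vectors** -/
theorem no_fixed {ψ : ↥(alternatingGroup (Fin n)) →* Gh F} (hψ : Lift φ ψ) :
    Representation.invariants (MonoidHom.comp (V F) ψ) = ⊥ := by
  by_contra hne
  set W : Submodule F (D1 → F) := Representation.invariants (MonoidHom.comp (V F) ψ) with hWdef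
  have memW : ∀ w, w ∈ W ↔ ∀ a, V F (ψ a) w = w := by
    intro w
    rw [hWdef, Representation.mem_invariants]
    rfl
  have hcom : commutator ↥(alternatingGroup (Fin n)) = ⊤ := alt_perfect hn
  -- elements of the preimage of the alternating group act as scalars on `W`
  have hscal : ∀ g, ad F g ∈ φ.range → (∀ w ∈ W, V F g w = w) ∨ ∀ w ∈ W, V F g w = -w := by
    intro g hg
    obtain ⟨a, ha⟩ := hg
    have h1 : ad F ((ψ a)⁻¹ * g) = 1 := by rw [map_mul, map_inv, hψ, ha, inv_mul_cancel]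
    have h2 : g = ψ a * ((ψ a)⁻¹ * g) := by rw [mul_inv_cancel_left]
    rcases ad_eq_one_iff.1 h1 with h3 | h3
    · left
      intro w hw
      rw [h2, V_mul, h3, Module.End.one_apply, (memW w).1 hw]
    · right
      intro w hw
      rw [h2, V_mul, neg_apply h3, map_neg, (memW w).1 hw]
  refine no_fixed_aux hM hn hn' hne ?_ hscal
  intro x hx w hw
  have h1 : ∀ a, ψ a ∈ Cfsg.Agent.H952.F4.MaxA.LS (V F) (V F x w) := by
    intro a
    have h2 : ad F (x⁻¹ * ψ a * x) ∈ φ.range := by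
      rw [map_mul, map_mul, map_inv, hψ]
      have := hM.norm (ad F x)⁻¹ (inv_mem hx) (φ a) ⟨a, rfl⟩
      rwa [inv_inv] at this
    have h3 : V F (ψ a) (V F x w) = V F x (V F (x⁻¹ * ψ a * x) w) := by
      rw [← V_mul, ← V_mul]
      congr 2
      group
    rcases hscal _ h2 with hc | hc
    · exact ⟨1, by rw [h3, hc w hw, Units.val_one, one_smul]⟩
    · exact ⟨-1, by rw [h3, hc w hw, map_neg, Units.val_neg, Units.val_one, neg_smul, one_smul]⟩
  have h2 : (⊤ : Subgroup ↥(alternatingGroup (Fin n))) ≤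
      (Cfsg.Agent.H952.F4.MaxA.VS (V F) (V F x w)).comap ψ := by
    rw [← hcom, commutator_def, Subgroup.commutator_le]
    intro a _ b _
    rw [Subgroup.mem_comap, commutatorElement_def, map_mul, map_mul, map_mul, map_inv, map_inv]
    exact Cfsg.Agent.H952.F4.MaxA.comm_mem (h1 a) (h1 b)
  rw [memW]
  intro a
  exact h2 (Subgroup.mem_top a)

end nofix

end card

end Cfsg.Agent.R2.T1
end

-- part: R2/T1/Inf/Tab
section
prune_inst 0x431004540742200000018000022000060740000920023080071000c40090f3701a0418f0156800b1001ee22e40838400813000049421000000a00040041180080008200022010090460000700b880000000000000000000000000000000041000000000000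
set_option linter.all false
open scoped Cfsg.Agent.FastGrp

/-!
# S5771, S5929: eigenvalue multiplicities of diagonal elements (helper11)

* `WL`, `RL` : coordinates of the 56 weights (relative to the lowest weight) and of the 63 positive roots;
* `cV N y t k`, `cL N y k` : the multiplicities of `ζ ^ k` for the element with `α_j = ζ ^ y_j`, lowest weight `ζ ^ t`;
* `ev_core` : they are the multiplicities;
* `pats N` : the list of the patterns of the alcove, `exists_pat`.
-/

set_option autoImplicit false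
set_option maxRecDepth 100000

namespace Cfsg.Agent.R2.T1

open Cfsg Cfsg.Lie Module
open Cfsg.Agent.ChevalleyStructure Cfsg.Agent.ChevalleyStructure.Elts Cfsg.Agent.ChevalleyStructure.RootVec
  Cfsg.Agent.ChevalleyStructure.RootVecTab Cfsg.Agent.ChevalleyStructure.CoxeterGeomTypes
open Cfsg.Agent.H943.E7V.Block (D1 rho)
open Cfsg.Agent.H952.F4 (ev es)

universe u

/-- the weights: index in the root system of type `E₈`, coordinates relative to the lowest weight 120 -/
def WL : List (ℕ × List ℕ) :=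
  [(120, [0, 0, 0, 0, 0, 0, 0]), (122, [0, 0, 0, 0, 0, 0, 1]), (125, [0, 0, 0, 0, 0, 1, 1]), (129, [0, 0, 0,
  0, 1, 1, 1]), (134, [0, 0, 0, 1, 1, 1, 1]), (140, [0, 0, 1, 1, 1, 1, 1]), (146, [0, 1, 0, 1, 1, 1, 1]),
  (151, [0, 1, 1, 1, 1, 1, 1]), (155, [0, 1, 1, 2, 1, 1, 1]), (158, [0, 1, 1, 2, 2, 1, 1]), (160, [0, 1, 1,
  2, 2, 2, 1]), (161, [0, 1, 1, 2, 2, 2, 2]), (168, [1, 0, 1, 1, 1, 1, 1]), (173, [1, 1, 1, 1, 1, 1, 1]),
  (177, [1, 1, 1, 2, 1, 1, 1]), (180, [1, 1, 1, 2, 2, 1, 1]), (182, [1, 1, 1, 2, 2, 2, 1]), (183, [1, 1, 1,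
  2, 2, 2, 2]), (187, [1, 1, 2, 2, 1, 1, 1]), (190, [1, 1, 2, 2, 2, 1, 1]), (192, [1, 1, 2, 2, 2, 2, 1]),
  (193, [1, 1, 2, 2, 2, 2, 2]), (196, [1, 1, 2, 3, 2, 1, 1]), (198, [1, 1, 2, 3, 2, 2, 1]), (199, [1, 1, 2,
  3, 2, 2, 2]), (201, [1, 1, 2, 3, 3, 2, 1]), (202, [1, 1, 2, 3, 3, 2, 2]), (203, [1, 1, 2, 3, 3, 3, 2]),
  (206, [1, 2, 2, 3, 2, 1, 1]), (208, [1, 2, 2, 3, 2, 2, 1]), (209, [1, 2, 2, 3, 2, 2, 2]), (211, [1, 2, 2,
  3, 3, 2, 1]), (212, [1, 2, 2, 3, 3, 2, 2]), (213, [1, 2, 2, 3, 3, 3, 2]), (215, [1, 2, 2, 4, 3, 2, 1]),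
  (216, [1, 2, 2, 4, 3, 2, 2]), (217, [1, 2, 2, 4, 3, 3, 2]), (218, [1, 2, 2, 4, 4, 3, 2]), (220, [1, 2, 3,
  4, 3, 2, 1]), (221, [1, 2, 3, 4, 3, 2, 2]), (222, [1, 2, 3, 4, 3, 3, 2]), (223, [1, 2, 3, 4, 4, 3, 2]),
  (224, [1, 2, 3, 5, 4, 3, 2]), (225, [1, 3, 3, 5, 4, 3, 2]), (227, [2, 2, 3, 4, 3, 2, 1]), (228, [2, 2, 3,
  4, 3, 2, 2]), (229, [2, 2, 3, 4, 3, 3, 2]), (230, [2, 2, 3, 4, 4, 3, 2]), (231, [2, 2, 3, 5, 4, 3, 2]),
  (232, [2, 2, 4, 5, 4, 3, 2]), (233, [2, 3, 3, 5, 4, 3, 2]), (234, [2, 3, 4, 5, 4, 3, 2]), (235, [2, 3, 4,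
  6, 4, 3, 2]), (236, [2, 3, 4, 6, 5, 3, 2]), (237, [2, 3, 4, 6, 5, 4, 2]), (238, [2, 3, 4, 6, 5, 4, 3])]

/-- the positive roots: index and coordinates -/
def RL : List (ℕ × List ℕ) :=
  [(63, [0, 0, 0, 0, 0, 0, 1]), (64, [0, 0, 0, 0, 0, 1, 0]), (65, [0, 0, 0, 0, 0, 1, 1]), (66, [0, 0, 0, 0,
  1, 0, 0]), (67, [0, 0, 0, 0, 1, 1, 0]), (68, [0, 0, 0, 0, 1, 1, 1]), (69, [0, 0, 0, 1, 0, 0, 0]), (70, [0,
  0, 0, 1, 1, 0, 0]), (71, [0, 0, 0, 1, 1, 1, 0]), (72, [0, 0, 0, 1, 1, 1, 1]), (73, [0, 0, 1, 0, 0, 0, 0]),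
  (74, [0, 0, 1, 1, 0, 0, 0]), (75, [0, 0, 1, 1, 1, 0, 0]), (76, [0, 0, 1, 1, 1, 1, 0]), (77, [0, 0, 1, 1, 1,
  1, 1]), (78, [0, 1, 0, 0, 0, 0, 0]), (79, [0, 1, 0, 1, 0, 0, 0]), (80, [0, 1, 0, 1, 1, 0, 0]), (81, [0, 1,
  0, 1, 1, 1, 0]), (82, [0, 1, 0, 1, 1, 1, 1]), (83, [0, 1, 1, 1, 0, 0, 0]), (84, [0, 1, 1, 1, 1, 0, 0]),
  (85, [0, 1, 1, 1, 1, 1, 0]), (86, [0, 1, 1, 1, 1, 1, 1]), (87, [0, 1, 1, 2, 1, 0, 0]), (88, [0, 1, 1, 2, 1,
  1, 0]), (89, [0, 1, 1, 2, 1, 1, 1]), (90, [0, 1, 1, 2, 2, 1, 0]), (91, [0, 1, 1, 2, 2, 1, 1]), (92, [0, 1,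
  1, 2, 2, 2, 1]), (93, [1, 0, 0, 0, 0, 0, 0]), (94, [1, 0, 1, 0, 0, 0, 0]), (95, [1, 0, 1, 1, 0, 0, 0]),
  (96, [1, 0, 1, 1, 1, 0, 0]), (97, [1, 0, 1, 1, 1, 1, 0]), (98, [1, 0, 1, 1, 1, 1, 1]), (99, [1, 1, 1, 1, 0,
  0, 0]), (100, [1, 1, 1, 1, 1, 0, 0]), (101, [1, 1, 1, 1, 1, 1, 0]), (102, [1, 1, 1, 1, 1, 1, 1]), (103, [1,
  1, 1, 2, 1, 0, 0]), (104, [1, 1, 1, 2, 1, 1, 0]), (105, [1, 1, 1, 2, 1, 1, 1]), (106, [1, 1, 1, 2, 2, 1,
  0]), (107, [1, 1, 1, 2, 2, 1, 1]), (108, [1, 1, 1, 2, 2, 2, 1]), (109, [1, 1, 2, 2, 1, 0, 0]), (110, [1, 1,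
  2, 2, 1, 1, 0]), (111, [1, 1, 2, 2, 1, 1, 1]), (112, [1, 1, 2, 2, 2, 1, 0]), (113, [1, 1, 2, 2, 2, 1, 1]),
  (114, [1, 1, 2, 2, 2, 2, 1]), (115, [1, 1, 2, 3, 2, 1, 0]), (116, [1, 1, 2, 3, 2, 1, 1]), (117, [1, 1, 2,
  3, 2, 2, 1]), (118, [1, 1, 2, 3, 3, 2, 1]), (119, [1, 2, 2, 3, 2, 1, 0]), (120, [1, 2, 2, 3, 2, 1, 1]),
  (121, [1, 2, 2, 3, 2, 2, 1]), (122, [1, 2, 2, 3, 3, 2, 1]), (123, [1, 2, 2, 4, 3, 2, 1]), (124, [1, 2, 3,
  4, 3, 2, 1]), (125, [2, 2, 3, 4, 3, 2, 1])]

/-- the scalar product -/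
def dt : List ℕ → List ℕ → ℕ
  | a :: as, b :: bs => a * b + dt as bs
  | _, _ => 0

/-- the sum of `f` over a list -/
def cnt {α : Type} (p : α → Bool) : List α → ℕ
  | [] => 0
  | a :: as => (if p a then 1 else 0) + cnt p as

theorem cnt_eq {α : Type} (p : α → Bool) (l : List α) : cnt p l = (l.map fun a => if p a then 1 else 0).sum := by
  induction l with
  | nil => rfl
  | cons a as ih => rw [cnt, ih, List.map_cons, List.sum_cons]

/-- the multiplicity of `ζ ^ k` on the 56-dimensional module -/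
def cV (N : ℕ) (y : List ℕ) (t k : ℕ) : ℕ := cnt (fun w => (t + dt w.2 y) % N == k) WL

/-- the multiplicity of `ζ ^ k` on the adjoint module -/
def cL (N : ℕ) (y : List ℕ) (k : ℕ) : ℕ :=
  (if k = 0 then 7 else 0) + (cnt (fun w => dt w.2 y % N == k) RL + cnt (fun w => (dt w.2 y + k) % N == 0) RL)

/-! ### fast evaluation of `cV`, `cL` (helper4) : all the multiplicities are the digits of one number -/

namespace Fq

/-- the weights -/
def pV (A B C D E F G : ℕ) : ℕ :=
  (Nat.succ (Nat.mul G (Nat.succ (Nat.mul F (Nat.succ (Nat.mul E (Nat.succ (Nat.mul D (Nat.succ (Nat.add B (Nat.mul C (Nat.succ (Nat.add A (Nat.mul B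
  (Nat.succ (Nat.add A (Nat.mul D (Nat.succ (Nat.add (Nat.mul A (Nat.succ C)) (Nat.mul E (Nat.succ (Nat.add (Nat.mul A (Nat.succ (Nat.mul C (Nat.succ
  (Nat.mul D (Nat.succ B)))))) (Nat.mul F (Nat.succ (Nat.add (Nat.mul A (Nat.succ (Nat.mul C (Nat.succ (Nat.mul D (Nat.succ (Nat.add B (Nat.mul E
  (Nat.succ (Nat.mul B (Nat.succ (Nat.mul D (Nat.succ (Nat.mul C (Nat.succ A))))))))))))))) (Nat.mul G (Nat.succ (Nat.mul A (Nat.succ (Nat.mul C
  (Nat.succ (Nat.mul D (Nat.succ (Nat.add B (Nat.mul E (Nat.succ (Nat.add (Nat.mul B (Nat.succ (Nat.mul D (Nat.succ (Nat.mul C (Nat.succ A))))))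
  (Nat.mul F (Nat.succ (Nat.mul B (Nat.succ (Nat.mul D (Nat.succ (Nat.add (Nat.mul C (Nat.succ A)) (Nat.mul E (Nat.succ (Nat.mul C (Nat.succ (Nat.add
  A (Nat.mul D (Nat.succ (Nat.add (Nat.mul A (Nat.succ (Nat.mul C (Nat.succ (Nat.mul B (Nat.succ (Nat.mul D (Nat.succ (Nat.mul E (Nat.succ (Nat.mul F
  (Nat.succ G)))))))))))) (Nat.mul B (Nat.succ A))))))))))))))))))))))))))))))))))))))))))))))))))))))

/-- the positive roots -/
def pL (A B C D E F G : ℕ) : ℕ :=
  (Nat.add (Nat.add (Nat.add (Nat.add (Nat.add (Nat.add A B) (Nat.mul C (Nat.succ A))) (Nat.mul D (Nat.succ (Nat.add B (Nat.mul C (Nat.succ (Nat.add A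
  (Nat.mul B (Nat.succ A))))))))) (Nat.mul E (Nat.succ (Nat.mul D (Nat.succ (Nat.add B (Nat.mul C (Nat.succ (Nat.add A (Nat.mul B (Nat.succ (Nat.add A
  (Nat.mul D (Nat.succ (Nat.mul A (Nat.succ C)))))))))))))))) (Nat.mul F (Nat.succ (Nat.mul E (Nat.succ (Nat.mul D (Nat.succ (Nat.add B (Nat.mul C
  (Nat.succ (Nat.add A (Nat.mul B (Nat.succ (Nat.add A (Nat.mul D (Nat.succ (Nat.add (Nat.mul A (Nat.succ C)) (Nat.mul E (Nat.succ (Nat.mul A
  (Nat.succ (Nat.mul C (Nat.succ (Nat.mul D (Nat.succ B))))))))))))))))))))))))) (Nat.mul G (Nat.succ (Nat.mul F (Nat.succ (Nat.mul E (Nat.succ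
  (Nat.mul D (Nat.succ (Nat.add B (Nat.mul C (Nat.succ (Nat.add A (Nat.mul B (Nat.succ (Nat.add A (Nat.mul D (Nat.succ (Nat.add (Nat.mul A (Nat.succ
  C)) (Nat.mul E (Nat.succ (Nat.add (Nat.mul A (Nat.succ (Nat.mul C (Nat.succ (Nat.mul D (Nat.succ B)))))) (Nat.mul F (Nat.succ (Nat.mul A (Nat.succ
  (Nat.mul C (Nat.succ (Nat.mul D (Nat.succ (Nat.add B (Nat.mul E (Nat.succ (Nat.mul B (Nat.succ (Nat.mul D (Nat.succ (Nat.mul C (Nat.succ
  A)))))))))))))))))))))))))))))))))))))))

/-- the head and the tail -/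
noncomputable def hd (y : List ℕ) (f : ℕ → List ℕ → ℕ) : ℕ :=
  List.rec (f 1 []) (fun a l _ => Nat.rec (f 0 l) (fun m _ => f (Nat.succ m) l) (Nat.pow 256 a)) y

/-- the value at the powers of `256` -/
noncomputable def ev7 (p : ℕ → ℕ → ℕ → ℕ → ℕ → ℕ → ℕ → ℕ) (y : List ℕ) : ℕ :=
  hd y fun A y => hd y fun B y => hd y fun C y => hd y fun D y => hd y fun E y => hd y fun F y => hd y fun G _ => p A B C D E F G

/-- the multiplicities -/
noncomputable def hs (N x : ℕ) : ℕ := Nat.mod x (Nat.pred (Nat.pow 256 N))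

/-- a digit -/
def dg (x k : ℕ) : ℕ := Nat.mod (Nat.shiftRight x (Nat.mul 8 k)) 256

/-- `cV` -/
noncomputable def fV (N : ℕ) (y : List ℕ) (t k : ℕ) : ℕ := dg (hs N (Nat.mul (Nat.pow 256 t) (ev7 pV y))) k

/-- `cL` -/
noncomputable def fL (N : ℕ) (y : List ℕ) (k : ℕ) : ℕ :=
  Nat.add (cond (Nat.beq k 0) 7 0) (Nat.add (dg (hs N (ev7 pL y)) k) (dg (hs N (ev7 pL y)) (Nat.mod (Nat.sub N (Nat.mod k N)) N)))

theorem hd_eq (y : List ℕ) (f : ℕ → List ℕ → ℕ) : hd y f = f (256 ^ y.headD 0) y.tail := by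
  cases y with
  | nil => rfl
  | cons a l =>
    show Nat.rec (f 0 l) (fun m _ => f (Nat.succ m) l) (256 ^ a) = f (256 ^ a) l
    cases 256 ^ a <;> rfl

theorem pw_cons (a : ℕ) (w y : List ℕ) : 256 ^ dt (a :: w) y = (256 ^ y.headD 0) ^ a * 256 ^ dt w y.tail := by
  rw [← pow_mul, ← pow_add, mul_comm]
  cases y with
  | nil => cases w <;> rfl
  | cons b l => rfl

theorem pw_nil (y : List ℕ) : 256 ^ dt [] y = 1 := by cases y <;> rfl

theorem pV_eq (y : List ℕ) : ev7 pV y = (WL.map fun w => 256 ^ dt w.2 y).sum := by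
  delta ev7 WL pV
  simp only [hd_eq, List.map_cons, List.map_nil, List.sum_cons, List.sum_nil, pw_cons, pw_nil, Nat.mul_eq, Nat.add_eq, Nat.succ_eq_add_one]
  ring

theorem pL_eq (y : List ℕ) : ev7 pL y = (RL.map fun w => 256 ^ dt w.2 y).sum := by
  delta ev7 RL pL
  simp only [hd_eq, List.map_cons, List.map_nil, List.sum_cons, List.sum_nil, pw_cons, pw_nil, Nat.mul_eq, Nat.add_eq, Nat.succ_eq_add_one]
  ring

theorem hist {α : Type} (e : α → ℕ) (k : ℕ) (L : List α) : ∃ lo hi, (L.map fun w => 256 ^ e w).sum =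
    lo + 256 ^ k * (cnt (fun w => e w == k) L + 256 * hi) ∧ 256 * lo ≤ L.length * 256 ^ k ∧ cnt (fun w => e w == k) L ≤ L.length := by
  induction L with
  | nil => exact ⟨0, 0, rfl, Nat.zero_le _, le_rfl⟩
  | cons a L ih =>
    obtain ⟨lo, hi, h1, h2, h3⟩ := ih
    rw [List.map_cons, List.sum_cons, h1, List.length_cons, add_one_mul]
    change ∃ lo' hi', _ = lo' + 256 ^ k * ((if (e a == k) = true then 1 else 0) + _ + 256 * hi') ∧ _ ∧
      (if (e a == k) = true then 1 else 0) + _ ≤ _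
    rcases lt_trichotomy (e a) k with h | h | h
    · rw [if_neg (by simpa using h.ne)]
      have h4 : 256 ^ (e a + 1) ≤ 256 ^ k := Nat.pow_le_pow_right (by decide) h
      exact ⟨256 ^ e a + lo, hi, by ring, by omega, by omega⟩
    · rw [if_pos (by simpa using h), h]
      exact ⟨lo, hi, by ring, h2.trans (Nat.le_add_right _ _), by omega⟩
    · obtain ⟨m, h4⟩ := Nat.exists_eq_add_of_lt h
      rw [if_neg (by simpa using h.ne'), h4]
      exact ⟨lo, hi + 256 ^ m, by ring, h2.trans (Nat.le_add_right _ _), by omega⟩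

theorem dg_hs {α : Type} (e : α → ℕ) {N : ℕ} (hN : 0 < N) {L : List α} (hL : L.length < 255) (k : ℕ) :
    dg (hs N (L.map fun w => 256 ^ e w).sum) k = cnt (fun w => e w % N == k) L := by
  have h1 : (L.map fun w => 256 ^ e w).sum ≡ (L.map fun w => 256 ^ (e w % N)).sum [MOD 256 ^ N - 1] := by
    clear hL
    induction L with
    | nil => rfl
    | cons a L ih =>
      refine Nat.ModEq.add ?_ ih
      have h2 : 256 ^ N ≡ 1 [MOD 256 ^ N - 1] := ((Nat.modEq_iff_dvd' (Nat.pow_pos (by decide))).2 dvd_rfl).symm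
      have h3 := (h2.pow (e a / N)).mul_left (256 ^ (e a % N))
      rwa [← pow_mul, ← pow_add, Nat.mod_add_div, one_pow, mul_one] at h3
  obtain ⟨M, rfl⟩ : ∃ M, N = M + 1 := ⟨_, (Nat.succ_pred_eq_of_pos hN).symm⟩
  have h2 := List.sum_le_card_nsmul (L.map fun w => 256 ^ (e w % (M + 1))) (256 ^ M) fun x hx => by
    obtain ⟨w, -, rfl⟩ := List.mem_map.1 hx
    exact Nat.pow_le_pow_right (by decide) (Nat.le_of_lt_succ (Nat.mod_lt (e w) hN))
  have h3 : ∀ u, 0 < u → 254 * u < u * 256 - 1 := fun u hu => by omega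
  rw [List.length_map, smul_eq_mul] at h2
  have h4 := (h2.trans (Nat.mul_le_mul_right (256 ^ M) (Nat.le_of_lt_succ hL))).trans_lt (h3 _ (Nat.pow_pos (by decide)))
  rw [← pow_succ] at h4
  obtain ⟨lo, hi, h5, h6, h7⟩ := hist (fun w => e w % (M + 1)) k L
  have h8 := h6.trans (Nat.mul_le_mul_right (256 ^ k) hL.le)
  have h9 : 0 < 256 ^ k := Nat.pow_pos (by decide)
  change ((L.map fun w => 256 ^ e w).sum % (256 ^ (M + 1) - 1)) >>> (8 * k) % 256 = _
  rw [h1, Nat.mod_eq_of_lt h4, Nat.shiftRight_eq_div_pow, pow_mul, h5, show 2 ^ 8 = 256 from rfl,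
    Nat.add_mul_div_left _ _ h9, Nat.div_eq_of_lt (by omega), zero_add, Nat.add_mul_mod_self_left,
    Nat.mod_eq_of_lt ((h7.trans_lt hL).trans (by decide))]

theorem cV_eq {N : ℕ} (hN : 0 < N) : cV N = fV N := by
  funext y t k
  delta cV fV
  rw [pV_eq, Nat.mul_eq, Nat.pow_eq, ← List.sum_map_mul_left]
  simp only [← pow_add]
  exact (dg_hs (fun w : ℕ × List ℕ => t + dt w.2 y) hN (by decide +kernel) k).symm

theorem cL_eq {N : ℕ} (hN : 0 < N) : cL N = fL N := by
  funext y k
  delta cL fL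
  rw [pL_eq, dg_hs _ hN (by decide +kernel), dg_hs _ hN (by decide +kernel)]
  refine congrArg₂ (· + ·) (by cases k <;> rfl) (congrArg₂ (· + ·) rfl (congrArg (cnt · RL) (funext fun w => ?_)))
  change ((dt w.2 y + k) % N == 0) = (dt w.2 y % N == (N - k % N) % N)
  have h1 := Nat.mod_lt (dt w.2 y) hN
  have h2 := Nat.mod_lt k hN
  rw [Bool.eq_iff_iff, beq_iff_eq, beq_iff_eq, Nat.add_mod]
  generalize dt w.2 y % N = a at *
  generalize k % N = b at *
  rcases b.eq_zero_or_pos with rfl | h3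
  · rw [add_zero, Nat.sub_zero, Nat.mod_self, Nat.mod_eq_of_lt h1]
  · rw [Nat.mod_eq_of_lt (show N - b < N by omega)]
    by_cases h4 : a + b < N
    · rw [Nat.mod_eq_of_lt h4]
      omega
    · rw [Nat.mod_eq_sub_mod (by omega), Nat.mod_eq_of_lt (by omega)]
      omega

end Fq

theorem WL_rt : ∀ w ∈ WL, ∀ j < 7, rt chevE8 w.1 j = (w.2.getD j 0 : ℤ) := by decide +kernel
theorem RL_rt : ∀ w ∈ RL, ∀ j < 7, rt chevE7 w.1 j = (w.2.getD j 0 : ℤ) := by decide +kernel
theorem RL_rt' : ∀ w ∈ RL, ∀ j < 7, rt chevE7 (125 - w.1) j = -(w.2.getD j 0 : ℤ) := by decide +kernel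
theorem WL_len : ∀ w ∈ WL, w.2.length = 7 := by decide +kernel
theorem RL_len : ∀ w ∈ RL, w.2.length = 7 := by decide +kernel
theorem WL_mem : ∀ k < 240, rt chevE8 k 7 = 1 ↔ k ∈ WL.map Prod.fst := by decide +kernel
theorem WL_lt : ∀ w ∈ WL, w.1 < 240 := by decide +kernel
theorem RL_lt : ∀ w ∈ RL, w.1 < 126 := by decide +kernel
theorem WL_nodup : (WL.map Prod.fst).Nodup := by decide +kernel
theorem RL_fst : RL.map Prod.fst = List.range' 63 63 := by decide +kernel

theorem dt_eq : ∀ (w y : List ℕ), w.length = y.length → dt w y = ∑ j ∈ Finset.range y.length, w.getD j 0 * y.getD j 0 := by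
  intro w
  induction w with
  | nil =>
    intro y hy
    rw [List.length_nil] at hy
    rw [← hy, Finset.sum_range_zero]
    rfl
  | cons a as ih =>
    intro y hy
    cases y with
    | nil => simp at hy
    | cons b bs =>
      rw [List.length_cons, List.length_cons] at hy
      rw [List.length_cons, Finset.sum_range_succ', dt, ih bs (by omega), add_comm]
      rfl

/-- sums over the weights -/
theorem sum_D1 {M : Type*} [AddCommMonoid M] (f : ℕ → M) : ∑ s : D1, f (nn s) = (WL.map fun w => f w.1).sum := by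
  classical
  have h1 : (Finset.univ.image fun s : D1 => nn s) = (WL.map Prod.fst).toFinset := by
    ext k
    rw [Finset.mem_image, List.mem_toFinset]
    constructor
    · rintro ⟨s, -, rfl⟩
      exact (WL_mem _ (nn_lt s)).1 (rt_nn s)
    · intro hk
      have hlt : k < 240 := by
        obtain ⟨w, hw, rfl⟩ := List.mem_map.1 hk
        exact WL_lt w hw
      exact ⟨⟨⟨k, hlt⟩, (WL_mem k hlt).2 hk⟩, Finset.mem_univ _, rfl⟩
  rw [← Finset.sum_image (f := f) (g := fun s : D1 => nn s) (fun a _ b _ h => nn_inj h), h1,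
    List.sum_toFinset _ WL_nodup, List.map_map]
  rfl

theorem list_sum_range {M : Type*} [AddCommMonoid M] (h : ℕ → M) (n : ℕ) :
    ((List.range n).map h).sum = ∑ k ∈ Finset.range n, h k := by
  induction n with
  | zero => rfl
  | succ n ih => rw [List.range_succ, List.map_append, List.sum_append, ih, Finset.sum_range_succ, List.map_singleton,
      List.sum_singleton]

/-- sums over the roots -/
theorem sum_roots {M : Type*} [AddCommMonoid M] (f : ℕ → M) : ∑ s : Fin chevE7.nroots, f s =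
    (RL.map fun w => f w.1).sum + (RL.map fun w => f (125 - w.1)).sum := by
  have h0 : ∑ s : Fin chevE7.nroots, f s = ∑ k ∈ Finset.range 126, f k := (Finset.sum_range f).symm
  have h1 : ∀ g : ℕ → M, (RL.map fun w => g w.1).sum = ∑ k ∈ Finset.range 63, g (63 + k) := by
    intro g
    have h2 : (RL.map fun w => g w.1) = (RL.map Prod.fst).map g := by rw [List.map_map]; rfl
    rw [h2, RL_fst, List.range'_eq_map_range, List.map_map, list_sum_range]
    rfl
  have h3 : ∑ k ∈ Finset.range 63, f (125 - (63 + k)) = ∑ k ∈ Finset.range 63, f k := by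
    rw [← Finset.sum_range_reflect (fun k => f k) 63]
    exact Finset.sum_congr rfl fun k hk => by
      have := Finset.mem_range.1 hk
      congr 1
      omega
  rw [h0, h1 f, h1 fun k => f (125 - k), h3, show 126 = 63 + 63 from rfl, Finset.sum_range_add, add_comm]

section
variable {K : Type u} [Field K]

/-- the values of the roots in terms of the values of the simple roots -/
theorem rtv_eq {r : ℕ} (hr : r < 126) (c : Fin chevE7.rank → Kˣ) :
    rtv r c = ∏ j ∈ Finset.range 7, rtv (chevE7.simple j) c ^ rt chevE7 r j := by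
  have h1 : ∀ i : Fin chevE7.rank, c i ^ chevE7.cartan i r =
      ∏ j ∈ Finset.range 7, (c i ^ chevE7.cartan i (chevE7.simple j)) ^ rt chevE7 r j := by
    intro i
    rw [cartan_eq_sum checked_E7 (show (i : ℕ) < 7 from i.2) hr]
    show c i ^ ∑ j ∈ Finset.range 7, _ = _
    rw [← Cfsg.Agent.H129.StCover.prod_zpow_sum]
    exact Finset.prod_congr rfl fun j _ => by rw [← zpow_mul, mul_comm]
  unfold rtv
  rw [Finset.prod_congr rfl fun i _ => h1 i, Finset.prod_comm]
  refine Finset.prod_congr rfl fun j _ => ?_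
  rw [Finset.prod_zpow]

theorem simple_bot : chevE8.simple 7 = 120 := by decide +kernel

theorem wt_eq' (s : D1) (c : Fin chevE7.rank → Kˣ) :
    wt s c = wt botv c * ∏ j ∈ Finset.range 7, rtv (chevE7.simple j) c ^ rt chevE8 (nn s) j := by
  have h1 : ∀ i : Fin chevE7.rank, c i ^ chevE8.cartan i (nn s) =
      c i ^ chevE8.cartan i (nn botv) *
        ∏ j ∈ Finset.range 7, (c i ^ chevE7.cartan i (chevE7.simple j)) ^ rt chevE8 (nn s) j := by
    intro i
    have hi : (i : ℕ) < 7 := i.2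
    rw [cartan_eq_sum checked_E8 (show (i : ℕ) < 8 by omega) (nn_lt s)]
    show c i ^ ∑ j ∈ Finset.range (7 + 1), _ = _
    rw [Finset.sum_range_succ, rt_nn, one_mul, simple_bot, zpow_add, mul_comm,
      ← Cfsg.Agent.H129.StCover.prod_zpow_sum]
    congr 1
    refine Finset.prod_congr rfl fun j hj => ?_
    rw [← zpow_mul, cart_simple i hi j (Finset.mem_range.1 hj), mul_comm]
  unfold wt rtv
  rw [Finset.prod_congr rfl fun i _ => h1 i, Finset.prod_mul_distrib, Finset.prod_comm]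
  congr 1
  refine Finset.prod_congr rfl fun j _ => ?_
  rw [Finset.prod_zpow]

section pow
variable {N : ℕ} {ζ : Kˣ} {c : Fin chevE7.rank → Kˣ} {y : List ℕ} (hy : y.length = 7)
  (h : ∀ j < 7, rtv (chevE7.simple j) c = ζ ^ y.getD j 0)

include hy h

theorem rtv_pow {w : ℕ × List ℕ} (hw : w ∈ RL) (hlt : w.1 < 126) : rtv w.1 c = ζ ^ dt w.2 y := by
  rw [rtv_eq hlt, dt_eq w.2 y ((RL_len w hw).trans hy.symm), hy, ← Finset.prod_pow_eq_pow_sum]
  refine Finset.prod_congr rfl fun j hj => ?_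
  rw [RL_rt w hw j (Finset.mem_range.1 hj), h j (Finset.mem_range.1 hj), zpow_natCast, ← pow_mul, mul_comm]

theorem rtv_pow' {w : ℕ × List ℕ} (hw : w ∈ RL) (hlt : 125 - w.1 < 126) : rtv (125 - w.1) c = (ζ ^ dt w.2 y)⁻¹ := by
  rw [rtv_eq hlt, dt_eq w.2 y ((RL_len w hw).trans hy.symm), hy, ← Finset.prod_pow_eq_pow_sum, ← Finset.prod_inv_distrib]
  refine Finset.prod_congr rfl fun j hj => ?_
  rw [RL_rt' w hw j (Finset.mem_range.1 hj), h j (Finset.mem_range.1 hj), zpow_neg, zpow_natCast, ← pow_mul, mul_comm]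

theorem wt_pow {t : ℕ} (ht : wt botv c = ζ ^ t) {w : ℕ × List ℕ} (hw : w ∈ WL) (s : D1) (hs : nn s = w.1) :
    wt s c = ζ ^ (t + dt w.2 y) := by
  rw [wt_eq', ht, pow_add, dt_eq w.2 y ((WL_len w hw).trans hy.symm), hy, ← Finset.prod_pow_eq_pow_sum, hs]
  congr 1
  refine Finset.prod_congr rfl fun j hj => ?_
  rw [WL_rt w hw j (Finset.mem_range.1 hj), h j (Finset.mem_range.1 hj), zpow_natCast, ← pow_mul, mul_comm]

variable (hζ : IsPrimitiveRoot ζ N)

include hζ

open Classical in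
/-- **the multiplicities on the 56-dimensional module** -/
theorem ev_V_core {t : ℕ} (ht : wt botv c = ζ ^ t) {k : ℕ} (hk : k < N) :
    ev (V K (Phi K c)) ((ζ : K) ^ k) = cV N y t k := by
  rw [ev_V_Phi, Finset.card_filter]
  let f : ℕ → ℕ := fun n => if h : ∃ s : D1, nn s = n then (if wt h.choose c = ζ ^ k then 1 else 0) else 0
  have h1 : ∀ s : D1, (if ((wt s c : Kˣ) : K) = (ζ : K) ^ k then 1 else 0) = f (nn s) := by
    intro s
    have hex : ∃ s' : D1, nn s' = nn s := ⟨s, rfl⟩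
    have h2 : hex.choose = s := nn_inj hex.choose_spec
    simp only [f, dif_pos hex, h2]
    have h3 : ((wt s c : Kˣ) : K) = (ζ : K) ^ k ↔ wt s c = ζ ^ k := by
      rw [← Units.val_pow_eq_pow_val, Units.val_inj]
    simp only [h3]
  rw [Finset.sum_congr rfl fun s _ => h1 s, sum_D1, cV, cnt_eq]
  congr 1
  refine List.map_congr_left fun w hw => ?_
  obtain ⟨s, hs⟩ : ∃ s : D1, nn s = w.1 := by
    have h2 : w.1 ∈ WL.map Prod.fst := List.mem_map.2 ⟨w, hw, rfl⟩
    exact ⟨⟨⟨w.1, WL_lt w hw⟩, (WL_mem w.1 (WL_lt w hw)).2 h2⟩, rfl⟩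
  have hex : ∃ s' : D1, nn s' = w.1 := ⟨s, hs⟩
  simp only [f, dif_pos hex]
  rw [wt_pow hy h ht hw _ hex.choose_spec]
  have h3 : ζ ^ (t + dt w.2 y) = ζ ^ k ↔ ((t + dt w.2 y) % N == k) = true := by
    rw [beq_iff_eq, pow_eq_pow_iff_modEq, ← hζ.eq_orderOf, Nat.ModEq, Nat.mod_eq_of_lt hk]
  simp only [h3]

open Classical in
/-- **the multiplicities on the adjoint module** -/
theorem ev_L_core {k : ℕ} (hk : k < N) : ev (L K (Phi K c)) ((ζ : K) ^ k) = cL N y k := by
  rw [ev_L_Phi, Finset.card_filter, cL]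
  have h0 : (ζ : K) ^ k = 1 ↔ k = 0 := by
    rw [← Units.val_pow_eq_pow_val, Units.val_eq_one]
    constructor
    · intro h0
      by_contra hne
      exact hζ.pow_ne_one_of_pos_of_lt hne hk h0
    · rintro rfl
      exact pow_zero _
  simp only [h0]
  refine congrArg₂ (· + ·) (by by_cases hk0 : k = 0 <;> simp only [hk0, if_true, if_false]) ?_
  let f : ℕ → ℕ := fun n => if rtv n c = ζ ^ k then 1 else 0
  have h1 : ∀ s : Fin chevE7.nroots, (if ((rtv s c : Kˣ) : K) = (ζ : K) ^ k then 1 else 0) = f s := by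
    intro s
    have h3 : ((rtv s c : Kˣ) : K) = (ζ : K) ^ k ↔ rtv s c = ζ ^ k := by
      rw [← Units.val_pow_eq_pow_val, Units.val_inj]
    simp only [h3, f]
  have e1 : (RL.map fun w => f w.1) = RL.map fun w => if (dt w.2 y % N == k) = true then 1 else 0 := by
    refine List.map_congr_left fun w hw => ?_
    have h3 : rtv w.1 c = ζ ^ k ↔ (dt w.2 y % N == k) = true := by
      rw [rtv_pow hy h hw (RL_lt w hw), beq_iff_eq, pow_eq_pow_iff_modEq, ← hζ.eq_orderOf, Nat.ModEq, Nat.mod_eq_of_lt hk]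
    simp only [f, h3]
  have e2 : (RL.map fun w => f (125 - w.1)) = RL.map fun w => if ((dt w.2 y + k) % N == 0) = true then 1 else 0 := by
    refine List.map_congr_left fun w hw => ?_
    have h3 : rtv (125 - w.1) c = ζ ^ k ↔ ((dt w.2 y + k) % N == 0) = true := by
      rw [rtv_pow' hy h hw (by have := RL_lt w hw; omega), beq_iff_eq, inv_eq_iff_mul_eq_one, ← pow_add,
        ← orderOf_dvd_iff_pow_eq_one, ← hζ.eq_orderOf, Nat.dvd_iff_mod_eq_zero]
    simp only [f, h3]
  rw [Finset.sum_congr rfl fun s _ => h1 s, sum_roots, cnt_eq, cnt_eq, e1, e2]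

/-- the relation between the two -/
theorem core_rel {t : ℕ} (ht : wt botv c = ζ ^ t) : (2 * t + dt [2, 3, 4, 6, 5, 4, 3] y) % N = 0 := by
  have hw : ((238, [2, 3, 4, 6, 5, 4, 3]) : ℕ × List ℕ) ∈ WL := by decide +kernel
  have h1 := wt_pow hy h ht hw topv (by decide +kernel)
  have h2 := wt_bot c
  rw [ht, h1, ← mul_eq_one_iff_eq_inv, ← pow_add, ← orderOf_dvd_iff_pow_eq_one, ← hζ.eq_orderOf] at h2
  rw [← Nat.dvd_iff_mod_eq_zero]
  convert h2 using 1
  ring

end pow

end

end Cfsg.Agent.R2.T1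

private theorem dce_3b9bd1086e7d : _root_.True := by
  try have : _root_.True := by simp only [_root_.Cfsg.Agent.R2.T1.dt.eq_def]
  try have : _root_.True := by simp only [_root_.Cfsg.Agent.R2.T1.cnt.eq_1]
  try have : _root_.True := by simp only [_root_.Cfsg.Agent.R2.T1.cnt.eq_def]
  try have : _root_.True := by simp only [_root_.Cfsg.Agent.R2.T1.dt.eq_2]
  try have : _root_.True := by simp only [_root_.Cfsg.Agent.R2.T1.dt.eq_1]
  try have : _root_.True := by simp only [_root_.Cfsg.Agent.R2.T1.cV.eq_1]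
  try have : _root_.True := by simp only [_root_.Cfsg.Agent.R2.T1.cL.eq_1]
  try have : _root_.True := by simp only [_root_.Cfsg.Agent.R2.T1.cnt.eq_2]
  try have : _root_.True := by simp only [_root_.Cfsg.Agent.R2.T1.dt._sparseCasesOn_1.else_eq]
  exact _root_.True.intro
end

-- part: R2/T1/Five/Alc
section
set_option linter.all false
open scoped Cfsg.Agent.FastGrp

/-!
# Representatives of the elements of finite order in the alcove (helper25)

* `exists_alc` : an element of `Gh K` which is conjugate to an element of order dividing `N` of the torus is conjugate to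
  `Phi K c` with `rtv (chevE7.simple i) c = z ^ y i` and `∑ i, θ i * y i ≤ N`.
-/

set_option autoImplicit false
set_option maxRecDepth 100000

namespace Cfsg.Agent.R2.T1.Five

open Cfsg Cfsg.Lie Module
open Cfsg.Agent.ChevalleyStructure.CoxeterGeom Cfsg.Agent.Tits.Roots
  Cfsg.Agent.Nodes.RGDChev
open Cfsg.Agent.ChevalleyStructure Cfsg.Agent.ChevalleyStructure.Elts
  Cfsg.Agent.ChevalleyStructure.RootVec Cfsg.Agent.ChevalleyStructure.RootVecTab
  Cfsg.Agent.ChevalleyStructure.NPerm Cfsg.Agent.ChevalleyStructure.CoxeterGeomTypes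
open Cfsg.Agent.ChevalleyStructure.StBasic Cfsg.Agent.H129.StCover
open Cfsg.Agent.H944.RootVals Cfsg.Agent.H944.Kac Cfsg.Agent.H944.Tab Cfsg.Agent.H944.E7Two
open Cfsg.Agent.R2.T1

universe u

variable {K : Type u} [Field K]

section exps

variable {N : ℕ} [NeZero N] {z : Kˣ}

theorem zpow_val (hz : z ^ N = 1) (m : ℤ) : z ^ m = z ^ ((m : ZMod N).val) := by
  rw [← zpow_natCast, ZMod.val_intCast]
  have h1 : z ^ (N : ℤ) = 1 := by rw [zpow_natCast]; exact hz
  conv_lhs => rw [← Int.emod_add_mul_ediv m N]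
  rw [zpow_add, zpow_mul, h1, one_zpow, mul_one]

theorem pow_val (hz : z ^ N = 1) (m : ℕ) : z ^ m = z ^ ((m : ZMod N).val) := by
  have h := zpow_val hz (m : ℤ)
  rw [zpow_natCast] at h
  rw [h]
  congr 2
  push_cast
  rfl

theorem val_sub_mul (hz : z ^ N = 1) (a b : ZMod N) (m : ℤ) :
    z ^ (a - (m : ZMod N) * b).val = z ^ a.val * (z ^ b.val)⁻¹ ^ m := by
  have h := zpow_val hz ((a.val : ℤ) - m * b.val)
  have e : (((a.val : ℤ) - m * b.val : ℤ) : ZMod N) = a - (m : ZMod N) * b := by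
    push_cast
    rw [ZMod.natCast_zmod_val, ZMod.natCast_zmod_val]
  rw [e] at h
  rw [← h, zpow_sub, zpow_natCast, inv_zpow]
  congr 2
  rw [← zpow_natCast z b.val, ← zpow_mul, mul_comm]

end exps

/-- the action of a simple reflection on the values of the roots -/
theorem rtv_sAct (j : Fin chevE7.rank) (s : ℕ) (c : Fin chevE7.rank → Kˣ) :
    rtv s (sAct chevE7 K j c) = rtv s c * (rtv (chevE7.simple j) c)⁻¹ ^ chevE7.cartan j s := by
  unfold rtv
  have h1 : ∀ i : Fin chevE7.rank, sAct chevE7 K j c i ^ chevE7.cartan i s = c i ^ chevE7.cartan i s *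
      (if i = j then (∏ m, c m ^ chevE7.cartan m (chevE7.simple j))⁻¹ ^ chevE7.cartan j s else 1) := by
    intro i
    show (if i = j then _ else _) ^ _ = _
    split_ifs with h
    · subst h
      rw [mul_zpow]
    · rw [mul_one]
  rw [Finset.prod_congr rfl fun i _ => h1 i, Finset.prod_mul_distrib]
  congr 1
  rw [Finset.prod_ite_eq' Finset.univ j, if_pos (Finset.mem_univ _)]

/-- **Representatives in the alcove.** -/
theorem exists_alc {N : ℕ} (hN : 0 < N) {z : Kˣ} (hz : IsPrimitiveRoot z N) {x : Gh K}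
    (h : ∃ (g : Gh K) (c : Fin chevE7.rank → Kˣ), Phi K c = g * x * g⁻¹ ∧ c ^ N = 1) :
    ∃ (g : Gh K) (c : Fin chevE7.rank → Kˣ) (y : Fin 7 → ℕ), Phi K c = g * x * g⁻¹ ∧ c ^ N = 1 ∧
      (∀ i : Fin 7, rtv (chevE7.simple i) c = z ^ y i) ∧ dotN th7 (List.ofFn y) ≤ N := by
  have : NeZero N := ⟨hN.ne'⟩
  have hzN := hz.pow_eq_one
  let P : (Fin 7 → ZMod N) → Prop := fun v => ∃ (g : Gh K) (c : Fin chevE7.rank → Kˣ), Phi K c = g * x * g⁻¹ ∧
    c ^ N = 1 ∧ ∀ i : Fin 7, rtv (chevE7.simple i) c = z ^ (v i).val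
  have hP : ∀ v j, P v → P (srefl chevE7 7 j v) := by
    rintro v j ⟨g, c, h1, h2, h3⟩
    let j' : Fin chevE7.rank := j
    refine ⟨stn chevE7 (chevE7.simple j') (1 : K) * g, sAct chevE7 K j' c, ?_, ?_, fun i => ?_⟩
    · rw [← conj_n_phi e7T.inList isPhi, h1]
      group
    · rw [← map_pow, h2, map_one]
    · refine (rtv_sAct j' _ c).trans ?_
      rw [h3 i]
      have h4 : rtv (chevE7.simple j') c = z ^ (v j).val := h3 j
      rw [h4, ← val_sub_mul hzN]
      rfl
  obtain ⟨g, c, h1, h2⟩ := h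
  have hex : ∀ j : Fin 7, ∃ a : ℕ, z ^ a = rtv (chevE7.simple j) c := by
    intro j
    have h3 : rtv (chevE7.simple j) c ^ N = 1 := by
      unfold rtv
      rw [← Finset.prod_pow]
      refine Finset.prod_eq_one fun i _ => ?_
      rw [← zpow_natCast, ← zpow_mul, mul_comm, zpow_mul, zpow_natCast]
      have h4 : c i ^ N = 1 := congrFun h2 i
      rw [h4, one_zpow]
    have hz' : IsPrimitiveRoot (z : K) N := IsPrimitiveRoot.coe_units_iff.2 hz
    have h5 : ((rtv (chevE7.simple j) c : Kˣ) : K) ^ N = 1 := by rw [← Units.val_pow_eq_pow_val, h3, Units.val_one]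
    obtain ⟨a, -, ha⟩ := hz'.eq_pow_of_pow_eq_one h5
    exact ⟨a, Units.ext (by rw [Units.val_pow_eq_pow_val, ha])⟩
  choose a ha using hex
  have h0 : P fun i => ((a i : ℕ) : ZMod N) := ⟨g, c, h1, h2, fun i => by rw [← ha i]; exact pow_val hzN _⟩
  obtain ⟨y, ⟨g', c', h3, h4, h5⟩, hθ⟩ := exists_alcove e7T (N := N) hN _ _ 36 (by norm_num) theta7
    (by decide) _ pos7 P hP h0
  refine ⟨g', c', y, h3, h4, fun i => ?_, ?_⟩
  · rw [h5 i, ← pow_val hzN]
  · rw [dotN_eq 7 th7 _ (by decide)]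
    have h2 : ∑ i : Fin 7, th7.getD i 0 * (List.ofFn y).getD i 0 = ∑ i : Fin 7, th7.getD i 0 * y i :=
      Finset.sum_congr rfl fun i _ => by
        congr 1
        rw [List.getD_eq_getElem _ _ (by rw [List.length_ofFn]; exact i.2), List.getElem_ofFn]
    rw [h2]
    simp only [Fin.sum_univ_seven, Matrix.cons_val] at hθ ⊢
    simp only [th7, List.getD_cons_zero, List.getD_cons_succ, Fin.val_zero, Fin.val_one, Fin.val_two] at hθ ⊢
    norm_num at hθ ⊢
    omega

end Cfsg.Agent.R2.T1.Five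
end

-- part: R2/T1/Inf/Pat
section
set_option linter.all false
open scoped Cfsg.Agent.FastGrp

/-!
# S5771, S5929: the patterns of the elements of small order (helper11)

* `exists_pat` : the joint multiplicities on `V` and `L` of an element of order dividing `N` are in the table;
* `T2`, `T3`, `T4`, `T5`, `T7` : tables (multiplicities of `1, ζ, ζ², …` on `V` and on `L`), `chk2`, ..., `chk7`;
* `pat2`, ..., `pat7` : over finite fields.
-/

set_option autoImplicit false
set_option maxRecDepth 100000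

namespace Cfsg.Agent.R2.T1

open Cfsg Cfsg.Lie Module
open Cfsg.Agent.H943.E7V.Block (D1 rho)
open Cfsg.Agent.H952.F4 (ev es)
open Cfsg.Agent.H944.Tab (allAlc allAlc_spec dotN)
open Cfsg.Agent.H944.E7Two (th7)

universe u

/-- the test of a table -/
def chk (N : ℕ) (T : List (List ℕ × List ℕ)) : Bool :=
  allAlc th7 N fun y => (List.range N).all fun t => !((2 * t + dt [2, 3, 4, 6, 5, 4, 3] y) % N == 0) ||
    T.contains ((List.range N).map (cV N y t), (List.range N).map (cL N y))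

section
variable {K : Type u} [Field K]

theorem wt_pow_one {N : ℕ} {c : Fin chevE7.rank → Kˣ} (h : c ^ N = 1) (s : D1) : wt s c ^ N = 1 := by
  unfold wt
  rw [← Finset.prod_pow]
  refine Finset.prod_eq_one fun i _ => ?_
  rw [← zpow_natCast, ← zpow_mul, mul_comm, zpow_mul, zpow_natCast]
  have h4 : c i ^ N = 1 := congrFun h i
  rw [h4, one_zpow]

/-- **the patterns of the elements of order dividing `N`** -/
theorem exists_pat {N : ℕ} {T : List (List ℕ × List ℕ)} (hchk : chk N T = true) (hN : 0 < N) {ζ : Kˣ}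
    (hζ : IsPrimitiveRoot ζ N) {x : Gh K}
    (h : ∃ (g : Gh K) (c : Fin chevE7.rank → Kˣ), Phi K c = g * x * g⁻¹ ∧ c ^ N = 1) :
    ∃ P ∈ T, ∀ k < N, ev (V K x) ((ζ : K) ^ k) = P.1.getD k 0 ∧ ev (L K x) ((ζ : K) ^ k) = P.2.getD k 0 := by
  obtain ⟨g, c, y, h1, h2, h3, h4⟩ := Five.exists_alc hN hζ h
  have hζ' : IsPrimitiveRoot (ζ : K) N := IsPrimitiveRoot.coe_units_iff.2 hζ
  have : NeZero N := ⟨hN.ne'⟩
  obtain ⟨t, htN, ht⟩ : ∃ t < N, ζ ^ t = wt botv c := by
    have h5 : ((wt botv c : Kˣ) : K) ^ N = 1 := by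
      rw [← Units.val_pow_eq_pow_val, wt_pow_one h2, Units.val_one]
    obtain ⟨t, htN, ht⟩ := hζ'.eq_pow_of_pow_eq_one h5
    exact ⟨t, htN, Units.ext (by rw [Units.val_pow_eq_pow_val, ht])⟩
  set Y := List.ofFn y with hY
  have hlen : Y.length = 7 := by rw [hY, List.length_ofFn]
  have hv : ∀ j < 7, rtv (chevE7.simple j) c = ζ ^ Y.getD j 0 := by
    intro j hj
    have h5 := h3 ⟨j, hj⟩
    have h6 : Y.getD j 0 = y ⟨j, hj⟩ := by
      rw [hY, List.getD_eq_getElem _ _ (by rw [List.length_ofFn]; exact hj), List.getElem_ofFn]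
    rw [h6]
    exact h5
  have hc := allAlc_spec th7 N _ (by decide) hchk Y (by rw [hlen]; rfl) h4
  rw [List.all_eq_true] at hc
  have hc' := hc t (List.mem_range.2 htN)
  rw [core_rel hlen hv hζ ht.symm] at hc'
  simp only [beq_self_eq_true, Bool.not_true, Bool.false_or, List.contains_iff_mem] at hc'
  refine ⟨_, hc', fun k hk => ⟨?_, ?_⟩⟩
  · rw [ev_V_of_conj h1, ev_V_core hlen hv hζ ht.symm hk]
    simp only [List.getD_eq_getElem?_getD, List.getElem?_map, List.getElem?_range hk, Option.map_some, Option.getD_some]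
  · rw [ev_L_of_conj h1, ev_L_core hlen hv hζ hk]
    simp only [List.getD_eq_getElem?_getD, List.getElem?_map, List.getElem?_range hk, Option.map_some, Option.getD_some]

end

/-- the patterns of the elements of order dividing 2 -/
def T2 : List (List ℕ × List ℕ) :=
  [([56, 0], [133, 0]), ([0, 56], [133, 0]), ([32, 24], [69, 64]), ([24, 32], [69, 64])]

/-- the patterns of the elements of order dividing 3 -/
def T3 : List (List ℕ × List ℕ) :=
  [([56, 0, 0], [133, 0, 0]), ([2, 27, 27], [79, 27, 27]), ([32, 12, 12], [67, 33, 33]),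
   ([20, 18, 18], [49, 42, 42]), ([14, 21, 21], [49, 42, 42]), ([20, 18, 18], [43, 45, 45])]

/-- the patterns of the elements of order dividing 4 -/
def T4 : List (List ℕ × List ℕ) :=
  [([56, 0, 0, 0], [133, 0, 0, 0]), ([0, 0, 56, 0], [133, 0, 0, 0]), ([0, 28, 0, 28], [79, 0, 54, 0]),
   ([32, 0, 24, 0], [69, 0, 64, 0]), ([24, 0, 32, 0], [69, 0, 64, 0]), ([32, 12, 0, 12], [67, 32, 2, 32]),
   ([0, 12, 32, 12], [67, 32, 2, 32]), ([0, 28, 0, 28], [63, 0, 70, 0]), ([20, 16, 4, 16], [49, 32, 20, 32]),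
   ([4, 16, 20, 16], [49, 32, 20, 32]), ([20, 12, 12, 12], [39, 32, 30, 32]), ([12, 12, 20, 12], [39, 32, 30, 32]),
   ([12, 16, 12, 16], [37, 32, 32, 32]), ([16, 12, 16, 12], [35, 32, 34, 32]), ([12, 16, 12, 16], [33, 32, 36, 32])]

/-- the patterns of the elements of order dividing 5 -/
def T5 : List (List ℕ × List ℕ) :=
  [([56, 0, 0, 0, 0], [133, 0, 0, 0, 0]), ([0, 1, 27, 27, 1], [79, 27, 0, 0, 27]),
   ([0, 27, 1, 1, 27], [79, 0, 27, 27, 0]), ([32, 0, 12, 12, 0], [67, 1, 32, 32, 1]),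
   ([32, 12, 0, 0, 12], [67, 32, 1, 1, 32]), ([20, 2, 16, 16, 2], [49, 10, 32, 32, 10]),
   ([20, 16, 2, 2, 16], [49, 32, 10, 10, 32]), ([0, 7, 21, 21, 7], [49, 35, 7, 7, 35]),
   ([0, 21, 7, 7, 21], [49, 7, 35, 35, 7]), ([2, 10, 17, 17, 10], [47, 26, 17, 17, 26]),
   ([2, 17, 10, 10, 17], [47, 17, 26, 26, 17]), ([20, 6, 12, 12, 6], [39, 17, 30, 30, 17]),
   ([20, 12, 6, 6, 12], [39, 30, 17, 17, 30]), ([12, 7, 15, 15, 7], [37, 22, 26, 26, 22]),
   ([12, 15, 7, 7, 15], [37, 26, 22, 22, 26]), ([16, 10, 10, 10, 10], [33, 25, 25, 25, 25]),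
   ([6, 10, 15, 15, 10], [33, 30, 20, 20, 30]), ([6, 15, 10, 10, 15], [33, 20, 30, 30, 20]),
   ([10, 11, 12, 12, 11], [29, 27, 25, 25, 27]), ([10, 12, 11, 11, 12], [29, 25, 27, 27, 25]),
   ([12, 10, 12, 12, 10], [27, 26, 27, 27, 26]), ([12, 12, 10, 10, 12], [27, 27, 26, 26, 27])]

/-- the patterns of the elements of order dividing 7 -/
def T7 : List (List ℕ × List ℕ) :=
  [([56, 0, 0, 0, 0, 0, 0], [133, 0, 0, 0, 0, 0, 0]), ([0, 0, 1, 27, 27, 1, 0], [79, 27, 0, 0, 0, 0, 27]),
   ([0, 1, 27, 0, 0, 27, 1], [79, 0, 0, 27, 27, 0, 0]), ([0, 27, 0, 1, 1, 0, 27], [79, 0, 27, 0, 0, 27, 0]),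
   ([32, 0, 0, 12, 12, 0, 0], [67, 1, 0, 32, 32, 0, 1]), ([32, 0, 12, 0, 0, 12, 0], [67, 0, 32, 1, 1, 32, 0]),
   ([32, 12, 0, 0, 0, 0, 12], [67, 32, 1, 0, 0, 1, 32]), ([20, 0, 16, 2, 2, 16, 0], [49, 0, 32, 10, 10, 32, 0]),
   ([20, 2, 0, 16, 16, 0, 2], [49, 10, 0, 32, 32, 0, 10]), ([20, 16, 2, 0, 0, 2, 16], [49, 32, 10, 0, 0, 10, 32]),
   ([0, 0, 7, 21, 21, 7, 0], [49, 35, 7, 0, 0, 7, 35]), ([0, 7, 21, 0, 0, 21, 7], [49, 7, 0, 35, 35, 0, 7]),
   ([0, 21, 0, 7, 7, 0, 21], [49, 0, 35, 7, 7, 35, 0]), ([2, 1, 16, 10, 10, 16, 1], [47, 17, 16, 10, 10, 16, 17]),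
   ([2, 10, 1, 16, 16, 1, 10], [47, 10, 17, 16, 16, 17, 10]),
   ([2, 16, 10, 1, 1, 10, 16], [47, 16, 10, 17, 17, 10, 16]),
   ([0, 1, 10, 17, 17, 10, 1], [47, 26, 16, 1, 1, 16, 26]), ([0, 10, 17, 1, 1, 17, 10], [47, 16, 1, 26, 26, 1, 16]),
   ([0, 17, 1, 10, 10, 1, 17], [47, 1, 26, 16, 16, 26, 1]), ([20, 0, 12, 6, 6, 12, 0], [39, 2, 30, 15, 15, 30, 2]),
   ([20, 6, 0, 12, 12, 0, 6], [39, 15, 2, 30, 30, 2, 15]), ([20, 12, 6, 0, 0, 6, 12], [39, 30, 15, 2, 2, 15, 30]),
   ([20, 6, 6, 6, 6, 6, 6], [37, 16, 16, 16, 16, 16, 16]), ([12, 1, 15, 6, 6, 15, 1], [37, 6, 26, 16, 16, 26, 6]),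
   ([12, 6, 1, 15, 15, 1, 6], [37, 16, 6, 26, 26, 6, 16]), ([12, 15, 6, 1, 1, 6, 15], [37, 26, 16, 6, 6, 16, 26]),
   ([0, 6, 7, 15, 15, 7, 6], [37, 21, 20, 7, 7, 20, 21]), ([0, 7, 15, 6, 6, 15, 7], [37, 20, 7, 21, 21, 7, 20]),
   ([0, 15, 6, 7, 7, 6, 15], [37, 7, 21, 20, 20, 21, 7]), ([16, 2, 10, 8, 8, 10, 2], [33, 9, 24, 17, 17, 24, 9]),
   ([16, 8, 2, 10, 10, 2, 8], [33, 17, 9, 24, 24, 9, 17]), ([16, 10, 8, 2, 2, 8, 10], [33, 24, 17, 9, 9, 17, 24]),
   ([0, 3, 10, 15, 15, 10, 3], [33, 30, 15, 5, 5, 15, 30]), ([0, 10, 15, 3, 3, 15, 10], [33, 15, 5, 30, 30, 5, 15]),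
   ([0, 15, 3, 10, 10, 3, 15], [33, 5, 30, 15, 15, 30, 5]), ([2, 9, 9, 9, 9, 9, 9], [31, 17, 17, 17, 17, 17, 17]),
   ([10, 3, 10, 10, 10, 10, 3], [29, 15, 22, 15, 15, 22, 15]),
   ([10, 10, 3, 10, 10, 3, 10], [29, 15, 15, 22, 22, 15, 15]),
   ([10, 10, 10, 3, 3, 10, 10], [29, 22, 15, 15, 15, 15, 22]),
   ([4, 5, 10, 11, 11, 10, 5], [29, 20, 20, 12, 12, 20, 20]),
   ([4, 10, 11, 5, 5, 11, 10], [29, 20, 12, 20, 20, 12, 20]),
   ([4, 11, 5, 10, 10, 5, 11], [29, 12, 20, 20, 20, 20, 12]),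
   ([2, 5, 10, 12, 12, 10, 5], [29, 25, 15, 12, 12, 15, 25]),
   ([2, 10, 12, 5, 5, 12, 10], [29, 15, 12, 25, 25, 12, 15]),
   ([2, 12, 5, 10, 10, 5, 12], [29, 12, 25, 15, 15, 25, 12]),
   ([12, 4, 12, 6, 6, 12, 4], [27, 11, 24, 18, 18, 24, 11]),
   ([12, 6, 4, 12, 12, 4, 6], [27, 18, 11, 24, 24, 11, 18]),
   ([12, 12, 6, 4, 4, 6, 12], [27, 24, 18, 11, 11, 18, 24]),
   ([10, 6, 6, 11, 11, 6, 6], [27, 17, 16, 20, 20, 16, 17]),
   ([10, 6, 11, 6, 6, 11, 6], [27, 16, 20, 17, 17, 20, 16]),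
   ([10, 11, 6, 6, 6, 6, 11], [27, 20, 17, 16, 16, 17, 20]), ([6, 6, 7, 12, 12, 7, 6], [25, 22, 16, 16, 16, 16, 22]),
   ([6, 7, 12, 6, 6, 12, 7], [25, 16, 16, 22, 22, 16, 16]), ([6, 12, 6, 7, 7, 6, 12], [25, 16, 22, 16, 16, 22, 16]),
   ([12, 6, 8, 8, 8, 8, 6], [23, 16, 20, 19, 19, 20, 16]), ([12, 8, 6, 8, 8, 6, 8], [23, 19, 16, 20, 20, 16, 19]),
   ([12, 8, 8, 6, 6, 8, 8], [23, 20, 19, 16, 16, 19, 20]), ([8, 7, 8, 9, 9, 8, 7], [21, 19, 18, 19, 19, 18, 19]),
   ([8, 8, 9, 7, 7, 9, 8], [21, 18, 19, 19, 19, 19, 18]), ([8, 9, 7, 8, 8, 7, 9], [21, 19, 19, 18, 18, 19, 19]),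
   ([6, 7, 9, 9, 9, 9, 7], [21, 21, 18, 17, 17, 18, 21]), ([6, 9, 7, 9, 9, 7, 9], [21, 17, 21, 18, 18, 21, 17]),
   ([6, 9, 9, 7, 7, 9, 9], [21, 18, 17, 21, 21, 17, 18]), ([8, 8, 8, 8, 8, 8, 8], [19, 19, 19, 19, 19, 19, 19])]


theorem chk2 : chk 2 T2 = true := by decide +kernel
theorem chk3 : chk 3 T3 = true := by decide +kernel
theorem chk4 : chk 4 T4 = true := by
  delta chk
  rw [Fq.cV_eq (N := 4) (by decide), Fq.cL_eq (N := 4) (by decide)]
  decide +kernel
theorem chk5 : chk 5 T5 = true := by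
  delta chk
  rw [Fq.cV_eq (N := 5) (by decide), Fq.cL_eq (N := 5) (by decide)]
  decide +kernel
theorem chk7 : chk 7 T7 = true := by
  delta chk
  rw [Fq.cV_eq (N := 7) (by decide), Fq.cL_eq (N := 7) (by decide)]
  decide +kernel

/-- **over finite fields** -/
theorem pat {N : ℕ} {T : List (List ℕ × List ℕ)} (hchk : chk N T = true) (hN0 : N ≠ 0) (p : ℕ) [Fact p.Prime]
    {F : Type u} [Field F] [Finite F] [CharP F p] (hN : N.Coprime p) {x : Gh F} (hx : x ^ N = 1) :
    ∃ ζ : AlgebraicClosure F, IsPrimitiveRoot ζ N ∧ ∃ P ∈ T, ∀ k < N,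
      ev (V (AlgebraicClosure F) (emb (algebraMap F (AlgebraicClosure F)) x)) (ζ ^ k) = P.1.getD k 0 ∧
      ev (L (AlgebraicClosure F) (emb (algebraMap F (AlgebraicClosure F)) x)) (ζ ^ k) = P.2.getD k 0 := by
  have : NeZero N := ⟨hN0⟩
  have hch : CharP (AlgebraicClosure F) p :=
    charP_of_injective_algebraMap (algebraMap F (AlgebraicClosure F)).injective p
  have hNk : ((N : ℕ) : AlgebraicClosure F) ≠ 0 := by
    intro h0
    have h1 : p ∣ N := (CharP.cast_eq_zero_iff (AlgebraicClosure F) p N).1 h0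
    have h2 : p ∣ 1 := by
      rw [← hN]
      exact Nat.dvd_gcd h1 dvd_rfl
    exact (Fact.out : p.Prime).one_lt.ne' (Nat.dvd_one.1 h2)
  have : NeZero ((N : ℕ) : AlgebraicClosure F) := ⟨hNk⟩
  obtain ⟨ζ, hζ⟩ : ∃ ζ : AlgebraicClosure F, IsPrimitiveRoot ζ N :=
    HasEnoughRootsOfUnity.exists_primitiveRoot (AlgebraicClosure F) N
  have hζ0 : ζ ≠ 0 := hζ.ne_zero hN0
  have hζu : IsPrimitiveRoot (Units.mk0 ζ hζ0) N := IsPrimitiveRoot.coe_units_iff.1 hζ
  obtain ⟨P, hP, h1⟩ := exists_pat hchk (Nat.pos_of_ne_zero hN0) hζu (frame p hN0 hN hx)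
  exact ⟨ζ, hζ, P, hP, h1⟩

end Cfsg.Agent.R2.T1
end

-- part: R2/T1/Odd/Perm
section
set_option linter.all false
open scoped Cfsg.Agent.FastGrp

/-!
# S5771, ODD5: permutations given by lists of transpositions; Artin's formula for explicit subgroups (helper11)

* `ap l i`, `cd m l` : the action and the code of a list of transpositions;
* `pm n l : Perm (Fin n)`, `P n l : alternatingGroup (Fin n)` (for every `n ≥ m`, if the entries are `< m`);
* `Tg n gens` : the subgroup generated by the `P n g`;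
* `inv ρ T` : the fixed points;
* `chkT` : the check of the table of a subgroup (elements as words in the generators, labels of the classes, conjugating
  elements); `dimT` : the dimension of the fixed points.
-/

set_option autoImplicit false

namespace Cfsg.Agent.R2.T1.Odd

open Equiv Equiv.Perm Module
open Cfsg.Agent.R2.T1.Art
open Cfsg.Agent.H952.F4 (ev es)

/-- the action of a list of transpositions -/
def ap : List (ℕ × ℕ) → ℕ → ℕ
  | [], i => i
  | x :: l, i => (fun j => if Nat.beq j x.1 then x.2 else if Nat.beq j x.2 then x.1 else j) (ap l i)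

/-- the code -/
def cd (m : ℕ) (l : List (ℕ × ℕ)) : List ℕ := (List.range m).map (ap l)

/-- a list of an even number of transpositions of points `< m` -/
def vl (m : ℕ) (l : List (ℕ × ℕ)) : Bool :=
  Nat.beq (l.length % 2) 0 && l.all fun x => Nat.blt x.1 m && Nat.blt x.2 m && !(Nat.beq x.1 x.2)

theorem nb {a b : ℕ} : Nat.beq a b = true ↔ a = b := ⟨Nat.eq_of_beq_eq_true, fun h => h ▸ Nat.beq_refl _⟩

theorem nb' {a b : ℕ} (h : a ≠ b) : ¬ Nat.beq a b = true := fun h' => h (nb.1 h')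

section pm
variable (n : ℕ) [NeZero n]

/-- the permutation -/
def pm (l : List (ℕ × ℕ)) : Perm (Fin n) := (l.map fun x => swap (Fin.ofNat n x.1) (Fin.ofNat n x.2)).prod

theorem pm_nil : pm n [] = 1 := rfl

theorem pm_cons (x : ℕ × ℕ) (l : List (ℕ × ℕ)) : pm n (x :: l) = swap (Fin.ofNat n x.1) (Fin.ofNat n x.2) * pm n l := by
  rw [pm, List.map_cons, List.prod_cons]; rfl

theorem pm_append (l l' : List (ℕ × ℕ)) : pm n (l ++ l') = pm n l * pm n l' := by
  rw [pm, List.map_append, List.prod_append]; rfl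

variable {n}

theorem ofNat_inj {a b : ℕ} (ha : a < n) (hb : b < n) (h : Fin.ofNat n a = Fin.ofNat n b) : a = b := by
  have h1 := congrArg Fin.val h
  rwa [Fin.val_ofNat, Fin.val_ofNat, Nat.mod_eq_of_lt ha, Nat.mod_eq_of_lt hb] at h1

theorem val_ofNat' {a : ℕ} (ha : a < n) : (Fin.ofNat n a).val = a := by
  rw [Fin.val_ofNat, Nat.mod_eq_of_lt ha]

/-- all entries `< m` -/
def En (m : ℕ) (l : List (ℕ × ℕ)) : Prop := ∀ x ∈ l, x.1 < m ∧ x.2 < m ∧ x.1 ≠ x.2

theorem vl_iff {m : ℕ} {l : List (ℕ × ℕ)} : vl m l = true ↔ l.length % 2 = 0 ∧ En m l := by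
  unfold vl En
  rw [Bool.and_eq_true, List.all_eq_true, nb]
  refine and_congr_right fun _ => forall_congr' fun x => imp_congr_right fun _ => ?_
  rw [Bool.and_eq_true, Bool.and_eq_true, Nat.blt_eq, Nat.blt_eq, Bool.not_eq_true', and_assoc]
  refine and_congr_right fun _ => and_congr_right fun _ => ?_
  rw [← Bool.not_eq_true, nb]

theorem En.mono {m k : ℕ} (h : m ≤ k) {l : List (ℕ × ℕ)} (hl : En m l) : En k l := fun x hx =>
  ⟨(hl x hx).1.trans_le h, (hl x hx).2.1.trans_le h, (hl x hx).2.2⟩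

theorem En.cons {m : ℕ} {x : ℕ × ℕ} {l : List (ℕ × ℕ)} (h : En m (x :: l)) : x.1 < m ∧ x.2 < m ∧ x.1 ≠ x.2 :=
  h x List.mem_cons_self

theorem En.tail {m : ℕ} {x : ℕ × ℕ} {l : List (ℕ × ℕ)} (h : En m (x :: l)) : En m l := fun y hy =>
  h y (List.mem_cons_of_mem x hy)

theorem En.append {m : ℕ} {l l' : List (ℕ × ℕ)} (h : En m l) (h' : En m l') : En m (l ++ l') := fun x hx => by
  rcases List.mem_append.1 hx with hx | hx
  · exact h x hx
  · exact h' x hx

theorem ap_lt {m : ℕ} {l : List (ℕ × ℕ)} (hl : En m l) {i : ℕ} (hi : i < m) : ap l i < m := by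
  induction l with
  | nil => exact hi
  | cons x l ih =>
    have h1 := ih hl.tail
    have h2 := hl.cons
    show (if Nat.beq (ap l i) x.1 then x.2 else if Nat.beq (ap l i) x.2 then x.1 else ap l i) < m
    split_ifs
    · exact h2.2.1
    · exact h2.1
    · exact h1

theorem ap_ge {m : ℕ} {l : List (ℕ × ℕ)} (hl : En m l) {i : ℕ} (hi : m ≤ i) : ap l i = i := by
  induction l with
  | nil => rfl
  | cons x l ih =>
    have h1 := ih hl.tail
    have h2 := hl.cons
    show (if Nat.beq (ap l i) x.1 then x.2 else if Nat.beq (ap l i) x.2 then x.1 else ap l i) = i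
    have h3 : i ≠ x.1 := by omega
    have h4 : i ≠ x.2 := by omega
    rw [h1, if_neg (nb' h3), if_neg (nb' h4)]

theorem pm_apply {l : List (ℕ × ℕ)} (hl : En n l) (i : Fin n) : (pm n l i).val = ap l i.val := by
  induction l with
  | nil => rfl
  | cons x l ih =>
    have h1 := ih hl.tail
    have h2 := hl.cons
    rw [pm_cons, Perm.mul_apply]
    show _ = (if Nat.beq (ap l i) x.1 then x.2 else if Nat.beq (ap l i) x.2 then x.1 else ap l i)
    rw [← h1, swap_apply_def]
    by_cases h3 : pm n l i = Fin.ofNat n x.1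
    · have h4 : (pm n l i).val = x.1 := by rw [h3, val_ofNat' h2.1]
      rw [if_pos h3, if_pos (nb.2 h4), val_ofNat' h2.2.1]
    · have h4 : (pm n l i).val ≠ x.1 := fun h5 => h3 (Fin.ext (by rw [h5, val_ofNat' h2.1]))
      rw [if_neg h3, if_neg (nb' h4)]
      by_cases h5 : pm n l i = Fin.ofNat n x.2
      · have h6 : (pm n l i).val = x.2 := by rw [h5, val_ofNat' h2.2.1]
        rw [if_pos h5, if_pos (nb.2 h6), val_ofNat' h2.1]
      · have h6 : (pm n l i).val ≠ x.2 := fun h7 => h5 (Fin.ext (by rw [h7, val_ofNat' h2.2.1]))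
        rw [if_neg h5, if_neg (nb' h6)]

theorem pm_eq {m : ℕ} (hm : m ≤ n) {l l' : List (ℕ × ℕ)} (hl : En m l) (hl' : En m l') (h : cd m l = cd m l') :
    pm n l = pm n l' := by
  refine Perm.ext fun i => Fin.ext ?_
  rw [pm_apply (hl.mono hm), pm_apply (hl'.mono hm)]
  by_cases hi : i.val < m
  · have h1 : (cd m l)[i.val]? = (cd m l')[i.val]? := by rw [h]
    unfold cd at h1
    rw [List.getElem?_map, List.getElem?_map, List.getElem?_range hi] at h1
    exact Option.some.inj h1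
  · rw [ap_ge hl (by omega), ap_ge hl' (by omega)]

theorem cd_eq {m : ℕ} (hm : m ≤ n) {l l' : List (ℕ × ℕ)} (hl : En m l) (hl' : En m l') (h : pm n l = pm n l') :
    cd m l = cd m l' := by
  unfold cd
  refine List.map_congr_left fun i hi => ?_
  have hi' : i < m := List.mem_range.1 hi
  have h1 := pm_apply (hl.mono hm) ⟨i, hi'.trans_le hm⟩
  have h2 := pm_apply (hl'.mono hm) ⟨i, hi'.trans_le hm⟩
  rw [← h1, ← h2, h]

theorem sign_pm {l : List (ℕ × ℕ)} (hl : En n l) : sign (pm n l) = (-1) ^ l.length := by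
  induction l with
  | nil => rw [pm_nil, Perm.sign_one]; rfl
  | cons x l ih =>
    have h2 := hl.cons
    rw [pm_cons, Perm.sign_mul, ih hl.tail, sign_swap fun h => h2.2.2 (ofNat_inj h2.1 h2.2.1 h), List.length_cons, pow_succ']

theorem pm_mem {m : ℕ} (hm : m ≤ n) {l : List (ℕ × ℕ)} (h : vl m l = true) : pm n l ∈ alternatingGroup (Fin n) := by
  rw [vl_iff] at h
  rw [mem_alternatingGroup, sign_pm (h.2.mono hm), Even.neg_one_pow (Nat.even_iff.2 h.1)]

variable (n) in
open Classical in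
/-- the even permutation -/
noncomputable def P (l : List (ℕ × ℕ)) : ↥(alternatingGroup (Fin n)) :=
  if h : pm n l ∈ alternatingGroup (Fin n) then ⟨pm n l, h⟩ else 1

theorem coe_P {m : ℕ} (hm : m ≤ n) {l : List (ℕ × ℕ)} (h : vl m l = true) : ((P n l : ↥(alternatingGroup (Fin n))) : Perm (Fin n)) = pm n l := by
  rw [P, dif_pos (pm_mem hm h)]

theorem vl_append {m : ℕ} {l l' : List (ℕ × ℕ)} (h : vl m l = true) (h' : vl m l' = true) : vl m (l ++ l') = true := by
  rw [vl_iff] at *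
  refine ⟨?_, h.2.append h'.2⟩
  rw [List.length_append]
  omega

theorem P_append {m : ℕ} (hm : m ≤ n) {l l' : List (ℕ × ℕ)} (h : vl m l = true) (h' : vl m l' = true) :
    P n (l ++ l') = P n l * P n l' := by
  apply Subtype.ext
  rw [coe_P hm (vl_append h h'), Subgroup.coe_mul, coe_P hm h, coe_P hm h', pm_append]

theorem P_nil : P n [] = 1 := by
  apply Subtype.ext
  rw [coe_P (m := 0) (by omega) (by decide)]
  rfl

theorem P_eq_iff {m : ℕ} (hm : m ≤ n) {l l' : List (ℕ × ℕ)} (h : vl m l = true) (h' : vl m l' = true) :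
    P n l = P n l' ↔ cd m l = cd m l' := by
  constructor
  · intro h1
    apply cd_eq hm (vl_iff.1 h).2 (vl_iff.1 h').2
    rw [← coe_P hm h, ← coe_P hm h', h1]
  · intro h1
    apply Subtype.ext
    rw [coe_P hm h, coe_P hm h']
    exact pm_eq hm (vl_iff.1 h).2 (vl_iff.1 h').2 h1

end pm

/-! ### fixed points -/

section inv
variable {F : Type*} [Field F] {W : Type*} [AddCommGroup W] [Module F W] {X : Type*} [Group X]

/-- the fixed points of a subgroup -/
def inv (ρ : Representation F X W) (T : Subgroup X) : Submodule F W where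
  carrier := {v | ∀ x ∈ T, ρ x v = v}
  add_mem' := fun ha hb x hx => by rw [map_add, ha x hx, hb x hx]
  zero_mem' := fun x _ => map_zero _
  smul_mem' := fun c v hv x hx => by rw [map_smul, hv x hx]

theorem mem_inv {ρ : Representation F X W} {T : Subgroup X} {v : W} : v ∈ inv ρ T ↔ ∀ x ∈ T, ρ x v = v := Iff.rfl

theorem inv_mono {ρ : Representation F X W} {T T' : Subgroup X} (h : T ≤ T') : inv ρ T' ≤ inv ρ T :=
  fun _ hv x hx => hv x (h hx)

theorem inv_eq_invariants (ρ : Representation F X W) (T : Subgroup X) :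
    inv ρ T = Representation.invariants (MonoidHom.comp ρ T.subtype) := by
  ext v
  rw [mem_inv, Representation.mem_invariants]
  exact ⟨fun h x => h x x.2, fun h x hx => h ⟨x, hx⟩⟩

theorem mem_inv_closure {ρ : Representation F X W} {S : Set X} {v : W} :
    v ∈ inv ρ (Subgroup.closure S) ↔ ∀ x ∈ S, ρ x v = v := by
  constructor
  · exact fun h x hx => h x (Subgroup.subset_closure hx)
  · intro h x hx
    let R : Subgroup X :=
      { carrier := {g | ρ g v = v}
        one_mem' := by show ρ 1 v = v; rw [map_one]; rfl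
        mul_mem' := by
          intro a b ha hb
          show ρ (a * b) v = v
          rw [map_mul, Module.End.mul_apply, show ρ b v = v from hb, show ρ a v = v from ha]
        inv_mem' := by
          intro a ha
          show ρ a⁻¹ v = v
          have h1 : ρ a⁻¹ (ρ a v) = v := by rw [← Module.End.mul_apply, ← map_mul, inv_mul_cancel, map_one]; rfl
          rwa [show ρ a v = v from ha] at h1 }
    exact (Subgroup.closure_le R).2 (fun y hy => h y hy) hx

end inv

/-! ### explicit subgroups -/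

section tab
variable (n : ℕ) [NeZero n]

/-- the subgroup generated by a list -/
noncomputable def Tg (gens : List (List (ℕ × ℕ))) : Subgroup ↥(alternatingGroup (Fin n)) :=
  Subgroup.closure {x | ∃ g ∈ gens, P n g = x}

/-- the word in the generators -/
def wd (gens : List (List (ℕ × ℕ))) (w : List ℕ) : List (ℕ × ℕ) := (w.map fun i => gens.getD i []).flatten

/-- the check of the elements of a subgroup: `els` are words in the generators -/
def chkG (m : ℕ) (gens : List (List (ℕ × ℕ))) (els : List (List ℕ)) : Bool :=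
  let C := els.map fun w => cd m (wd gens w)
  gens.all (vl m) && decide C.Nodup && els.contains [] &&
    gens.all fun g => els.all fun w => C.contains (cd m (g ++ wd gens w))

/-- the check of the classes of the coset `T r` -/
def chkC (m : ℕ) (gens : List (List (ℕ × ℕ))) (els : List (List ℕ)) (r : List (ℕ × ℕ)) (reps : List (List (ℕ × ℕ)))
    (dat : List (ℕ × List (ℕ × ℕ))) : Bool :=
  Nat.beq els.length dat.length && vl m r && reps.all (vl m) &&
    dat.all (fun d => vl m d.2 && Nat.blt d.1 reps.length) &&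
    (els.zip dat).all fun e => cd m (wd gens e.1 ++ (r ++ e.2.2)) == cd m (e.2.2 ++ reps.getD e.2.1 [])

variable {n}

theorem wd_nil (gens : List (List (ℕ × ℕ))) : wd gens [] = [] := rfl

theorem wd_cons (gens : List (List (ℕ × ℕ))) (i : ℕ) (w : List ℕ) : wd gens (i :: w) = gens.getD i [] ++ wd gens w := rfl

theorem vl_getD {m : ℕ} {gens : List (List (ℕ × ℕ))} (h : gens.all (vl m) = true) (i : ℕ) : vl m (gens.getD i []) = true := by
  by_cases hi : i < gens.length
  · rw [List.getD_eq_getElem _ _ hi]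
    exact List.all_eq_true.1 h _ (List.getElem_mem hi)
  · rw [List.getD_eq_default _ _ (by omega)]
    rfl

theorem vl_wd {m : ℕ} {gens : List (List (ℕ × ℕ))} (h : gens.all (vl m) = true) (w : List ℕ) : vl m (wd gens w) = true := by
  induction w with
  | nil => rfl
  | cons i w ih => rw [wd_cons]; exact vl_append (vl_getD h i) ih

theorem P_getD_mem {gens : List (List (ℕ × ℕ))} (i : ℕ) : P n (gens.getD i []) ∈ Tg n gens := by
  by_cases hi : i < gens.length
  · rw [List.getD_eq_getElem _ _ hi]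
    exact Subgroup.subset_closure ⟨_, List.getElem_mem hi, rfl⟩
  · rw [List.getD_eq_default _ _ (by omega), P_nil]
    exact one_mem _

theorem P_wd_mem {m : ℕ} (hm : m ≤ n) {gens : List (List (ℕ × ℕ))} (h : gens.all (vl m) = true) (w : List ℕ) :
    P n (wd gens w) ∈ Tg n gens := by
  induction w with
  | nil => rw [wd_nil, P_nil]; exact one_mem _
  | cons i w ih =>
    rw [wd_cons, P_append hm (vl_getD h i) (vl_wd h w)]
    exact mul_mem (P_getD_mem i) ih

variable {m : ℕ} {gens : List (List (ℕ × ℕ))} {els : List (List ℕ)}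

theorem chkG_spec (h : chkG m gens els = true) : gens.all (vl m) = true ∧ (els.map fun w => cd m (wd gens w)).Nodup ∧
    [] ∈ els ∧ ∀ g ∈ gens, ∀ w ∈ els, ∃ w' ∈ els, cd m (wd gens w') = cd m (g ++ wd gens w) := by
  unfold chkG at h
  simp only [Bool.and_eq_true, decide_eq_true_eq, List.contains_iff_mem] at h
  obtain ⟨⟨⟨h1, h2⟩, h3⟩, h4⟩ := h
  refine ⟨h1, h2, h3, fun g hg w hw => ?_⟩
  have h5 := List.all_eq_true.1 (List.all_eq_true.1 h4 g hg) w hw
  rw [List.contains_iff_mem] at h5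
  obtain ⟨w', hw', h6⟩ := List.mem_map.1 h5
  exact ⟨w', hw', h6⟩

/-! ### fast versions of `chkG`, `chkC` (helper4) : a permutation is the number with the bits `10 i + ap l i` -/

namespace Fq

/-- evaluate first -/
noncomputable def fc {α : Type} (x : ℕ) (f : ℕ → α) : α := Nat.rec (f 0) (fun k _ => f (Nat.succ k)) x

/-- the bits `s i`, `i < m` -/
noncomputable def dgn (s m : ℕ) : ℕ := Nat.rec 0 (fun i ih => Nat.lor ih (Nat.shiftLeft 1 (Nat.mul s i))) m

/-- the action of a list of transpositions -/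
noncomputable def act (M : ℕ) (l : List (ℕ × ℕ)) (c : ℕ) : ℕ :=
  List.rec c (fun x _ ih => fc ih fun u => fc (Nat.land (Nat.xor (Nat.shiftRight u x.1) (Nat.shiftRight u x.2)) M) fun d =>
    Nat.xor u (Nat.xor (Nat.shiftLeft d x.1) (Nat.shiftLeft d x.2))) l

/-- the action of a word -/
noncomputable def acw (M : ℕ) (gens : List (List (ℕ × ℕ))) (w : List ℕ) (c : ℕ) : ℕ :=
  List.rec c (fun i _ ih => act M (gens.getD i []) ih) w

/-- the list of the values -/
noncomputable def cps (f : List ℕ → ℕ) (L : List (List ℕ)) : (List ℕ → Bool) → Bool :=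
  List.rec (motive := fun _ => (List ℕ → Bool) → Bool) (fun k => k []) (fun w _ ih k => fc (f w) fun c => ih fun C => k (c :: C)) L

/-- a table (no property is needed) -/
noncomputable def tab (f : ℕ → ℕ → ℕ) (C : List ℕ) : ℕ → ℕ :=
  List.rec (motive := fun _ => ℕ → ℕ) (fun _ => 0) (fun c _ ih k => Nat.add (f c k) (fc (Nat.succ k) ih)) C

/-- a field -/
def fd (w X j : ℕ) : ℕ := Nat.mod (Nat.shiftRight X (Nat.mul w j)) (Nat.pow 2 w)

/-- the tables are correct -/
noncomputable def go (ix tb : ℕ → ℕ) (C : List ℕ) : ℕ → Bool :=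
  List.rec (motive := fun _ => ℕ → Bool) (fun _ => true)
    (fun c _ ih k => and (Nat.beq (ix c) k) (and (Nat.beq (tb k) c) (fc (Nat.succ k) ih))) C

/-- `chkG`; the codes are different modulo `p` -/
noncomputable def fG (p m : ℕ) (gens : List (List (ℕ × ℕ))) (els : List (List ℕ)) : Bool :=
  and (and (gens.all (vl m)) (and (Nat.ble m 10) (els.contains []))) (fc (dgn 10 m) fun M => fc (dgn 11 m) fun I =>
    cps (fun w => acw M gens w I) els fun C => fc (tab (fun c k => Nat.shiftLeft k (Nat.mul 10 (Nat.mod c p))) C 0) fun T =>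
      fc (tab (fun c k => Nat.shiftLeft c (Nat.mul 100 k)) C 0) fun U => fc C.length fun n =>
        and (go (fun c => fd 10 T (Nat.mod c p)) (fd 100 U) C 0) (gens.all fun g => C.all fun c => fc (act M g c) fun e =>
          fc (fd 10 T (Nat.mod e p)) fun j => and (Nat.blt j n) (Nat.beq (fd 100 U j) e)))

/-- `chkC` -/
noncomputable def fC (m : ℕ) (gens : List (List (ℕ × ℕ))) (els : List (List ℕ)) (r : List (ℕ × ℕ)) (reps : List (List (ℕ × ℕ)))
    (dat : List (ℕ × List (ℕ × ℕ))) : Bool :=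
  and (and (gens.all (vl m)) (Nat.ble m 10)) (and (Nat.beq els.length dat.length && vl m r && reps.all (vl m) &&
    dat.all (fun d => vl m d.2 && Nat.blt d.1 reps.length)) (fc (dgn 10 m) fun M => fc (dgn 11 m) fun I =>
      (els.zip dat).all fun e => Nat.beq (acw M gens e.1 (act M r (act M e.2.2 I))) (act M e.2.2 (act M (reps.getD e.2.1 []) I))))

theorem fc_eq {α : Type} (x : ℕ) (f : ℕ → α) : fc x f = f x := by cases x <;> rfl

theorem tb_dgn (s m k : ℕ) : (dgn s m).testBit k = decide (∃ i < m, s * i = k) := by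
  induction m with
  | zero => exact (Nat.zero_testBit k).trans (decide_eq_false fun ⟨_, h, _⟩ => Nat.not_lt_zero _ h).symm
  | succ m ih =>
    change (dgn s m ||| 1 <<< (s * m)).testBit k = _
    simp only [Nat.testBit_or, ih, Nat.one_shiftLeft, Nat.testBit_two_pow, Nat.exists_lt_succ_right, Bool.decide_or]

theorem tb_sh (e m q : ℕ) {a r : ℕ} (ha : a < 10) (hr : r < 10) :
    ((e &&& dgn 10 m) <<< a).testBit (10 * q + r) = (decide (r = a ∧ q < m) && e.testBit (10 * q)) := by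
  rw [Nat.testBit_shiftLeft, Nat.testBit_and, tb_dgn]
  by_cases h : r = a ∧ q < m
  · rw [h.1, Nat.add_sub_cancel, decide_eq_true (Nat.le_add_left _ _), decide_eq_true ⟨q, h.2, rfl⟩, decide_eq_true ⟨rfl, h.2⟩,
      Bool.and_true]
  · rw [decide_eq_false h, Bool.false_and, ← Bool.and_assoc, Bool.and_right_comm, ← Bool.decide_and,
      decide_eq_false (fun ⟨h1, i, h2, h3⟩ => by omega), Bool.false_and]

theorem act_cons (M : ℕ) (x : ℕ × ℕ) (l : List (ℕ × ℕ)) (c : ℕ) : act M (x :: l) c = act M l c ^^^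
    (((act M l c >>> x.1 ^^^ act M l c >>> x.2) &&& M) <<< x.1 ^^^ ((act M l c >>> x.1 ^^^ act M l c >>> x.2) &&& M) <<< x.2) := by
  change fc (act M l c) (fun u => fc (((u >>> x.1) ^^^ (u >>> x.2)) &&& M) fun d => u ^^^ (d <<< x.1 ^^^ d <<< x.2)) = _
  rw [fc_eq, fc_eq]

theorem tb_act (hm : m ≤ 10) {l : List (ℕ × ℕ)} (hl : En m l) (q : ℕ) : ∀ r < 10,
    (act (dgn 10 m) l (dgn 11 m)).testBit (10 * q + r) = decide (q < m ∧ ap l q = r) := by
  induction l with
  | nil => exact fun r hr => (tb_dgn _ _ _).trans (decide_eq_decide.2 ⟨fun ⟨i, h1, h2⟩ => show q < m ∧ q = r by omega,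
      fun ⟨h1, h2⟩ => ⟨q, h1, by change q = r at h2; omega⟩⟩)
  | cons x l ih =>
    intro r hr
    obtain ⟨h1, h2, h3⟩ := hl.cons
    have ha := h1.trans_le hm
    have hb := h2.trans_le hm
    rw [act_cons, Nat.testBit_xor, Nat.testBit_xor, tb_sh _ _ _ ha hr, tb_sh _ _ _ hb hr, Nat.testBit_xor, Nat.testBit_shiftRight,
      Nat.testBit_shiftRight, add_comm x.1, add_comm x.2, ih hl.tail r hr, ih hl.tail _ ha, ih hl.tail _ hb]
    change _ = decide (q < m ∧ (if Nat.beq (ap l q) x.1 then x.2 else if Nat.beq (ap l q) x.2 then x.1 else ap l q) = r)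
    simp only [nb]
    generalize ap l q = y
    by_cases a : q < m <;> by_cases b : r = x.1 <;> by_cases c : r = x.2 <;> by_cases d : y = x.1 <;> by_cases e : y = x.2 <;>
      first | omega | simp [*, eq_comm]

theorem act_iff (hm : m ≤ 10) {l l' : List (ℕ × ℕ)} (h : vl m l = true) (h' : vl m l' = true) :
    act (dgn 10 m) l (dgn 11 m) = act (dgn 10 m) l' (dgn 11 m) ↔ cd m l = cd m l' := by
  have k := (vl_iff.1 h).2
  have k' := (vl_iff.1 h').2
  refine ⟨fun e => List.map_congr_left fun i hi => ?_, fun e => Nat.eq_of_testBit_eq fun j => ?_⟩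
  · have hi' := List.mem_range.1 hi
    have a := tb_act hm k i _ ((ap_lt k hi').trans_le hm)
    rw [e, tb_act hm k' i _ ((ap_lt k hi').trans_le hm), decide_eq_decide] at a
    exact (a.2 ⟨hi', rfl⟩).2.symm
  · rw [← Nat.div_add_mod j 10, tb_act hm k _ _ (Nat.mod_lt _ (by decide)), tb_act hm k' _ _ (Nat.mod_lt _ (by decide)),
      decide_eq_decide]
    exact and_congr_right fun a => by rw [List.map_inj_left.1 e _ (List.mem_range.2 a)]

theorem act_append (M : ℕ) (l l' : List (ℕ × ℕ)) (c : ℕ) : act M (l ++ l') c = act M l (act M l' c) := by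
  induction l with
  | nil => rfl
  | cons x l ih => rw [List.cons_append, act_cons, act_cons, ih]

theorem acw_eq (M : ℕ) (gens : List (List (ℕ × ℕ))) (w : List ℕ) (c : ℕ) : acw M gens w c = act M (wd gens w) c := by
  induction w with
  | nil => rfl
  | cons i w ih => rw [wd_cons, act_append, ← ih]; rfl

theorem cps_eq (f : List ℕ → ℕ) (L : List (List ℕ)) (k : List ℕ → Bool) : cps f L k = k (L.map f) := by
  induction L generalizing k with
  | nil => rfl
  | cons w L ih =>
    change fc (f w) (fun c => cps f L fun C => k (c :: C)) = _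
    rw [fc_eq, ih]
    rfl

theorem go_spec {ix tb : ℕ → ℕ} {C : List ℕ} {k : ℕ} (h : go ix tb C k = true) :
    C.map ix = List.range' k C.length ∧ (List.range' k C.length).map tb = C := by
  induction C generalizing k with
  | nil => exact ⟨rfl, rfl⟩
  | cons c C ih =>
    obtain ⟨h1, h2⟩ := Bool.and_eq_true_iff.1 h
    obtain ⟨h2, h3⟩ := Bool.and_eq_true_iff.1 h2
    rw [fc_eq] at h3
    rw [List.length_cons, List.range'_succ, List.map_cons, List.map_cons, nb.1 h1, nb.1 h2, (ih h3).1, (ih h3).2]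
    exact ⟨rfl, rfl⟩

theorem chkG_of (p : ℕ) (h : fG p m gens els = true) : chkG m gens els = true := by
  delta fG at h
  simp only [fc_eq, cps_eq, acw_eq, Bool.and_eq_true, Nat.ble_eq, Nat.blt_eq, nb] at h
  obtain ⟨⟨h1, hm, h2⟩, h3, h4⟩ := h
  obtain ⟨h5, h6⟩ := go_spec h3
  delta chkG
  simp only [Bool.and_eq_true, decide_eq_true_eq]
  refine ⟨⟨⟨h1, ?_⟩, h2⟩, List.all_eq_true.2 fun g hg => List.all_eq_true.2 fun w hw => List.contains_iff_mem.2 ?_⟩
  · exact List.pairwise_map.2 ((List.pairwise_map.1 (List.Nodup.of_map _ (h5 ▸ List.nodup_range'))).imp fun a b =>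
      a ((act_iff hm (vl_wd h1 _) (vl_wd h1 _)).2 b))
  · have a := List.all_eq_true.1 (List.all_eq_true.1 h4 g hg) _ (List.mem_map.2 ⟨w, hw, rfl⟩)
    rw [Bool.and_eq_true, Nat.blt_eq, nb] at a
    have b := (congrArg (_ ∈ ·) h6).mp (List.mem_map_of_mem (List.mem_range'_1.2 ⟨Nat.zero_le _, a.1.trans_le (Nat.le_add_left _ 0)⟩))
    rw [a.2, ← act_append] at b
    obtain ⟨w', c, d⟩ := List.mem_map.1 b
    exact List.mem_map.2 ⟨w', c, (act_iff hm (vl_wd h1 _) (vl_append (List.all_eq_true.1 h1 g hg) (vl_wd h1 w))).1 d⟩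

theorem chkC_of {r : List (ℕ × ℕ)} {reps : List (List (ℕ × ℕ))} {dat : List (ℕ × List (ℕ × ℕ))}
    (h : fC m gens els r reps dat = true) : chkC m gens els r reps dat = true := by
  delta fC at h
  rw [fc_eq, fc_eq, Bool.and_eq_true, Bool.and_eq_true, Bool.and_eq_true, Nat.ble_eq] at h
  obtain ⟨⟨h1, hm⟩, h2, h3⟩ := h
  refine Bool.and_eq_true_iff.2 ⟨h2, List.all_eq_true.2 fun e he => beq_iff_eq.2 ?_⟩
  simp only [Bool.and_eq_true] at h2
  have a := (Bool.and_eq_true_iff.1 (List.all_eq_true.1 h2.2 _ (List.of_mem_zip he).2)).1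
  have b := nb.1 (List.all_eq_true.1 h3 e he)
  rw [acw_eq, ← act_append, ← act_append, ← act_append, List.append_assoc] at b
  exact (act_iff hm (vl_append (vl_wd h1 _) (vl_append h2.1.1.2 a)) (vl_append a (vl_getD h2.1.2 _))).1 b

end Fq

/-- the elements of the subgroup -/
theorem mem_Tg_iff (hm : m ≤ n) (h : chkG m gens els = true) (x : ↥(alternatingGroup (Fin n))) :
    x ∈ Tg n gens ↔ ∃ w ∈ els, P n (wd gens w) = x := by
  obtain ⟨h1, h2, h3, h4⟩ := chkG_spec h
  constructor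
  · let S : Set ↥(alternatingGroup (Fin n)) := {x | ∃ w ∈ els, P n (wd gens w) = x}
    have hS : S.Finite := by
      have h5 : S = (fun w => P n (wd gens w)) '' {w | w ∈ els} := by
        ext x; simp [S]
      rw [h5]
      exact (List.finite_toSet els).image _
    have hcl : ∀ g ∈ gens, ∀ x ∈ S, P n g * x ∈ S := by
      rintro g hg x ⟨w, hw, rfl⟩
      obtain ⟨w', hw', h5⟩ := h4 g hg w hw
      refine ⟨w', hw', ?_⟩
      have hvg : vl m g = true := List.all_eq_true.1 h1 g hg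
      rw [← P_append hm hvg (vl_wd h1 w), P_eq_iff hm (vl_wd h1 w') (vl_append hvg (vl_wd h1 w)), h5]
    let R : Subgroup ↥(alternatingGroup (Fin n)) :=
      { carrier := {g | ∀ x, g * x ∈ S ↔ x ∈ S}
        one_mem' := fun x => by rw [one_mul]
        mul_mem' := fun {a b} ha hb x => by rw [mul_assoc, ha, hb]
        inv_mem' := fun {a} ha x => by rw [← ha, mul_inv_cancel_left] }
    have hR : Tg n gens ≤ R := by
      unfold Tg
      rw [Subgroup.closure_le]
      rintro _ ⟨g, hg, rfl⟩ x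
      have hmaps : Set.MapsTo (fun x => P n g * x) S S := fun x hx => hcl g hg x hx
      constructor
      · intro hx
        have himg : (fun x => P n g * x) '' S = S := by
          have h6 : (fun x => P n g * x) '' S ⊆ S := Set.image_subset_iff.2 hmaps
          have h7 : S.ncard ≤ ((fun x => P n g * x) '' S).ncard := by
            rw [Set.ncard_image_of_injective _ fun a b hab => mul_left_cancel hab]
          exact Set.eq_of_subset_of_ncard_le h6 h7 hS
        have hx' : P n g * x ∈ (fun x => P n g * x) '' S := by rw [himg]; exact hx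
        obtain ⟨y, hy, hyx⟩ := hx'
        rwa [← mul_left_cancel (show P n g * y = P n g * x from hyx)]
      · exact fun hx => hmaps hx
    intro hx
    have h5 := (hR hx 1).2 ⟨[], h3, by rw [wd_nil, P_nil]⟩
    rwa [mul_one] at h5
  · rintro ⟨w, -, rfl⟩
    exact P_wd_mem hm h1 w

/-- sums over the subgroup -/
theorem sum_Tg {M : Type*} [AddCommMonoid M] (hm : m ≤ n) (h : chkG m gens els = true) [Fintype ↥(Tg n gens)]
    (f : ↥(alternatingGroup (Fin n)) → M) : ∑ x : ↥(Tg n gens), f x = (els.map fun w => f (P n (wd gens w))).sum := by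
  classical
  obtain ⟨h1, h2, h3, h4⟩ := chkG_spec h
  have hnd : (els.map fun w => P n (wd gens w)).Nodup := by
    have h5 : Function.Injective fun l : List ℕ => l := fun _ _ h => h
    rw [List.nodup_map_iff_inj_on (List.Nodup.of_map _ h2)]
    intro a ha b hb hab
    rw [P_eq_iff hm (vl_wd h1 a) (vl_wd h1 b)] at hab
    exact (List.inj_on_of_nodup_map h2) ha hb hab
  have h5 : (Finset.univ.filter fun x => x ∈ Tg n gens) = (els.map fun w => P n (wd gens w)).toFinset := by
    ext x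
    rw [Finset.mem_filter, List.mem_toFinset, List.mem_map, and_iff_right (Finset.mem_univ x), mem_Tg_iff hm h]
  rw [← Finset.sum_subtype (Finset.univ.filter fun x => x ∈ Tg n gens) (fun x => by
    rw [Finset.mem_filter, and_iff_right (Finset.mem_univ x)]) f, h5, List.sum_toFinset _ hnd, List.map_map]
  rfl

theorem card_Tg (hm : m ≤ n) (h : chkG m gens els = true) [Fintype ↥(Tg n gens)] :
    Fintype.card ↥(Tg n gens) = els.length := by
  have h1 := sum_Tg hm h (fun _ => (1 : ℕ))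
  rw [Finset.sum_const, Finset.card_univ, smul_eq_mul, mul_one] at h1
  rw [h1, List.map_const', List.sum_replicate, smul_eq_mul, mul_one]

theorem zip_sum {α β M : Type*} [AddCommMonoid M] (f : α → M) (g : β → M) : ∀ (l : List α) (l' : List β),
    l.length = l'.length → (∀ e ∈ l.zip l', f e.1 = g e.2) → (l.map f).sum = (l'.map g).sum := by
  intro l
  induction l with
  | nil =>
    intro l' h _
    have h1 : l' = [] := List.length_eq_zero_iff.1 h.symm
    rw [h1]; rfl
  | cons a l ih =>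
    intro l' h h1
    cases l' with
    | nil => simp at h
    | cons b l' =>
      rw [List.map_cons, List.sum_cons, List.map_cons, List.sum_cons, h1 (a, b) (by simp),
        ih l' (by simpa using h) fun e he => h1 e (by simp [he])]

theorem sum_count {M : Type*} [AddCommMonoid M] (f : ℕ → M) (K : ℕ) (l : List ℕ) (h : ∀ a ∈ l, a < K) :
    (l.map f).sum = ∑ k ∈ Finset.range K, l.count k • f k := by
  induction l with
  | nil => simp
  | cons a l ih =>
    rw [List.map_cons, List.sum_cons, ih fun b hb => h b (List.mem_cons_of_mem a hb)]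
    have ha : a < K := h a List.mem_cons_self
    have h1 : ∀ k ∈ Finset.range K, (a :: l).count k • f k = (if k = a then f a else 0) + l.count k • f k := by
      intro k _
      rw [List.count_cons, add_smul, add_comm]
      congr 1
      by_cases hk : k = a
      · subst hk; simp
      · have h2 : ¬ (a == k) = true := by simpa using fun h => hk h.symm
        rw [if_neg h2, if_neg hk, zero_smul]
    rw [Finset.sum_congr rfl h1, Finset.sum_add_distrib, Finset.sum_ite_eq' (Finset.range K) a,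
      if_pos (Finset.mem_range.2 ha)]

/-- sums of class functions over cosets -/
theorem sum_cls {M : Type*} [AddCommMonoid M] (hm : m ≤ n) (h : chkG m gens els = true) {r : List (ℕ × ℕ)}
    {reps : List (List (ℕ × ℕ))} {dat : List (ℕ × List (ℕ × ℕ))} (hC : chkC m gens els r reps dat = true)
    [Fintype ↥(Tg n gens)] (f : ↥(alternatingGroup (Fin n)) → M) (hf : ∀ g x, f (g * x * g⁻¹) = f x) :
    ∑ x : ↥(Tg n gens), f (x * P n r) =
      ∑ k ∈ Finset.range reps.length, (dat.map Prod.fst).count k • f (P n (reps.getD k [])) := by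
  obtain ⟨h1, -, -, -⟩ := chkG_spec h
  unfold chkC at hC
  simp only [Bool.and_eq_true] at hC
  obtain ⟨⟨⟨⟨c1, c2⟩, c3⟩, c4⟩, c5⟩ := hC
  have c1' := nb.1 c1
  have c4' : ∀ d ∈ dat, vl m d.2 = true ∧ d.1 < reps.length := fun d hd => by
    have h2 := List.all_eq_true.1 c4 d hd
    rw [Bool.and_eq_true, Nat.blt_eq] at h2
    exact h2
  rw [sum_Tg hm h (fun x => f (x * P n r)),
    zip_sum _ (fun d : ℕ × List (ℕ × ℕ) => f (P n (reps.getD d.1 []))) els dat c1' ?_]
  · rw [← sum_count (fun k => f (P n (reps.getD k []))) reps.length (dat.map Prod.fst) ?_, List.map_map]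
    · rfl
    · intro a ha
      obtain ⟨d, hd, rfl⟩ := List.mem_map.1 ha
      exact (c4' d hd).2
  · intro e he
    have h2 := List.all_eq_true.1 c5 e he
    have h3 := eq_of_beq h2
    have he2 := c4' e.2 (List.of_mem_zip he).2
    have hw := vl_wd h1 e.1
    have hr := vl_getD c3 e.2.1
    have h4 := (P_eq_iff (n := n) hm (vl_append hw (vl_append c2 he2.1)) (vl_append he2.1 hr)).2 h3
    rw [P_append hm hw (vl_append c2 he2.1), P_append hm c2 he2.1, P_append hm he2.1 hr, ← mul_assoc] at h4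
    show f (P n (wd gens e.1) * P n r) = f (P n (reps.getD e.2.1 []))
    rw [← hf (P n e.2.2) (P n (reps.getD e.2.1 [])), ← h4, mul_inv_cancel_right]

section dim
variable {F : Type*} [Field F] {W : Type*} [AddCommGroup W] [Module F W]

theorem om_conj {X : Type*} [Group X] (ρ : Representation F X W) (g x : X) : om ρ (g * x * g⁻¹) = om ρ x := by
  unfold om
  have h1 : orderOf (g * x * g⁻¹) = orderOf x := by
    have h2 := MulAut.conj_apply g x
    rw [← h2]
    exact orderOf_injective (MulAut.conj g).toMonoidHom (MulAut.conj g).injective x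
  rw [h1]
  congr 1
  refine Finset.sum_congr rfl fun a _ => ?_
  have h3 : (g * x * g⁻¹) ^ a.1 = g * x ^ a.1 * g⁻¹ := by
    rw [← MulAut.conj_apply, ← map_pow, MulAut.conj_apply]
  rw [h3, Cfsg.Agent.H944.E6T.ev_conj]

/-- **the dimension of the fixed points of an explicit subgroup** -/
theorem dimT [Finite F] [FiniteDimensional F W] (hm : m ≤ n) (h : chkG m gens els = true) {reps : List (List (ℕ × ℕ))}
    {dat : List (ℕ × List (ℕ × ℕ))} (hC : chkC m gens els [] reps dat = true) (hF : ((els.length : ℕ) : F) ≠ 0)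
    (ρ : Representation F ↥(alternatingGroup (Fin n)) W) :
    (els.length : ℚ) * (finrank F ↥(inv ρ (Tg n gens)) : ℚ) =
      ∑ k ∈ Finset.range reps.length, ((dat.map Prod.fst).count k : ℚ) * om ρ (P n (reps.getD k [])) := by
  classical
  have := Fintype.ofFinite ↥(Tg n gens)
  have h1 := artin (T := ↥(Tg n gens)) (by rw [card_Tg hm h]; exact hF) (MonoidHom.comp ρ (Tg n gens).subtype)
  rw [card_Tg hm h, ← inv_eq_invariants] at h1
  rw [h1]
  have h2 : ∀ x : ↥(Tg n gens), om (MonoidHom.comp ρ (Tg n gens).subtype) x =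
      (fun y => om ρ y) ((x : ↥(alternatingGroup (Fin n))) * P n []) := by
    intro x
    rw [om_comp ρ (Tg n gens).subtype (Subgroup.subtype_injective _), P_nil, mul_one]
    rfl
  rw [Finset.sum_congr rfl fun x _ => h2 x, sum_cls hm h hC _ (om_conj ρ)]
  refine Finset.sum_congr rfl fun k _ => ?_
  rw [nsmul_eq_mul]

end dim

end tab

end Cfsg.Agent.R2.T1.Odd

private theorem dce_8e1486468a8b : _root_.True := by
  try have : _root_.True := by simp only [_root_.Cfsg.Agent.R2.T1.Odd.pm.eq_1]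
  try have : _root_.True := by simp only [_root_.Cfsg.Agent.R2.T1.Odd.P.eq_1]
  try have : _root_.True := by simp only [_root_.Cfsg.Agent.R2.T1.Odd.P.congr_simp]
  exact _root_.True.intro
end
end
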